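import Groth.Agent.EGA2.K34.NormExt
import Groth.Agent.S0567
import Groth.Agent.Ega4B.NagBasic
import Groth.Agent.S4448

/-!
# The normalization of a Nagata integral scheme in a finite extension of its function field
-/

set_option autoImplicit false
set_option linter.style.haveILetI false
universe u
open CategoryTheory Limits AlgebraicGeometry

namespace K269.NormFin

open Groth.Agent Groth.Agent.Ega2.NormChart Groth.Agent.Ega2.NormCurve K34.NormExt

variable {X : Scheme.{u}} [IsIntegral X] (K : Type u) [Field K] (φ : X.functionField →+* K)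
  [QuasiCompact (gen K φ)] [QuasiSeparated (gen K φ)]

theorem isFinite_fromNormalization (hX : ∀ U : X.affineOpens, CAlg.IsNagata Γ(X, U)) (hφ : φ.Finite) :
    IsFinite (gen K φ).fromNormalization := by
  rw [isFinite_iff]
  refine ⟨inferInstance, fun U hU => ?_⟩
  by_cases hne : Nonempty U
  · have hfU := preimage_gen_eq_top K φ U
    let : Algebra X.functionField K := φ.toAlgebra
    have : FiniteDimensional X.functionField K := hφ
    let : Algebra Γ(X, U) K := (toK (gen K φ) U hfU).toAlgebra
    have : IsScalarTower Γ(X, U) X.functionField K :=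
      IsScalarTower.of_algebraMap_eq' (toK_gen K φ hU hfU)
    have : IsFractionRing Γ(X, U) X.functionField :=
      functionField_isFractionRing_of_isAffineOpen X U hU
    have hN2 := ((Groth.Agent.S0567.result Γ(X, U)).mp (hX ⟨U, hU⟩)).2 Γ(X, U) inferInstance
    have hfin : Module.Finite Γ(X, U) (integralClosure Γ(X, U) K) :=
      Groth.Agent.Ega4B.NagBasic.n2For Γ(X, U) hN2 X.functionField K
    let : Algebra Γ(X, U) Γ(Spec (CommRingCat.of K), (gen K φ) ⁻¹ᵁ U) :=
      ((gen K φ).app U).hom.toAlgebra
    let e : K ≃ₐ[Γ(X, U)] Γ(Spec (CommRingCat.of K), (gen K φ) ⁻¹ᵁ U) :=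
      (AlgEquiv.ofRingEquiv (f := (sectIso (gen K φ) U hfU).commRingCatIsoToRingEquiv)
        (fun r => congr($(app_sectIso (gen K φ) U hfU) r))).symm
    have hfin2 : Module.Finite Γ(X, U)
        (integralClosure Γ(X, U) Γ(Spec (CommRingCat.of K), (gen K φ) ⁻¹ᵁ U)) :=
      Module.Finite.equiv (AlgEquiv.mapIntegralClosure e).toLinearEquiv
    rw [Scheme.Hom.fromNormalization_app _ hU, CommRingCat.hom_comp]
    refine RingHom.Finite.comp ?_ ?_
    · exact RingHom.Finite.of_surjective _
        ((gen K φ).normalizationObjIso hU).symm.commRingCatIsoToRingEquiv.surjective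
    · exact hfin2
  · have hbot : U = ⊥ := by
      ext x
      simp only [TopologicalSpace.Opens.coe_bot, Set.mem_empty_iff_false, iff_false]
      intro hx
      exact hne ⟨⟨x, hx⟩⟩
    subst hbot
    have : Subsingleton Γ((gen K φ).normalization, (gen K φ).fromNormalization ⁻¹ᵁ ⊥) := by
      have e : (gen K φ).fromNormalization ⁻¹ᵁ ⊥ = ⊥ := rfl
      rw [e]
      infer_instance
    exact RingHom.Finite.of_surjective _ (fun y => ⟨0, Subsingleton.elim _ _⟩)

/-- The normalization in a finite extension of the function field. -/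
theorem exists_norm {X : Scheme.{u}} [IsIntegral X] (hX : ∀ U : X.affineOpens, CAlg.IsNagata Γ(X, U))
    (L : Type u) [Field L] [Algebra X.functionField L] [FiniteDimensional X.functionField L] :
    ∃ (X₁ : Scheme.{u}) (π : X₁ ⟶ X) (_ : IsIntegral X₁) (e : Spec (CommRingCat.of L) ⟶ X₁),
      IsFinite π ∧ Surjective π ∧ Pi1.IsNormalScheme X₁ ∧
      e ≫ π = Spec.map (CommRingCat.ofHom (algebraMap X.functionField L)) ≫ X.fromSpecStalk (genericPoint X) ∧
      e (IsLocalRing.closedPoint L) = genericPoint X₁ ∧ Function.Bijective (Scheme.stalkClosedPointTo e).hom := by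
  let φ : X.functionField →+* L := algebraMap X.functionField L
  have hsub : Finite (Spec (CommRingCat.of L)) := inferInstanceAs (Finite (PrimeSpectrum L))
  have i1 : QuasiCompact (gen L φ) := ⟨fun _ _ _ => Set.Finite.isCompact (Set.toFinite _)⟩
  have i2 : QuasiSeparated (gen L φ) := inferInstance
  obtain ⟨j1, j2, -, j4, j5, j6⟩ := S4448.result X L φ (gen L φ) rfl
  refine ⟨(gen L φ).normalization, (gen L φ).fromNormalization, j1, (gen L φ).toNormalization, ?_, ?_, j2, ?_, j4,
    j5, ?_⟩
  · exact isFinite_fromNormalization L φ hX (RingHom.finite_algebraMap.mpr inferInstance)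
  · exact surjective_fromNormalization L φ
  · exact Scheme.Hom.toNormalization_fromNormalization _
  · rw [← Set.range_eq_univ, Set.eq_univ_iff_forall]
    intro y
    have h : y ∈ {y : L | ∃ q : Polynomial X.functionField, q.Monic ∧ Polynomial.eval₂ φ y q = 0} :=
      Algebra.IsIntegral.isIntegral (R := X.functionField) y
    rw [← j6] at h
    exact h

end K269.NormFin
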