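import Mathlib.RingTheory.Finiteness.Quotient
import Mathlib.RingTheory.Noetherian.Basic
import Mathlib.RingTheory.Ideal.Quotient.Operations
import Mathlib.LinearAlgebra.Quotient.Basic

/-!
# Finiteness of `B ⧸ I ^ n` over `R` when `R → B ⧸ I` is surjective
-/

set_option autoImplicit false

namespace K269.FinPow

variable {R B : Type*} [CommRing R] [CommRing B] [Algebra R B] (I : Ideal B)
  (hI : ∀ b : B, ∃ r : R, b - algebraMap R B r ∈ I)

include hI in
theorem finite_of_smul_eq_zero (M : Type*) [AddCommGroup M] [Module B M] [Module R M]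
    [IsScalarTower R B M] [Module.Finite B M] (h : ∀ i ∈ I, ∀ m : M, i • m = 0) :
    Module.Finite R M := by
  obtain ⟨s, hs⟩ := Module.Finite.fg_top (R := B) (M := M)
  refine ⟨⟨s, ?_⟩⟩
  rw [eq_top_iff]
  rintro x -
  have hx : x ∈ Submodule.span B (s : Set M) := hs ▸ Submodule.mem_top
  induction hx using Submodule.span_induction with
  | mem x hx => exact Submodule.subset_span hx
  | zero => exact Submodule.zero_mem _
  | add x y _ _ hx hy => exact Submodule.add_mem _ hx hy
  | smul b x _ hx =>
    obtain ⟨r, hr⟩ := hI b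
    have h1 : b • x = r • x := by
      have h2 := h _ hr x
      rw [sub_smul, sub_eq_zero, algebraMap_smul] at h2
      exact h2
    rw [h1]
    exact Submodule.smul_mem _ _ hx

include hI in
theorem finite_of_pow [IsNoetherianRing B] (n : ℕ) : ∀ (M : Type _) [AddCommGroup M] [Module B M]
    [Module R M] [IsScalarTower R B M] [Module.Finite B M],
    (I ^ n • (⊤ : Submodule B M) = ⊥) → Module.Finite R M := by
  induction n with
  | zero =>
    intro M _ _ _ _ _ h
    rw [pow_zero, Ideal.one_eq_top, Submodule.top_smul] at h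
    have : Subsingleton M := (Submodule.subsingleton_iff B).1 (subsingleton_of_bot_eq_top h.symm)
    infer_instance
  | succ n ih =>
    intro M _ _ _ _ _ h
    let N : Submodule B M := I ^ n • (⊤ : Submodule B M)
    have hN : Module.Finite R (N.restrictScalars R) := by
      refine finite_of_smul_eq_zero I hI (N : Type _) ?_
      rintro i hi ⟨m, hm⟩
      apply Subtype.ext
      show i • m = 0
      have h1 : i • m ∈ I • N := Submodule.smul_mem_smul hi hm
      rw [← Submodule.mul_smul, ← pow_succ', h] at h1
      exact h1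
    have hQ : Module.Finite R (M ⧸ (N.restrictScalars R)) := by
      refine ih (M ⧸ N) ?_
      rw [eq_bot_iff, Submodule.smul_le]
      rintro r hr x -
      obtain ⟨x, rfl⟩ := N.mkQ_surjective x
      rw [Submodule.mem_bot, ← map_smul]
      exact (Submodule.Quotient.mk_eq_zero N).2 (Submodule.smul_mem_smul hr trivial)
    exact Module.Finite.of_submodule_quotient (N.restrictScalars R)

include hI in
theorem finite_quotient_pow [IsNoetherianRing B] (n : ℕ) : Module.Finite R (B ⧸ I ^ n) := by
  refine finite_of_pow I hI n (B ⧸ I ^ n) ?_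
  rw [eq_bot_iff, Submodule.smul_le]
  rintro r hr x -
  obtain ⟨x, rfl⟩ := Ideal.Quotient.mk_surjective x
  rw [Submodule.mem_bot, Algebra.smul_def]
  show Ideal.Quotient.mk _ r * Ideal.Quotient.mk _ x = 0
  rw [Ideal.Quotient.eq_zero_iff_mem.2 hr, zero_mul]

end K269.FinPow
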