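import Groth.Agent.GrpSch.K269.PushInj
import Groth.Agent.GrpSch.K269.FinPow
import Groth.Agent.S0036
import Groth.Agent.Dcoh.DerSch
import Groth.Agent.Ega1.QcqsPush

/-!
# Coherence of the direct image of a line bundle on a smooth scheme with a section which is proper with connected
fibres over a schematically dense open
-/

set_option autoImplicit false
universe u

open CategoryTheory CategoryTheory.Limits AlgebraicGeometry TopologicalSpace
open Groth.Agent Groth.Agent.Smoothlim.LineSec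

namespace K269.PushCoh

open K269.PushKer K269.PushInj

/-- Sections of the direct image of a coherent module over an affine open over which the morphism is proper. -/
theorem finite_sections_push {X S : Scheme.{u}} (f : X ⟶ S) [QuasiCompact f] [QuasiSeparated f]
    [IsLocallyNoetherian S] (M : X.Modules) (hM : Coh.IsCoh M) {V : S.Opens} (hV : IsAffineOpen V)
    (hp : IsProper (f ∣_ V)) : Module.Finite Γ(S, V) Γ((Coh.push f).obj M, V) := by
  have := Dcoh.DerSch.hasInjectiveResolutions X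
  have h1 : Module.Finite Γ(S, V) Γ((Coh.Rpush f 0).obj M, V) := by
    apply CohqB.RpushFin.finite_sections_Rpush f M hM.1 0 hV
    let _ : (f ⁻¹ᵁ V).toScheme.Over (Spec (CommRingCat.of Γ(S, V))) :=
        ⟨(f ∣_ V) ≫ hV.isoSpec.hom⟩
    have hN : IsNoetherianRing Γ(S, V) := IsLocallyNoetherian.component_noetherian ⟨V, hV⟩
    have hP : IsProper ((f ⁻¹ᵁ V).toScheme ↘ Spec (CommRingCat.of Γ(S, V))) := by
      change IsProper ((f ∣_ V) ≫ hV.isoSpec.hom)
      infer_instance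
    exact Groth.Agent.S0002.result Γ(S, V) (f ⁻¹ᵁ V).toScheme (M.restrict (f ⁻¹ᵁ V).ι)
      (Groth.Agent.CohqB.LocalQC.isCoh_restrict _ hM) 0
  let e : (Coh.Rpush f 0).obj M ≅ (Coh.push f).obj M :=
    ((Scheme.Modules.pushforward f).rightDerivedZeroIsoSelf).app M
  refine Module.Finite.of_surjective (CohqB.FiniteType2.appLinear e.hom V) ?_
  intro x
  refine ⟨e.inv.app V x, ?_⟩
  rw [CohqB.FiniteType2.appLinear_apply]
  have h2 : (e.inv ≫ e.hom).app V x = x := by
    rw [e.inv_hom_id]; rfl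
  exact h2

/-- Restricting sections of `ker` to a smaller open. -/
theorem res_mem_ker {A S : Scheme.{u}} (f : A ⟶ S) (e : S ⟶ A) {L : A.Modules}
    {V V' : S.Opens} {W W' : A.Opens} (hWV : W ≤ f ⁻¹ᵁ V) (hVW : V ≤ e ⁻¹ᵁ W)
    (hWV' : W' ≤ f ⁻¹ᵁ V') (hVW' : V' ≤ e ⁻¹ᵁ W') (hV : V' ≤ V) (hW : W' ≤ W)
    (t : Γ(L, W)) (n : ℕ) (m : Γ(L, f ⁻¹ᵁ V))
    (hm : (show Γ((Coh.push f).obj L, V) from m) ∈ ker f e hWV hVW t n) :
    (show Γ((Coh.push f).obj L, V') from
      (res (M := L) (U := f ⁻¹ᵁ V) (V := f ⁻¹ᵁ V') (fun _ hx => hV hx) m)) ∈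
        ker f e hWV' hVW' (res hW t) n := by
  obtain ⟨b, hb, hbm⟩ := hm
  have hbm' : res hWV m = b • t := hbm
  refine ⟨resO hW b, ?_, ?_⟩
  · have h1 : (RingHom.ker (es e hVW)).map (A.presheaf.map (homOfLE hW).op).hom ≤
        RingHom.ker (es e hVW') := by
      rw [Ideal.map_le_iff_le_comap]
      intro x hx
      rw [Ideal.mem_comap, RingHom.mem_ker]
      have hx' : (e.appLE W V hVW) x = 0 := hx
      have h2 : A.presheaf.map (homOfLE hW).op ≫ e.appLE W' V' hVW' =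
          e.appLE W V hVW ≫ S.presheaf.map (homOfLE hV).op := by
        rw [Scheme.Hom.map_appLE, Scheme.Hom.appLE_map]
      have h3 := congr($h2 x)
      refine h3.trans ?_
      rw [CommRingCat.comp_apply, hx', map_zero]
    have h2 := Ideal.mem_map_of_mem (A.presheaf.map (homOfLE hW).op).hom hb
    rw [Ideal.map_pow] at h2
    exact Ideal.pow_right_mono h1 n h2
  · show res hWV' (res _ m) = _
    rw [res_res, ← res_smul, ← hbm', res_res]

/-- The direct image is finitely generated over the open `V` if sections vanishing to order `n` are zero. -/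
theorem finite_of_ker_eq_bot {A S : Scheme.{u}} [IsLocallyNoetherian S] (f : A ⟶ S)
    [LocallyOfFiniteType f] (e : S ⟶ A) (he : e ≫ f = 𝟙 S) (L : A.Modules)
    {V : S.Opens} (hV : IsAffineOpen V) {W : A.Opens} (hW : IsAffineOpen W)
    (hWV : W ≤ f ⁻¹ᵁ V) (hVW : V ≤ e ⁻¹ᵁ W) (t : Γ(L, W)) (ht : IsGen t) (n : ℕ)
    (h : ker f e hWV hVW t n = ⊥) : Module.Finite Γ(S, V) Γ((Coh.push f).obj L, V) := by
  have hA : IsLocallyNoetherian A := LocallyOfFiniteType.isLocallyNoetherian f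
  have hN : IsNoetherianRing Γ(S, V) := IsLocallyNoetherian.component_noetherian ⟨V, hV⟩
  have hN' : IsNoetherianRing Γ(A, W) := IsLocallyNoetherian.component_noetherian ⟨W, hW⟩
  let _ : Algebra Γ(S, V) Γ(A, W) := (fs f hWV).toAlgebra
  have hfin : Module.Finite Γ(S, V) (Γ(A, W) ⧸ (RingHom.ker (es e hVW)) ^ n) := by
    refine FinPow.finite_quotient_pow _ (fun b => ⟨es e hVW b, ?_⟩) n
    rw [RingHom.mem_ker, map_sub]
    show es e hVW b - es e hVW (fs f hWV (es e hVW b)) = 0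
    rw [es_fs f e he, sub_self]
  have hb : Function.Bijective (fun a : Γ(A, W) => a • t) := by
    have := ht W le_rfl
    simpa only [res_self] using this
  let β : Γ(A, W) ≃ₗ[Γ(A, W)] Γ(L, W) :=
    LinearEquiv.ofBijective (LinearMap.toSpanSingleton _ _ t) hb
  let φ : Γ((Coh.push f).obj L, V) →ₗ[Γ(S, V)] (Γ(A, W) ⧸ (RingHom.ker (es e hVW)) ^ n) :=
    { toFun := fun m => Ideal.Quotient.mk _ (β.symm (res (M := L) hWV m))
      map_add' := fun m m' => by
        have h1 : res (M := L) hWV (m + m') = res (M := L) hWV m + res (M := L) hWV m' :=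
          res_add (M := L) hWV m m'
        rw [h1, map_add, map_add]
      map_smul' := fun r m => by
        rw [res_smul_push, map_smul]
        rfl }
  have hφ : Function.Injective φ := by
    rw [injective_iff_map_eq_zero]
    intro m hm
    have h1 : m ∈ ker f e hWV hVW t n := by
      refine ⟨β.symm (res (M := L) hWV m), Ideal.Quotient.eq_zero_iff_mem.1 hm, ?_⟩
      exact (β.apply_symm_apply (res (M := L) hWV m)).symm
    rw [h] at h1
    exact h1
  exact Module.Finite.of_injective φ hφ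

theorem isProper_of_le {A S : Scheme.{u}} (f : A ⟶ S) {D U : S.Opens} (hp : IsProper (f ∣_ U))
    (h : D ≤ U) : IsProper (f ∣_ D) := by
  have h1 : IsPullback (f ⁻¹ᵁ D).ι (f ∣_ D) f D.ι := (isPullback_morphismRestrict f D).flip
  have h2 : IsPullback (f ⁻¹ᵁ U).ι (f ∣_ U) f U.ι := (isPullback_morphismRestrict f U).flip
  have h' : f ⁻¹ᵁ D ≤ f ⁻¹ᵁ U := fun _ hx => h hx
  have h3 : IsPullback (A.homOfLE h' ≫ (f ⁻¹ᵁ U).ι) (f ∣_ D) f (S.homOfLE h ≫ U.ι) := by
    rw [Scheme.homOfLE_ι, Scheme.homOfLE_ι]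
    exact h1
  have h4 : A.homOfLE h' ≫ (f ∣_ U) = (f ∣_ D) ≫ S.homOfLE h := by
    rw [← cancel_mono U.ι, Category.assoc, Category.assoc, morphismRestrict_ι, Scheme.homOfLE_ι,
      morphismRestrict_ι, ← Category.assoc, Scheme.homOfLE_ι]
  exact MorphismProperty.of_isPullback (IsPullback.of_right h3 h4 h2) hp

/-- The direct image of an invertible module under a smooth quasi-compact separated morphism with a section, proper
with connected fibres over a schematically dense open, is coherent. -/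
theorem isCoh_push {A S : Scheme.{u}} [IsLocallyNoetherian S] (f : A ⟶ S) [Smooth f]
    [QuasiCompact f] [IsSeparated f] (e : S ⟶ A) (he : e ≫ f = 𝟙 S) (L : A.Modules)
    (hL : PicF.IsInvertible L) (U : S.Opens) (hU : CInt.IsSchematicallyDense U)
    (hp : IsProper (f ∣_ U)) (hc : ∀ s ∈ U, _root_.IsPreconnected (f ⁻¹' {s})) :
    Coh.IsCoh ((Coh.push f).obj L) := by
  have hA : IsLocallyNoetherian A := LocallyOfFiniteType.isLocallyNoetherian f
  have hLc : Coh.IsCoh L := Models.TrivGeom.isCoh_of_isInvertible hL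
  have hq : Coh.IsQCoh ((Coh.push f).obj L) := Ega1.QcqsPush.isQCoh_pushforward f L hLc.1
  refine ⟨hq, CohqB.FiniteType2.isFT_of_finite_sections _ fun s => ?_⟩
  -- choice of the opens
  obtain ⟨_, ⟨S₀, hS₀, rfl⟩, hsS₀, -⟩ :=
    S.isBasis_affineOpens.exists_subset_of_mem_open (Set.mem_univ s) isOpen_univ
  have hes : e s ∈ f ⁻¹ᵁ S₀ := by
    show f (e s) ∈ S₀
    rw [← Scheme.Hom.comp_apply, he]; exact hsS₀
  obtain ⟨W₀, t₀, hsW₀, hW₀S, hW₀, ht₀⟩ := exists_gen_affine hL hes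
  obtain ⟨h, hh, hsh⟩ := hS₀.exists_basicOpen_le (V := e ⁻¹ᵁ W₀) ⟨s, hsW₀⟩ hsS₀
  let V : S.Opens := S.basicOpen h
  have hV : IsAffineOpen V := hS₀.basicOpen h
  have hVS₀ : V ≤ S₀ := S.basicOpen_le h
  let W : A.Opens := A.basicOpen (f.appLE S₀ W₀ hW₀S h)
  have hW : IsAffineOpen W := hW₀.basicOpen _
  have hWeq : W = W₀ ⊓ f ⁻¹ᵁ V := Scheme.basicOpen_appLE f W₀ S₀ hW₀S h
  have hWV : W ≤ f ⁻¹ᵁ V := hWeq.le.trans inf_le_right
  have hWW₀ : W ≤ W₀ := hWeq.le.trans inf_le_left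
  have hef : ∀ x : S, f (e x) = x := fun x => by
    rw [← Scheme.Hom.comp_apply, he]; rfl
  have hVW : V ≤ e ⁻¹ᵁ W := by
    intro x hx
    show e x ∈ W
    rw [hWeq]
    exact ⟨hh hx, by show f (e x) ∈ V; rw [hef]; exact hx⟩
  let t : Γ(L, W) := res hWW₀ t₀
  have ht : IsGen t := ht₀.res hWW₀
  refine ⟨V, hsh, hV, ?_⟩
  have hN : IsNoetherianRing Γ(S, V) := IsLocallyNoetherian.component_noetherian ⟨V, hV⟩
  -- the basic opens inside `U`
  have key : ∀ g : Γ(S, V), S.basicOpen g ≤ U → ∃ n, ∀ m : Γ(L, f ⁻¹ᵁ V),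
      (show Γ((Coh.push f).obj L, V) from m) ∈ ker f e hWV hVW t n →
        res (M := L) (U := f ⁻¹ᵁ V) (V := f ⁻¹ᵁ S.basicOpen g) (fun _ hx => S.basicOpen_le g hx) m = 0 := by
    intro g hg
    have hDa : IsAffineOpen (S.basicOpen g) := hV.basicOpen g
    have hDV : S.basicOpen g ≤ V := S.basicOpen_le g
    have hpD : IsProper (f ∣_ S.basicOpen g) := isProper_of_le f hp hg
    have := finite_sections_push f L hLc hDa hpD
    let W' : A.Opens := A.basicOpen (f.appLE V W hWV g)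
    have hW' : IsAffineOpen W' := hW.basicOpen _
    have hW'eq : W' = W ⊓ f ⁻¹ᵁ S.basicOpen g := Scheme.basicOpen_appLE f W V hWV g
    have hWV' : W' ≤ f ⁻¹ᵁ S.basicOpen g := hW'eq.le.trans inf_le_right
    have hW'W : W' ≤ W := hW'eq.le.trans inf_le_left
    have hVW' : S.basicOpen g ≤ e ⁻¹ᵁ W' := by
      intro x hx
      show e x ∈ W'
      rw [hW'eq]
      exact ⟨hVW (hDV hx), by show f (e x) ∈ S.basicOpen g; rw [hef]; exact hx⟩
    obtain ⟨n, hn⟩ := exists_ker_eq_bot f e he L hL hDa (fun s hs => hc s (hg hs)) hW' hWV' hVW'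
      (res hW'W t) (ht.res hW'W)
    refine ⟨n, fun m hm => ?_⟩
    have h1 := res_mem_ker f e hWV hVW hWV' hVW' hDV hW'W t n m hm
    rw [hn] at h1
    exact h1
  choose! n hn using key
  have hcpt : IsCompact ((V ⊓ U : S.Opens) : Set S) := by
    have hNS : NoetherianSpace ((V : Set S) : Type u) := noetherianSpace_of_isAffineOpen V hV
    exact (noetherianSpace_set_iff (V : Set S)).1 hNS _ fun _ hx => hx.1
  -- finitely many basic opens cover `V ⊓ U`
  obtain ⟨G, hG⟩ := hcpt.elim_finite_subcover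
    (fun g : {g : Γ(S, V) // S.basicOpen g ≤ U} => (S.basicOpen g.1 : Set S))
    (fun g => (S.basicOpen g.1).2) (fun x hx => by
      obtain ⟨g, hgU, hxg⟩ := hV.exists_basicOpen_le (V := U) ⟨x, hx.2⟩ hx.1
      exact Set.mem_iUnion.2 ⟨⟨g, hgU⟩, hxg⟩)
  obtain ⟨N, hNG⟩ : ∃ N, ∀ g ∈ G, n g.1 ≤ N := by
    refine ⟨G.sup fun g => n g.1, fun g hg => ?_⟩
    exact Finset.le_sup (f := fun g : {g : Γ(S, V) // S.basicOpen g ≤ U} => n g.1) hg
  have hker : ker f e hWV hVW t N = ⊥ := by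
    rw [eq_bot_iff]
    intro m hm
    rw [Submodule.mem_bot]
    let m' : Γ(L, f ⁻¹ᵁ V) := m
    have h1 : res (M := L) (inf_le_left : f ⁻¹ᵁ V ⊓ f ⁻¹ᵁ U ≤ f ⁻¹ᵁ V) m' = 0 := by
      refine sep (fun g : G => f ⁻¹ᵁ S.basicOpen g.1.1)
        (fun g x hx => (⟨S.basicOpen_le g.1.1 hx, g.1.2 hx⟩ : f x ∈ V ∧ f x ∈ U)) ?_ fun g => ?_
      · intro x hx
        obtain ⟨g, hg⟩ := Set.mem_iUnion.1 (hG (show f x ∈ ((V ⊓ U : S.Opens) : Set S) from hx))
        obtain ⟨hgG, hxg⟩ := Set.mem_iUnion.1 hg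
        rw [Opens.mem_iSup]
        exact ⟨⟨g, hgG⟩, hxg⟩
      · rw [res_res, res_zero]
        exact hn g.1.1 g.1.2 m' (antitone_ker f e hWV hVW t (hNG g.1 g.2) hm)
    have h2 := S14330.injective_of_isSchematicallyDense L hL _ (S3844.result f U hU) (f ⁻¹ᵁ V)
    exact h2 (h1.trans (map_zero _).symm)
  exact finite_of_ker_eq_bot f e he L hV hW hWV hVW t ht N hker

end K269.PushCoh
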