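import Groth.Agent.Books.PointsAC
import Mathlib.RingTheory.Smooth.Basic
import Mathlib.RingTheory.Artinian.Ring
import Mathlib.RingTheory.Artinian.Algebra
import Mathlib.AlgebraicGeometry.Morphisms.Smooth
import Mathlib.AlgebraicGeometry.Morphisms.Finite

/-!
# Sections of smooth surjective affine morphisms over a finite scheme over an algebraically closed field
-/

set_option autoImplicit false

universe u

open CategoryTheory CategoryTheory.Limits AlgebraicGeometry

namespace K269.FinSec

section algebra

variable (k : Type u) [Field k] (B : Type u) [CommRing B] [Algebra k B] [Module.Finite k B]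

theorem surjective_pts : Function.Surjective (fun (b : B) (x : B →ₐ[k] k) => x b) := by
  have : IsArtinianRing B := isArtinian_of_tower k inferInstance
  have hker : Function.Injective (fun x : B →ₐ[k] k => RingHom.ker x) := by
    intro g h hgh
    ext a
    have h1 : a - algebraMap k B (g a) ∈ RingHom.ker g := by simp [RingHom.mem_ker]
    have h2 : RingHom.ker g = RingHom.ker h := hgh
    rw [h2, RingHom.mem_ker, map_sub, sub_eq_zero] at h1
    rw [h1]; simp
  have hmax : ∀ x : B →ₐ[k] k, (RingHom.ker x).IsMaximal := fun x =>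
    RingHom.ker_isMaximal_of_surjective _ (fun c => ⟨algebraMap k B c, by simp⟩)
  have hfin : Finite (B →ₐ[k] k) :=
    Finite.of_injective (fun x : B →ₐ[k] k => (⟨RingHom.ker x, hmax x⟩ : MaximalSpectrum B))
      (fun x y h => hker (congrArg MaximalSpectrum.asIdeal h))
  intro f
  obtain ⟨b, hb⟩ := Ideal.pi_quotient_surjective (I := fun x : B →ₐ[k] k => RingHom.ker x)
    (fun x y hxy => Ideal.isCoprime_of_isMaximal (fun h => hxy (hker h)))
    (fun x => Ideal.Quotient.mk _ (algebraMap k B (f x)))
  refine ⟨b, funext fun x => ?_⟩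
  have h1 := Ideal.Quotient.eq.1 (hb x)
  rw [RingHom.mem_ker, map_sub, AlgHom.commutes, sub_eq_zero] at h1
  exact h1

theorem isNilpotent_ker [IsAlgClosed k] (I : Ideal B) (hI : ∀ b ∈ I, ∀ x : B →ₐ[k] k, x b = 0) : IsNilpotent I := by
  have : IsArtinianRing B := isArtinian_of_tower k inferInstance
  obtain ⟨n, hn⟩ := IsArtinianRing.isNilpotent_nilradical (R := B)
  refine ⟨n, le_bot_iff.1 ?_⟩
  have h1 : I ≤ nilradical B := fun b hb => Groth.Agent.Books.PointsAC.isNilpotent_of_forall_point k B b (hI b hb)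
  calc I ^ n ≤ nilradical B ^ n := Ideal.pow_right_mono h1 n
    _ = ⊥ := hn

variable {k B}

/-- A point of the base lifts. -/
theorem exists_lift_point [IsAlgClosed k] {C : Type u} [CommRing C] [Algebra B C] [Algebra.FiniteType B C]
    (hs : Function.Surjective (PrimeSpectrum.comap (algebraMap B C))) (x : B →ₐ[k] k) :
    ∃ c : C →+* k, c.comp (algebraMap B C) = x.toRingHom := by
  let _ : Algebra k C := ((algebraMap B C).comp (algebraMap k B)).toAlgebra
  have : IsScalarTower k B C := IsScalarTower.of_algebraMap_eq' rfl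
  have : Algebra.FiniteType k C := Algebra.FiniteType.trans (S := B) inferInstance inferInstance
  have hmax : (RingHom.ker x).IsMaximal :=
    RingHom.ker_isMaximal_of_surjective _ (fun c => ⟨algebraMap k B c, by simp⟩)
  obtain ⟨q, hq⟩ := hs ⟨RingHom.ker x, hmax.isPrime⟩
  have hq' : q.asIdeal.comap (algebraMap B C) = RingHom.ker x := congrArg PrimeSpectrum.asIdeal hq
  have : Nontrivial (C ⧸ q.asIdeal) := Ideal.Quotient.nontrivial_iff.2 q.2.ne_top
  obtain ⟨c⟩ := Groth.Agent.Books.PointsAC.exists_point k (C ⧸ q.asIdeal)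
  refine ⟨(c.comp (Ideal.Quotient.mkₐ k q.asIdeal)).toRingHom, ?_⟩
  ext b
  have h1 : b - algebraMap k B (x b) ∈ RingHom.ker x := by simp [RingHom.mem_ker]
  rw [← hq', Ideal.mem_comap] at h1
  have h2 : c (Ideal.Quotient.mk q.asIdeal (algebraMap B C (b - algebraMap k B (x b)))) = 0 := by
    rw [Ideal.Quotient.eq_zero_iff_mem.2 h1, map_zero]
  rw [map_sub, map_sub, map_sub, sub_eq_zero] at h2
  refine Eq.trans h2 ?_
  have h3 : c (Ideal.Quotient.mk q.asIdeal (algebraMap k C (x b))) = x b := c.commutes (x b)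
  exact h3

/-- Sections. -/
theorem exists_algHom (C : Type u) [CommRing C] [Algebra B C] [Algebra.Smooth B C]
    (hs : Function.Surjective (PrimeSpectrum.comap (algebraMap B C))) (k : Type u) [Field k] [IsAlgClosed k]
    [Algebra k B] [Module.Finite k B] : Nonempty (C →ₐ[B] B) := by
  have hft : Algebra.FiniteType B C := inferInstance
  choose c hc using fun x : B →ₐ[k] k => exists_lift_point (C := C) hs x
  let P : Type u := (B →ₐ[k] k) → k
  let p : B →+* P := RingHom.pi fun x => x.toRingHom
  let _ : Algebra B P := p.toAlgebra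
  let f : C →ₐ[B] P :=
    { RingHom.pi c with
      commutes' := fun b => by
        funext x
        exact RingHom.congr_fun (hc x) b }
  have hsurj : Function.Surjective (Algebra.ofId B P) := surjective_pts k B
  have hnil : IsNilpotent (RingHom.ker (Algebra.ofId B P : B →+* P)) := by
    refine isNilpotent_ker k B _ fun b hb x => ?_
    exact congrFun (show p b = 0 from hb) x
  exact ⟨Algebra.FormallySmooth.liftOfSurjective f (Algebra.ofId B P) hsurj hnil⟩

end algebra

section scheme

theorem exists_section_Spec (k : Type u) [Field k] [IsAlgClosed k] {B : Type u} [CommRing B] [Algebra k B]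
    [Module.Finite k B] {X : Scheme.{u}} (f : X ⟶ Spec (CommRingCat.of B)) [Smooth f] [Surjective f] [IsAffineHom f] :
    ∃ s : Spec (CommRingCat.of B) ⟶ X, s ≫ f = 𝟙 _ := by
  have : IsAffine X := isAffine_of_isAffineHom f
  let φ : CommRingCat.of B ⟶ Γ(X, ⊤) := (Scheme.ΓSpecIso (CommRingCat.of B)).inv ≫ f.appTop
  have hφ : X.isoSpec.hom ≫ Spec.map φ = f := by
    change X.toSpecΓ ≫ Spec.map ((Scheme.ΓSpecIso (CommRingCat.of B)).inv ≫ f.appTop) = f
    rw [Spec.map_comp, ← Category.assoc, ← Scheme.toSpecΓ_naturality, Category.assoc,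
      toSpecΓ_SpecMap_ΓSpecIso_inv, Category.comp_id]
  have hφ' : Spec.map φ = X.isoSpec.inv ≫ f := by rw [← hφ, Iso.inv_hom_id_assoc]
  have hsm : Smooth (Spec.map φ) := by rw [hφ']; infer_instance
  have hsu : Surjective (Spec.map φ) := by rw [hφ']; infer_instance
  let _ : Algebra B Γ(X, ⊤) := φ.hom.toAlgebra
  have h1 : φ.hom.Smooth := (HasRingHomProperty.Spec_iff (P := @Smooth)).1 hsm
  have h2 : Algebra.Smooth B Γ(X, ⊤) := h1
  have h3 : Function.Surjective (PrimeSpectrum.comap (algebraMap B Γ(X, ⊤))) := hsu.1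
  obtain ⟨c⟩ := exists_algHom (B := B) Γ(X, ⊤) h3 k
  refine ⟨Spec.map (CommRingCat.ofHom c.toRingHom) ≫ X.isoSpec.inv, ?_⟩
  rw [Category.assoc, ← hφ', ← Spec.map_comp, ← Spec.map_id]
  congr 1
  ext b
  exact c.commutes b

/-- A smooth surjective affine morphism to a finite scheme over an algebraically closed field has a section. -/
theorem exists_section (k : Type u) [Field k] [IsAlgClosed k] {B : Type u} [CommRing B] [Algebra k B]
    [Module.Finite k B] {X S : Scheme.{u}} (f : X ⟶ S) [Smooth f] [Surjective f] [IsAffineHom f]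
    (e : S ≅ Spec (CommRingCat.of B)) : ∃ s : S ⟶ X, s ≫ f = 𝟙 _ := by
  obtain ⟨s, hs⟩ := exists_section_Spec k (f ≫ e.hom)
  refine ⟨e.hom ≫ s, ?_⟩
  rw [← cancel_mono e.hom, Category.assoc, Category.assoc, hs, Category.comp_id, Category.id_comp]

end scheme

end K269.FinSec
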