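import Mathlib.RingTheory.Artinian.Module
import Mathlib.RingTheory.Ideal.AssociatedPrime.Finiteness
import Mathlib.RingTheory.Localization.AtPrime.Basic
import Mathlib.Algebra.Module.LocalizedModule.Submodule
import Mathlib.Algebra.Module.Torsion.Basic
import Mathlib.RingTheory.Noetherian.Basic
import Mathlib.Algebra.Module.LocalizedModule.Basic
import Mathlib.RingTheory.Localization.Finiteness
import Mathlib.RingTheory.Localization.Submodule

/-!
# A Chevalley type lemma

A decreasing sequence `K n` of submodules of a finite module `M` over a Noetherian ring, whose localizations at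
every prime have zero intersection, is eventually zero.
-/

set_option autoImplicit false

namespace K269.ChevAss

open Module

/-- The socle of a finite module over a Noetherian local ring is Artinian. -/
theorem isArtinian_torsionBySet (R : Type*) [CommRing R] [IsLocalRing R] [IsNoetherianRing R]
    (N : Type*) [AddCommGroup N] [Module R N] [Module.Finite R N] :
    IsArtinian R (Submodule.torsionBySet R N (IsLocalRing.maximalIdeal R : Set R)) := by
  let _ : Field (R ⧸ IsLocalRing.maximalIdeal R) := Ideal.Quotient.field _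
  have : Module.Finite R (Submodule.torsionBySet R N (IsLocalRing.maximalIdeal R : Set R)) :=
    inferInstance
  have : IsArtinian (R ⧸ IsLocalRing.maximalIdeal R)
      (Submodule.torsionBySet R N (IsLocalRing.maximalIdeal R : Set R)) := by
    have : Module.Finite (R ⧸ IsLocalRing.maximalIdeal R)
      (Submodule.torsionBySet R N (IsLocalRing.maximalIdeal R : Set R)) :=
      Module.Finite.of_restrictScalars_finite R _ _
    infer_instance
  exact isArtinian_of_surjective_algebraMap (R := R ⧸ IsLocalRing.maximalIdeal R)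
    Ideal.Quotient.mk_surjective

variable {R : Type*} [CommRing R] [IsNoetherianRing R] {M : Type*} [AddCommGroup M] [Module R M]
  [Module.Finite R M]

/-- `p` is not the annihilator of an element of `K n` for large `n`. -/
theorem exists_forall_ne (K : ℕ → Submodule R M) (hK : Antitone K) (p : Ideal R)
    [p.IsPrime]
    (h : ∀ m : M, (∀ n, ∃ s, s ∉ p ∧ s • m ∈ K n) → ∃ t, t ∉ p ∧ t • m = 0) :
    ∃ n₀, ∀ n, n₀ ≤ n → ∀ x ∈ K n, ¬ (∀ a : R, a • x = 0 ↔ a ∈ p) := by
  let Rp := Localization.AtPrime p
  let N := LocalizedModule p.primeCompl M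
  have hN : IsNoetherianRing Rp := IsLocalization.isNoetherianRing p.primeCompl Rp inferInstance
  have : Module.Finite Rp N := Module.Finite.of_isLocalizedModule p.primeCompl
    (LocalizedModule.mkLinearMap p.primeCompl M)
  have hA := isArtinian_torsionBySet Rp N
  let T : Submodule Rp N := Submodule.torsionBySet Rp N (IsLocalRing.maximalIdeal Rp : Set Rp)
  let S : ℕ → Submodule Rp N := fun n => (K n).localized p.primeCompl
  have hS : Antitone S := fun m n hmn => by
    intro x hx
    obtain ⟨y, hy, s, rfl⟩ := hx
    exact ⟨y, hK hmn hy, s, rfl⟩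
  let F : ℕ →o (Submodule Rp T)ᵒᵈ := ⟨fun n => OrderDual.toDual ((S n).comap T.subtype), fun m n hmn =>
    Submodule.comap_mono (hS hmn)⟩
  obtain ⟨n₀, hn₀⟩ := IsArtinian.monotone_stabilizes F
  refine ⟨n₀, fun n hn x hxK hx => ?_⟩
  let y : N := LocalizedModule.mkLinearMap p.primeCompl M x
  have hyT : y ∈ T := by
    rw [Submodule.mem_torsionBySet_iff]
    rintro ⟨a, ha⟩
    obtain ⟨a, s, rfl⟩ := IsLocalization.exists_mk'_eq p.primeCompl a
    have ha' : a ∈ p := by
      have h1 := (IsLocalization.AtPrime.mk'_mem_maximal_iff Rp p a s).1 ha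
      exact h1
    show IsLocalization.mk' Rp a s • y = 0
    have h2 : IsLocalization.mk' Rp a s • y = IsLocalization.mk' Rp 1 s • (a • y) := by
      rw [← algebraMap_smul Rp a y, smul_smul]
      congr 1
      rw [IsLocalization.mk'_eq_mul_mk'_one, mul_comm]
    have h3 : a • y = 0 := by
      show a • LocalizedModule.mkLinearMap p.primeCompl M x = 0
      rw [← map_smul, (hx a).2 ha', map_zero]
    rw [h2, h3, smul_zero]
  have hyS : ∀ k, y ∈ S k := fun k => by
    have h1 : (⟨y, hyT⟩ : T) ∈ OrderDual.ofDual (F n) := by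
      show y ∈ S n
      exact ⟨x, hxK, 1, by simp [y, LocalizedModule.mkLinearMap_apply]⟩
    have h2 : F (max n k) = F n := by
      rw [← hn₀ n hn, hn₀ (max n k) (hn.trans (le_max_left _ _))]
    rw [← h2] at h1
    have h3 : y ∈ S (max n k) := h1
    exact hS (le_max_right _ _) h3
  obtain ⟨t, ht, ht0⟩ := h x fun k => by
    obtain ⟨m, hm, s, hms⟩ := hyS k
    rw [IsLocalizedModule.mk'_eq_iff] at hms
    have h1 : LocalizedModule.mkLinearMap p.primeCompl M m =
        LocalizedModule.mkLinearMap p.primeCompl M ((s : R) • x) := by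
      rw [map_smul]; exact hms
    obtain ⟨u, hu⟩ := (IsLocalizedModule.eq_iff_exists p.primeCompl _).1 h1
    refine ⟨u * s, fun h => ?_, ?_⟩
    · rcases Ideal.IsPrime.mem_or_mem inferInstance h with h | h
      · exact u.2 h
      · exact s.2 h
    · have h2 : (u : R) • m = (u : R) • (s : R) • x := hu
      rw [mul_smul, ← h2]
      exact Submodule.smul_mem _ _ hm
  exact ht ((hx t).1 ht0)

/-- A decreasing sequence of submodules of a finite module over a Noetherian ring, all of whose localizations
have zero intersection, is eventually zero. -/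
theorem exists_eq_bot (K : ℕ → Submodule R M) (hK : Antitone K)
    (h : ∀ p : Ideal R, p.IsPrime → ∀ m : M, (∀ n, ∃ s, s ∉ p ∧ s • m ∈ K n) →
      ∃ t, t ∉ p ∧ t • m = 0) :
    ∃ n, K n = ⊥ := by
  have hfin : (associatedPrimes R M).Finite := associatedPrimes.finite R M
  choose! n₀ hn₀ using fun (p : Ideal R) (hp : p ∈ associatedPrimes R M) =>
    haveI : p.IsPrime := hp.1
    exists_forall_ne K hK p (h p hp.1)
  obtain ⟨n, hn⟩ : ∃ n, ∀ p ∈ associatedPrimes R M, n₀ p ≤ n := by
    obtain ⟨n, hn⟩ := (hfin.image n₀).bddAbove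
    exact ⟨n, fun p hp => hn ⟨p, hp, rfl⟩⟩
  refine ⟨n, ?_⟩
  by_contra hne
  have : Nontrivial (K n) := Submodule.nontrivial_iff_ne_bot.2 hne
  obtain ⟨p, hp⟩ := associatedPrimes.nonempty R (K n)
  have hpM : p ∈ associatedPrimes R M :=
    associatedPrimes.subset_of_injective (f := (K n).subtype) Subtype.val_injective hp
  obtain ⟨-, x, hx⟩ := isAssociatedPrime_iff.1 hp
  refine hn₀ p hpM n (hn p hpM) x x.2 fun a => ?_
  rw [hx, Submodule.mem_colon_singleton, Submodule.mem_bot]
  exact ⟨fun h => Subtype.ext h, fun h => congrArg Subtype.val h⟩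

end K269.ChevAss
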