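import Groth.Agent.GrpSch.K270.MB.Shape4
import Groth.Agent.GrpSch.K388.NodePair
import Groth.Agent.GrpSch.K267.NodeFin
import Groth.Agent.GrpSch.K567.Orth
import Groth.Agent.GrpSch.K194.LiftTors
import Groth.Agent.S3026

/-!
# Node (EM) of S14306 from the package over `R`

`main : NodePack → NodeEm`: the pairings over `R` from the theta pairings of the generic fibre, the finite parts, and the
formula for the closed fibre.
-/

set_option autoImplicit false
set_option linter.unusedVariables false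
universe u
open CategoryTheory CategoryTheory.Limits MonoidalCategory CartesianMonoidalCategory MonObj AlgebraicGeometry
open K999.Cart K999.EDesc K999.Scal Groth.Agent.Grpsch.PicGrp K529.KL

noncomputable section

namespace K269.EmOf

open K270.MB

section cover

variable {S : Scheme.{u}}

/-- Factorisations through monomorphisms descend along faithfully flat quasi-compact covers. -/
theorem fac_of_cover {T T' M F : Over S} (g : T' ⟶ T) (hs : Surjective g.left) (hf : Flat g.left)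
    (hq : QuasiCompact g.left) (i : M ⟶ F) (hi : Mono i.left) (x : T ⟶ F) (h : Fac i (g ≫ x)) : Fac i x := by
  obtain ⟨v, hv⟩ := h
  have hep : EffectiveEpi g.left := inferInstance
  have hv' : v.left ≫ i.left = g.left ≫ x.left := congrArg (fun z => z.left) hv
  let l : T.left ⟶ M.left := EffectiveEpi.desc g.left v.left (fun g₁ g₂ h => by
    rw [← cancel_mono i.left, Category.assoc, Category.assoc, hv', ← Category.assoc, h, Category.assoc])
  have hl : g.left ≫ l = v.left := EffectiveEpi.fac _ _ _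
  have h1 : l ≫ i.left = x.left := by
    rw [← cancel_epi g.left, ← Category.assoc, hl, hv']
  refine ⟨Over.homMk l ?_, Over.OverMorphism.ext h1⟩
  rw [← Over.w i, ← Category.assoc, h1, Over.w]

/-- Invertible functions inject along faithfully flat quasi-compact covers. -/
theorem ures_injective {T T' : Over S} (g : T' ⟶ T) (hs : Surjective g.left) (hf : Flat g.left)
    (hq : QuasiCompact g.left) : Function.Injective (ures g : U T → U T') := by
  have : Epi g.left := inferInstance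
  intro a b hab
  apply Units.ext
  exact Groth.Agent.S3026.appTop_injective g.left (congrArg Units.val hab)

end cover

/-- Levels. -/
theorem e_pow' {S : Scheme.{u}} {X : Over S} [GrpObj X] {P : GTor (X ⊗ X)} {D : Bir P} (hU : PushU X) {N N' N₁ : ℕ}
    (h : N₁ = N * N') (θ : Theta D N) (θ' : Theta D N₁) {T : Over S} (x y : T ⟶ X) (hx : x ^ N = 1)
    (hx' : x ^ N₁ = 1) (hy : y ^ N₁ = 1) (hy' : (y ^ N') ^ N = 1) :
    θ'.e x y hx' hy = θ.e x (y ^ N') hx hy' := by
  subst h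
  exact θ.e_pow hU θ' x y hx hx' hy hy'

section field

variable {k κ : Type u} [Field k] [Field κ] (φ : k →+* κ)

theorem flat_sp : Flat (sp φ) := by
  rw [Flat.SpecMap_iff]
  algebraize [φ]
  exact (inferInstance : Module.Flat k κ)

theorem surjective_sp : Surjective (sp φ) := by
  refine ⟨fun y => ?_⟩
  have : Subsingleton (Spec (CommRingCat.of k)) := inferInstanceAs (Subsingleton (PrimeSpectrum k))
  have : Nonempty (Spec (CommRingCat.of κ)) := inferInstanceAs (Nonempty (PrimeSpectrum κ))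
  exact ⟨Classical.arbitrary _, Subsingleton.elim _ _⟩

end field

/-- Restriction of a pairing on the left. -/
def pullL {S : Scheme.{u}} {M F : Over S} [GrpObj M] [GrpObj F] (E : Pairing F F) (i : M ⟶ F) (hi : IsMonHom i) :
    Pairing M F where
  e x y := E.e (x ≫ i) y
  nat g x y := by rw [Category.assoc, E.nat]
  mul_left x x' y := by rw [MonObj.mul_comp, E.mul_left]
  mul_right x y y' := by rw [E.mul_right]

theorem one_left {S : Scheme.{u}} {X : Over S} [GrpObj X] {N : ℕ} (E : TPairing X N) {T : Over S} (y : T ⟶ X)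
    (h1 : (1 : T ⟶ X) ^ N = 1) (hy : y ^ N = 1) : E.e 1 y h1 hy = 1 := by
  have h := E.mul_left 1 1 y h1 h1 (by rw [_root_.mul_one]; exact h1) hy
  have h2 : ∀ (z : T ⟶ X) (hz : z ^ N = 1), z = 1 → E.e z y hz hy = E.e 1 y h1 hy := by
    rintro z hz rfl
    rfl
  rw [h2 _ _ (_root_.mul_one _)] at h
  exact left_eq_mul.mp h

theorem e_congr {S : Scheme.{u}} {X : Over S} [GrpObj X] {N : ℕ} (E : TPairing X N) {T : Over S} {x x' y y' : T ⟶ X}
    (hx : x ^ N = 1) (hy : y ^ N = 1) (hx' : x' ^ N = 1) (hy' : y' ^ N = 1) (h1 : x = x') (h2 : y = y') :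
    E.e x y hx hy = E.e x' y' hx' hy' := by
  subst h1 h2
  rfl

theorem pow_gcd_eq_one' {G : Type*} [Group G] (z : G) {n m p : ℕ} (hp : p.Prime) (hn : 0 < n) (h1 : z ^ n = 1)
    (h2 : z ^ (p ^ m) = 1) : z ^ (p ^ padicValNat p n) = 1 := by
  have : Fact p.Prime := ⟨hp⟩
  rw [← orderOf_dvd_iff_pow_eq_one] at h1 h2 ⊢
  obtain ⟨k, -, hk⟩ := (Nat.dvd_prime_pow hp).mp h2
  rw [hk] at h1 ⊢
  exact Nat.pow_dvd_pow p ((padicValNat_dvd_iff_le hn.ne').mp h1)

section closed

variable {R : Type u} [CommRing R] [IsLocalRing R] {κ : Type u} [Field κ] (φ : R →+* κ)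

/-- A scheme over the closed point becomes a scheme over `κ` after a faithfully flat cover. -/
theorem exists_cover (hφ : RingHom.ker φ = IsLocalRing.maximalIdeal R) (T : Over (Spec (CommRingCat.of R)))
    (hT : ∃ q, T.hom = q ≫ sp (IsLocalRing.residue R)) :
    ∃ (T' : Over (Spec (CommRingCat.of κ))) (h : (Over.map (sp φ)).obj T' ⟶ T),
      Surjective h.left ∧ Flat h.left ∧ QuasiCompact h.left := by
  obtain ⟨q, hq⟩ := hT
  let φ' : IsLocalRing.ResidueField R →+* κ := Ideal.Quotient.lift (IsLocalRing.maximalIdeal R) φ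
    (fun a ha => by rw [← hφ] at ha; exact ha)
  have hφ' : φ'.comp (IsLocalRing.residue R) = φ := RingHom.ext fun a => rfl
  have e1 : sp φ' ≫ sp (IsLocalRing.residue R) = sp φ := by
    rw [← hφ', sp, sp, sp, ← Spec.map_comp, ← CommRingCat.ofHom_comp]
  have h1 := flat_sp φ'
  have h2 := surjective_sp φ'
  refine ⟨Over.mk (pullback.snd q (sp φ')), Over.homMk (pullback.fst q (sp φ')) ?_, ?_, ?_, ?_⟩
  · change pullback.fst q (sp φ') ≫ T.hom = pullback.snd q (sp φ') ≫ sp φ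
    rw [hq, ← e1, ← Category.assoc, pullback.condition, Category.assoc]
  · exact (inferInstance : Surjective (pullback.fst q (sp φ')))
  · exact (inferInstance : Flat (pullback.fst q (sp φ')))
  · exact (inferInstance : QuasiCompact (pullback.fst q (sp φ')))

theorem over_closedPoint (hφ : RingHom.ker φ = IsLocalRing.maximalIdeal R) (T : Over (Spec (CommRingCat.of κ)))
    (t : ((Over.map (sp φ)).obj T).left) : ((Over.map (sp φ)).obj T).hom t = IsLocalRing.closedPoint R := by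
  have h1 : ∀ s : Spec (CommRingCat.of κ), (sp φ) s = (IsLocalRing.closedPoint R : PrimeSpectrum R) := by
    intro s
    apply PrimeSpectrum.ext
    change Ideal.comap φ (PrimeSpectrum.asIdeal s) = IsLocalRing.maximalIdeal R
    have h2 : PrimeSpectrum.asIdeal s = ⊥ := (Ideal.eq_bot_or_top _).resolve_right (PrimeSpectrum.isPrime s).ne_top
    rw [h2, ← hφ]
    rfl
  exact h1 _

/-- `M ⊥ F`. -/
theorem orth (hφ : RingHom.ker φ = IsLocalRing.maximalIdeal R) {A F M : Over (Spec (CommRingCat.of R))} [GrpObj A]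
    [GrpObj F] [GrpObj M] {N r : ℕ} (hN : 0 < N) {f : F ⟶ A} (hF : IsFinPart R A N f) {i : M ⟶ F} (hi : IsClSub i)
    {χ : Fin r → U M} (hχ : IsMu N r M χ) (E : Pairing F F) {T B : Over (Spec (CommRingCat.of κ))} [GrpObj T] [GrpObj B]
    {χ₀ : Fin r → U T} {τ : T ⟶ Red.bc (sp φ) A} {π : Red.bc (sp φ) A ⟶ B} (hsa : IsSemiAb r χ₀ τ π)
    (τ' : Red.bc (sp φ) M ⟶ T) (hτ' : τ' ≫ τ = (Over.pullback (sp φ)).map (i ≫ f)) (eB : TPairing B N)
    (hE : ∀ {T' : Over (Spec (CommRingCat.of κ))} (x y : T' ⟶ Red.bc (sp φ) F)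
      (hx : ((x ≫ (Over.pullback (sp φ)).map f) ≫ π) ^ N = 1)
      (hy : ((y ≫ (Over.pullback (sp φ)).map f) ≫ π) ^ N = 1),
      E.e (T := (Over.map (sp φ)).obj T') (dn (sp φ) x) (dn (sp φ) y) =
        eB.e ((x ≫ (Over.pullback (sp φ)).map f) ≫ π) ((y ≫ (Over.pullback (sp φ)).map f) ≫ π) hx hy)
    {T₀ : Over (Spec (CommRingCat.of R))} (x : T₀ ⟶ M) (y : T₀ ⟶ F) : E.e (x ≫ i) y = 1 := by
  have hfm : IsMonHom f := hF.mon
  have hπm : IsMonHom π := hsa.mon
  have hpow : ∀ {T' : Over (Spec (CommRingCat.of κ))} (x : T' ⟶ Red.bc (sp φ) F),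
      ((x ≫ (Over.pullback (sp φ)).map f) ≫ π) ^ N = 1 := by
    intro T' x
    have h1 : dn (sp φ) ((x ≫ (Over.pullback (sp φ)).map f) ^ N) = 1 := by
      rw [dn_pow, dn_map, ← MonObj.comp_pow, hF.pow, MonObj.comp_one]
    have h2 : (x ≫ (Over.pullback (sp φ)).map f) ^ N = 1 := by
      apply dn_inj (sp φ)
      rw [h1, dn_one]
    rw [← MonObj.pow_comp, h2, MonObj.one_comp]
  refine K567.Orth.main R M F hF.finite N r hN χ hχ (pullL E i hi.mon) κ φ hφ ?_ x y
  intro T' x y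
  change E.e (T := (Over.map (sp φ)).obj T') (dn (sp φ) x ≫ i) (dn (sp φ) y) = 1
  rw [← dn_map, hE _ y (hpow _) (hpow _)]
  have h1 : ((x ≫ (Over.pullback (sp φ)).map i) ≫ (Over.pullback (sp φ)).map f) ≫ π = 1 := by
    rw [Category.assoc x, ← Functor.map_comp, ← hτ', ← hsa.ker]
    exact ⟨x ≫ τ', Category.assoc _ _ _⟩
  rw [e_congr eB (hpow _) (hpow _) (one_pow N) (hpow y) h1 rfl, one_left]

/-- The radical on the closed fibre. -/
theorem radical (hφ : RingHom.ker φ = IsLocalRing.maximalIdeal R) {A F M : Over (Spec (CommRingCat.of R))} [GrpObj A]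
    [IsCommMonObj A] (hqc : QuasiCompact A.hom)
    [GrpObj F] [GrpObj M] {p m r : ℕ} (hp : p.Prime) {f : F ⟶ A} (hF : IsFinPart R A (p ^ m) f) {i : M ⟶ F}
    (hi : IsClSub i) (E : Pairing F F) {T B : Over (Spec (CommRingCat.of κ))} [GrpObj T] [GrpObj B]
    {χ₀ : Fin r → U T} {τ : T ⟶ Red.bc (sp φ) A} {π : Red.bc (sp φ) A ⟶ B} (hsa : IsSemiAb r χ₀ τ π)
    (hmult : ∀ {T' : Over (Spec (CommRingCat.of κ))} (x : T' ⟶ Red.bc (sp φ) A),
      Fac τ x → x ^ (p ^ m) = 1 → Fac ((Over.pullback (sp φ)).map (i ≫ f)) x) (eB : TPairing B (p ^ m))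
    (hE : ∀ {T' : Over (Spec (CommRingCat.of κ))} (x y : T' ⟶ Red.bc (sp φ) F)
      (hx : ((x ≫ (Over.pullback (sp φ)).map f) ≫ π) ^ (p ^ m) = 1)
      (hy : ((y ≫ (Over.pullback (sp φ)).map f) ≫ π) ^ (p ^ m) = 1),
      E.e (T := (Over.map (sp φ)).obj T') (dn (sp φ) x) (dn (sp φ) y) =
        eB.e ((x ≫ (Over.pullback (sp φ)).map f) ≫ π) ((y ≫ (Over.pullback (sp φ)).map f) ≫ π) hx hy)
    {n : ℕ} (hn : 0 < n)
    (hrad : ∀ {T' : Over (Spec (CommRingCat.of κ))} (z : T' ⟶ B)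
        (hz : z ^ (p ^ m) = 1), (∀ {T'' : Over (Spec (CommRingCat.of κ))} (g : T'' ⟶ T')
          (y : T'' ⟶ B) (hgz : (g ≫ z) ^ (p ^ m) = 1) (hy : y ^ (p ^ m) = 1), eB.e (g ≫ z) y hgz hy = 1) → z ^ n = 1)
    {T₀ : Over (Spec (CommRingCat.of R))} (x : T₀ ⟶ F) (hT : ∃ q, T₀.hom = q ≫ sp (IsLocalRing.residue R))
    (hx : ∀ {T' : Over (Spec (CommRingCat.of R))} (g : T' ⟶ T₀) (y : T' ⟶ F), E.e (g ≫ x) y = 1) :
    Fac i (x ^ (p ^ padicValNat p n)) := by
  have hfm : IsMonHom f := hF.mon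
  have hfc : IsClosedImmersion f.left := hF.closed
  have hic : IsClosedImmersion i.left := hi.closed
  have hπm : IsMonHom π := hsa.mon
  have hpow' : ∀ {T' : Over (Spec (CommRingCat.of κ))} (x : T' ⟶ Red.bc (sp φ) F),
      (x ≫ (Over.pullback (sp φ)).map f) ^ (p ^ m) = 1 := by
    intro T' x
    have h1 : dn (sp φ) ((x ≫ (Over.pullback (sp φ)).map f) ^ (p ^ m)) = 1 := by
      rw [dn_pow, dn_map, ← MonObj.comp_pow, hF.pow, MonObj.comp_one]
    apply dn_inj (sp φ)
    rw [h1, dn_one]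
  have hpow : ∀ {T' : Over (Spec (CommRingCat.of κ))} (x : T' ⟶ Red.bc (sp φ) F),
      ((x ≫ (Over.pullback (sp φ)).map f) ≫ π) ^ (p ^ m) = 1 := by
    intro T' x
    rw [← MonObj.pow_comp, hpow', MonObj.one_comp]
  obtain ⟨T', h, h1, h2, h3⟩ := exists_cover φ hφ T₀ hT
  refine fac_of_cover h h1 h2 h3 i inferInstance _ ?_
  let x' : T' ⟶ Red.bc (sp φ) F := upp (sp φ) (h ≫ x)
  have hx' : dn (sp φ) x' = h ≫ x := dn_upp _ _
  have hqcπ : QuasiCompact π.left := by
    have e1 : QuasiCompact (π.left ≫ B.hom) := by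
      rw [Over.w π]
      exact (inferInstance : QuasiCompact (pullback.snd A.hom (sp φ)))
    have e2 := hsa.proper
    exact QuasiCompact.of_comp π.left B.hom
  have hz : ((x' ≫ (Over.pullback (sp φ)).map f) ≫ π) ^ n = 1 := by
    refine hrad _ (hpow x') ?_
    intro T'' g y hgz hy
    obtain ⟨T₂, g₂, y₂, hs2, hf2, hq2, hy2, hy2'⟩ := K194.LiftTors.main κ (Red.bc (sp φ) A) T B r χ₀ τ π hsa hqcπ
      (p ^ m) (pow_pos hp.pos m) T'' y hy
    obtain ⟨w, hw⟩ := hF.cl (dn (sp φ) y₂) (by rw [← dn_pow, hy2, dn_one]) (over_closedPoint φ hφ T₂)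
    have hw' : upp (sp φ) w ≫ (Over.pullback (sp φ)).map f = y₂ := by
      apply dn_inj (sp φ)
      rw [dn_map, dn_upp, hw]
    apply ures_injective g₂ hs2 hf2 hq2
    have hgz' : (g₂ ≫ g ≫ (x' ≫ (Over.pullback (sp φ)).map f) ≫ π) ^ (p ^ m) = 1 := by
      rw [← MonObj.comp_pow, hgz, MonObj.comp_one]
    have hy' : (g₂ ≫ y) ^ (p ^ m) = 1 := by
      rw [← MonObj.comp_pow, hy, MonObj.comp_one]
    rw [← eB.nat g₂ _ _ hgz hy hgz' hy', map_one]
    have e1 := hE (g₂ ≫ g ≫ x') (upp (sp φ) w) (hpow _) (hpow _)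
    rw [e_congr eB (hpow _) (hpow _) hgz' hy' (by simp only [Category.assoc]) (by rw [hw', hy2'])] at e1
    rw [← e1, dn_comp, dn_comp, hx', dn_upp, ← Category.assoc, ← Category.assoc, hx]
  have hz' : ((x' ≫ (Over.pullback (sp φ)).map f) ≫ π) ^ (p ^ padicValNat p n) = 1 :=
    pow_gcd_eq_one' _ hp hn hz (hpow x')
  obtain ⟨v, hv⟩ := hmult ((x' ≫ (Over.pullback (sp φ)).map f) ^ (p ^ padicValNat p n))
    ((hsa.ker _).2 (by rw [MonObj.pow_comp, hz']))
    (by rw [← pow_mul, _root_.mul_comm, pow_mul, hpow', one_pow])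
  refine ⟨dn (sp φ) v, ?_⟩
  have h5 := congrArg (dn (sp φ)) hv
  rw [dn_map, dn_pow, dn_map, hx', ← Category.assoc, ← MonObj.pow_comp, ← MonObj.comp_pow] at h5
  apply Over.OverMorphism.ext
  have h6 := congrArg (fun z => z.left) h5
  exact (cancel_mono f.left).mp h6

end closed

theorem main (hPack : NodePack.{u}) : NodeEm.{u} := by
  intro R _ _ _ _ _ _ p hp hpm A _ _ hsm hsep hqc hgc hrk hpr L hL Kl _ j hj hKL hfin
  have hG : GoodA A := ⟨inferInstance, hsm, hsep, hqc, hgc, hrk⟩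
  have hgi : GeometricallyIntegral (Red.bc (gen R) A).hom := (hG.bc (gen R)).gi
  have hcm : IsCommMonObj (Red.bc (gen R) A) := (hG.bc (gen R)).comm
  obtain ⟨Λ, hΛi, hΛ, hΛc⟩ := exists_lam hL
  obtain ⟨D⟩ := exists_bir_lam hL hΛi hΛ
  obtain ⟨sym⟩ := exists_sym_lam hL hΛi hΛ D
  have hU : PushU (Red.bc (gen R) A) := pushU _
  let θ : ∀ N : ℕ, Theta D N := fun N => (exists_atheta_lam hL hΛi hΛ D N).some.toTheta
  obtain ⟨κ, _, _, φ, r, T, B, _, _, χ₀, τ, π, n, eB, hφ, hsa, hn, hradB, hform⟩ :=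
    hPack R A hG hpr L hL Kl j hj hKL hfin Λ hΛi hΛc D θ
  obtain ⟨F, M, _, _, f, i, χ, t, b, τ', hF, hi, hχ, ht, htχ, hrF, hrA, hτ', hmult⟩ :=
    K267.NodeFin.main R p hp hpm A hsm hsep hqc hgc hrk hpr κ φ hφ T B r χ₀ τ π hsa
  have hpos : ∀ m, 0 < p ^ m := fun m => pow_pos hp.pos m
  have hE := fun m => K388.NodePair.nodePair R A hsm hsep hqc hgc (constU _) hU Λ hΛi D (p ^ m) (hpos m)
    (lam_pow hL hΛi hΛ _) (θ (p ^ m)) (F m) (f m) (hF m)
  choose E hE using hE
  refine ⟨F, M, inferInstance, inferInstance, f, i, r, b, padicValNat p n, χ, t, E,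
    fun m => (θ (p ^ m)).pairing hU, hF, hi, hχ, ht, htχ, hrF, hrA, ?_, ?_, ?_, ?_, ?_, ?_⟩
  · intro m T' x y hx hy
    exact hE m x y hx hy
  · intro m T' x y hx hx' hy hy'
    exact e_pow' hU (pow_succ p m) (θ (p ^ m)) (θ (p ^ (m + 1))) x y hx hx' hy hy'
  · intro m T' x y hx hy
    exact (θ (p ^ m)).e_skew hU sym x y hx hy
  · intro m T' x hx
    exact (hKL.univ _ x).symm.trans (mem_radical_iff hL hΛi hΛ (hpos m) (θ (p ^ m)) x hx)
  · intro m T' x y
    exact orth φ hφ (hpos m) (hF m) (hi m) (hχ m) (E m) hsa (τ' m) (hτ' m) (eB (p ^ m))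
      (hform (p ^ m) (hpos m) (F m) (f m) (hF m).pow (hF m).flat (E m) (hE m)) x y
  · intro m T' x hT hx
    exact radical φ hφ hqc hp (hF m) (hi m) (E m) hsa (hmult m) (eB (p ^ m))
      (hform (p ^ m) (hpos m) (F m) (f m) (hF m).pow (hF m).flat (E m) (hE m)) hn (hradB (p ^ m) (hpos m)) x hT hx

end K269.EmOf
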