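import Groth.Agent.GrpSch.K269.RedFin

/-!
# A finite commutative group over a field is killed by a positive integer
-/

set_option autoImplicit false
universe u
open CategoryTheory CategoryTheory.Limits MonoidalCategory CartesianMonoidalCategory MonObj GrpObj AlgebraicGeometry

noncomputable section

namespace K269.KillFin

theorem exists_kill {k : Type u} [Field k] (Kl : Over (Spec (CommRingCat.of k))) [GrpObj Kl] [IsCommMonObj Kl]
    (hf : IsFinite Kl.hom) :
    ∃ n : ℕ, 0 < n ∧ ∀ {T : Over (Spec (CommRingCat.of k))} (x : T ⟶ Kl), x ^ n = 1 := by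
  have hflat : Flat Kl.hom := inferInstance
  have hlfp : LocallyOfFinitePresentation Kl.hom := inferInstance
  let s₀ : ↥(Spec (CommRingCat.of k)) := IsLocalRing.closedPoint k
  refine ⟨Kl.hom.finrank s₀, ?_, ?_⟩
  · have h1 := Scheme.Hom.one_le_finrank_map Kl.hom ((η[Kl] : 𝟙_ (Over (Spec (CommRingCat.of k))) ⟶ Kl).left s₀)
    have h2 : Kl.hom ((η[Kl] : 𝟙_ (Over (Spec (CommRingCat.of k))) ⟶ Kl).left s₀) = s₀ :=
      Subsingleton.elim (α := PrimeSpectrum k) _ _
    rw [h2] at h1
    exact h1
  · intro T x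
    have h3 : (𝟙 Kl) ^ (Kl.hom.finrank s₀) = 1 := K267.DeligneSch.id_pow_eq_one Kl _ (fun s => by
      rw [show s = s₀ from Subsingleton.elim (α := PrimeSpectrum k) _ _])
    have h4 := congrArg (fun a => x ≫ a) h3
    simp only [MonObj.comp_pow, MonObj.comp_one, Category.comp_id] at h4
    exact h4

/-- For a finite subgroup of a commutative group. -/
theorem exists_kill_of_mono {k : Type u} [Field k] {X Kl : Over (Spec (CommRingCat.of k))} [GrpObj X] [IsCommMonObj X]
    [GrpObj Kl] (j : Kl ⟶ X) [IsMonHom j] (hj : Mono j.left) (hf : IsFinite Kl.hom) :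
    ∃ n : ℕ, 0 < n ∧ ∀ {T : Over (Spec (CommRingCat.of k))} (x : T ⟶ Kl), x ^ n = 1 := by
  have him : Mono j := (Over.forget _).mono_of_mono_map (inferInstanceAs (Mono j.left))
  have hcomm : IsCommMonObj Kl := Groth.Agent.Sga7.H758.AlgClosed.isCommMonObj_of_mono j
  exact exists_kill Kl hf

end K269.KillFin
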