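import Mathlib.FieldTheory.SplittingField.Construction
import Mathlib.AlgebraicGeometry.Morphisms.Finite

/-!
# Finite extensions over which all points of a finite scheme over a field are rational
-/

set_option autoImplicit false
universe u
open CategoryTheory Limits AlgebraicGeometry

namespace K269.NormAlg

/-- A finite extension through which all homomorphisms from a finite algebra to overfields factor. -/
theorem exists_split (K : Type u) [Field K] (B : Type u) [CommRing B] [Algebra K B] [Module.Finite K B] :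
    ∃ (L : Type u) (_ : Field L) (_ : Algebra K L), FiniteDimensional K L ∧
      ∀ (k : Type u) [Field k] (ψ : L →+* k) (β : B →+* k), β.comp (algebraMap K B) = ψ.comp (algebraMap K L) →
        ∃ t : B →ₐ[K] L, ψ.comp (t : B →+* L) = β := by
  classical
  obtain ⟨s, hs⟩ := (inferInstance : Algebra.FiniteType K B)
  let p : Polynomial K := ∏ b ∈ s, minpoly K b
  refine ⟨p.SplittingField, inferInstance, inferInstance, inferInstance, ?_⟩
  intro k _ ψ β hβ
  let L := p.SplittingField
  let _ : Algebra K k := (ψ.comp (algebraMap K L)).toAlgebra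
  let _ : Algebra L k := ψ.toAlgebra
  have : IsScalarTower K L k := IsScalarTower.of_algebraMap_eq' rfl
  let β' : B →ₐ[K] k := { β with commutes' := fun r => congr($hβ r) }
  let ψ' : L →ₐ[K] k := { ψ with commutes' := fun r => rfl }
  have hint : ∀ b : B, IsIntegral K b := fun b => Algebra.IsIntegral.isIntegral b
  have hp0 : p ≠ 0 := Finset.prod_ne_zero_iff.mpr fun b _ => minpoly.ne_zero (hint b)
  have hmem : ∀ b ∈ s, β b ∈ ψ.range := by
    intro b hb
    have h1 : ((minpoly K b).map (algebraMap K L)).Splits := by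
      have h2 : (p.map (algebraMap K L)).Splits := Polynomial.SplittingField.splits p
      refine h2.of_dvd ?_ ?_
      · exact (Polynomial.map_ne_zero_iff (algebraMap K L).injective).mpr hp0
      · exact Polynomial.map_dvd _ (Finset.dvd_prod_of_mem _ hb)
    have h3 := h1.mem_range_of_isRoot (i := ψ) (x := β b) ?_ ?_
    · exact h3
    · exact (Polynomial.map_ne_zero_iff (algebraMap K L).injective).mpr (minpoly.ne_zero (hint b))
    · have h4 : Polynomial.aeval (β' b) (minpoly K b) = 0 := by
        rw [Polynomial.aeval_algHom_apply, minpoly.aeval, map_zero]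
      rw [Polynomial.IsRoot.def, Polynomial.map_map, Polynomial.eval_map]
      exact h4
  have hle : β'.range ≤ ψ'.range := by
    rw [← Algebra.map_top, ← hs, AlgHom.map_adjoin, Algebra.adjoin_le_iff]
    rintro _ ⟨b, hb, rfl⟩
    exact hmem b hb
  let e : L ≃ₐ[K] ψ'.range := AlgEquiv.ofInjective ψ' ψ.injective
  let t : B →ₐ[K] L := (e.symm : ψ'.range →ₐ[K] L).comp ((Subalgebra.inclusion hle).comp β'.rangeRestrict)
  refine ⟨t, RingHom.ext fun b => ?_⟩
  have h5 : e (t b) = (Subalgebra.inclusion hle) (β'.rangeRestrict b) := e.apply_symm_apply _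
  exact congrArg Subtype.val h5

/-- Scheme version. -/
theorem exists_split_scheme (K : Type u) [Field K] {X : Scheme.{u}} (q : X ⟶ Spec (CommRingCat.of K)) [IsFinite q] :
    ∃ (L : Type u) (_ : Field L) (_ : Algebra K L), FiniteDimensional K L ∧
      ∀ (k : Type u) [Field k] (ψ : Spec (CommRingCat.of k) ⟶ Spec (CommRingCat.of L))
        (β : Spec (CommRingCat.of k) ⟶ X), β ≫ q = ψ ≫ Spec.map (CommRingCat.ofHom (algebraMap K L)) →
        ∃ t : Spec (CommRingCat.of L) ⟶ X, t ≫ q = Spec.map (CommRingCat.ofHom (algebraMap K L)) ∧ ψ ≫ t = β := by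
  wlog hX : ∃ B : CommRingCat.{u}, X = Spec B generalizing X
  · have haff : IsAffine X := isAffine_of_isAffineHom q
    obtain ⟨L, i1, i2, i3, h⟩ := this (X.isoSpec.inv ≫ q) ⟨_, rfl⟩
    refine ⟨L, i1, i2, i3, fun k _ ψ β hβ => ?_⟩
    obtain ⟨t, ht1, ht2⟩ := h k ψ (β ≫ X.isoSpec.hom) (by simpa using hβ)
    refine ⟨t ≫ X.isoSpec.inv, by simpa using ht1, ?_⟩
    rw [← Category.assoc, ht2, Category.assoc, Iso.hom_inv_id, Category.comp_id]
  obtain ⟨B, rfl⟩ := hX
  obtain ⟨f, rfl⟩ := Spec.map_surjective q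
  let _ : Algebra K B := f.hom.toAlgebra
  have hfin : Module.Finite K B := by
    have : f.hom.Finite := (IsFinite.SpecMap_iff f).mp ‹_›
    exact this
  obtain ⟨L, i1, i2, i3, h⟩ := exists_split K B
  refine ⟨L, i1, i2, i3, fun k _ ψ β hβ => ?_⟩
  obtain ⟨ψ, rfl⟩ := Spec.map_surjective ψ
  obtain ⟨β, rfl⟩ := Spec.map_surjective β
  rw [← Spec.map_comp, ← Spec.map_comp] at hβ
  have hβ' := congrArg CommRingCat.Hom.hom (Spec.map_injective hβ)
  obtain ⟨t, ht⟩ := h k ψ.hom β.hom hβ'
  refine ⟨Spec.map (CommRingCat.ofHom (t : B →+* L)), ?_, ?_⟩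
  · rw [← Spec.map_comp]
    congr 1
    ext x
    exact t.commutes x
  · rw [← Spec.map_comp]
    congr 1
    ext x
    exact congr($ht x)

end K269.NormAlg
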