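import Groth.Agent.GrpSch.K269.QuotSemi
import Groth.Agent.AlgSp.K595.DescInst
import Groth.Agent.AlgSp.K620.DiagGeom

/-!
# Amalgamated sums of semi-stable group schemes along open étale subgroups (S14300)
-/

set_option autoImplicit false
universe u

open CategoryTheory CategoryTheory.Limits MonoidalCategory CartesianMonoidalCategory MonObj GrpObj AlgebraicGeometry

namespace K269.PushSemi

open Groth.Agent

section Gen

variable {S : Scheme.{u}}

/-- The kernel pair of a homomorphism with kernel `i`. -/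
theorem isPullback_of_isKernel {K A Q : Over S} [GrpObj A] [GrpObj K] [GrpObj Q] (i : K ⟶ A) [Mono i] (q : A ⟶ Q)
    [IsMonHom q] (h : AlgGrp.IsKernel i q) : IsPullback ((i ▷ A) ≫ μ[A]) (snd K A) q q := by
  have hc : ∀ {T : Over S} (r : T ⟶ K ⊗ A), r ≫ (i ▷ A) ≫ μ[A] = ((r ≫ fst K A) ≫ i) * (r ≫ snd K A) := by
    intro T r
    rw [Hom.mul_def, ← Category.assoc]
    congr 1
    apply CartesianMonoidalCategory.hom_ext <;> simp
  have hiq : i ≫ q = 1 := by
    have h' : IsPullback i (toUnit K) q η[Q] := h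
    rw [h'.w, Hom.one_def]
  refine ⟨⟨?_⟩, ⟨PullbackCone.IsLimit.mk _
    (fun s => lift (QuotSemi.exists_fac h (s.fst * s.snd⁻¹) (by
      rw [MonObj.mul_comp, GrpObj.inv_comp, s.condition, mul_inv_cancel])).choose s.snd)
    (fun s => ?_) (fun s => lift_snd _ _) (fun s m h1 h2 => ?_)⟩⟩
  · have h1 := hc (𝟙 (K ⊗ A))
    rw [Category.id_comp, Category.id_comp, Category.id_comp] at h1
    rw [h1, MonObj.mul_comp, Category.assoc, hiq, MonObj.comp_one, _root_.one_mul]
  · rw [hc, lift_fst, lift_snd]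
    have := (QuotSemi.exists_fac h (s.fst * s.snd⁻¹) (by
      rw [MonObj.mul_comp, GrpObj.inv_comp, s.condition, mul_inv_cancel])).choose_spec
    rw [this, inv_mul_cancel_right]
  · apply CartesianMonoidalCategory.hom_ext
    · rw [lift_fst, ← cancel_mono i]
      have h3 := (QuotSemi.exists_fac h (s.fst * s.snd⁻¹) (by
        rw [MonObj.mul_comp, GrpObj.inv_comp, s.condition, mul_inv_cancel])).choose_spec
      rw [h3, ← h1, hc, h2, mul_inv_cancel_right]
    · rw [lift_snd, h2]

/-- A morphism `c` with `q ≫ c` a homomorphism, `q` a faithfully flat homomorphism, is a homomorphism. -/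
theorem isMonHom_of_comp {P A' Q : Over S} [GrpObj P] [GrpObj A'] [GrpObj Q] (q : P ⟶ A') [IsMonHom q]
    [Flat q.left] [Surjective q.left] [LocallyOfFinitePresentation q.left] (c : A' ⟶ Q) (f : P ⟶ Q) [hf : IsMonHom f]
    (hr : q ≫ c = f) : IsMonHom c := by
  have f2 : Flat (q ⊗ₘ q).left := Sga3C.QuotProps.tensorHom_left_of (@Flat) q q ‹_› ‹_›
  have s2 : Surjective (q ⊗ₘ q).left := Sga3C.QuotProps.tensorHom_left_of (@Surjective) q q ‹_› ‹_›
  have e2 : Epi (q ⊗ₘ q) := Sga3C.QuotProps.epi_of_flat_surjective _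
  refine ⟨?_, ?_⟩
  · rw [← IsMonHom.one_hom q, Category.assoc, hr, IsMonHom.one_hom]
  · rw [← cancel_epi (q ⊗ₘ q), ← Category.assoc, ← IsMonHom.mul_hom, Category.assoc, hr, IsMonHom.mul_hom,
      ← hr, ← tensorHom_comp_tensorHom, Category.assoc]

/-- A homomorphism killing the kernel of a faithfully flat homomorphism `q` factors through `q`. -/
theorem exists_desc {K P A' Q : Over S} [GrpObj K] [GrpObj P] [GrpObj A'] [GrpObj Q] (i : K ⟶ P) (q : P ⟶ A')
    [IsMonHom q] [Flat q.left] [Surjective q.left] [LocallyOfFinitePresentation q.left]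
    (h : AlgGrp.IsKernel i q) (f : P ⟶ Q) [hf : IsMonHom f] (hif : i ≫ f = 1) :
    ∃ c : A' ⟶ Q, IsMonHom c ∧ q ≫ c = f := by
  obtain ⟨c, hc⟩ := Sga3C.QuotProps.exists_desc q f (by
    intro T x y hxy
    have h1 : (x * y⁻¹) ≫ q = 1 := by
      rw [MonObj.mul_comp, GrpObj.inv_comp, hxy, mul_inv_cancel]
    obtain ⟨c, hc⟩ := QuotSemi.exists_fac h _ h1
    have h2 : (x * y⁻¹) ≫ f = 1 := by
      rw [← hc, Category.assoc, hif, MonObj.comp_one]
    rw [MonObj.mul_comp, GrpObj.inv_comp, mul_inv_eq_one] at h2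
    exact h2)
  exact ⟨c, isMonHom_of_comp q c f hc, hc⟩

end Gen

variable {S : Scheme.{u}} [IsLocallyNoetherian S]
  (A : Over S) [GrpObj A] [IsCommMonObj A] [Smooth A.hom] [IsSeparated A.hom] [QuasiCompact A.hom]
  (hA : SGA7.FibresUnipotentRankZero A)
  (H H' : Over S) [GrpObj H] [IsCommMonObj H] [GrpObj H'] [IsCommMonObj H']
  [Etale H.hom] [LocallyQuasiFinite H.hom]
  [Etale H'.hom] [IsSeparated H'.hom] [QuasiCompact H'.hom] [LocallyQuasiFinite H'.hom]
  (j : H ⟶ H') [IsMonHom j] [IsOpenImmersion j.left]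
  (φ : H ⟶ A) [IsMonHom φ] [IsFinite φ.left]

include hA in
/-- The amalgamated sum; `(a, h) ↦ u a * v h` is surjective. -/
theorem main' :
    ∃ (A' : Over S) (_ : GrpObj A') (_ : IsCommMonObj A') (u : A ⟶ A') (v : H' ⟶ A'),
      IsMonHom u ∧ IsMonHom v ∧ φ ≫ u = j ≫ v ∧
      (∀ (Q : Over S) [GrpObj Q] [IsCommMonObj Q] (a : A ⟶ Q) (b : H' ⟶ Q),
        IsMonHom a → IsMonHom b → φ ≫ a = j ≫ b →
          ∃! c : A' ⟶ Q, IsMonHom c ∧ u ≫ c = a ∧ v ≫ c = b) ∧
      IsFinite v.left ∧ IsOpenImmersion u.left ∧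
      Smooth A'.hom ∧ IsSeparated A'.hom ∧ QuasiCompact A'.hom ∧ SGA7.FibresUnipotentRankZero A' ∧
      Surjective ((fst A H' ≫ u) * (snd A H' ≫ v)).left := by
  let P : Over S := A ⊗ H'
  have hPhom : P.hom = pullback.fst A.hom H'.hom ≫ A.hom := Over.tensorObj_hom A H'
  have p1 : Smooth P.hom := by
    have : Smooth (pullback.fst A.hom H'.hom) := inferInstance
    rw [hPhom]; infer_instance
  have p2 : IsSeparated P.hom := by rw [hPhom]; infer_instance
  have p3 : QuasiCompact P.hom := by rw [hPhom]; infer_instance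
  have f1 : LocallyQuasiFinite (fst A H').left := inferInstanceAs (LocallyQuasiFinite (pullback.fst A.hom H'.hom))
  have f2 : Etale (fst A H').left := inferInstanceAs (Etale (pullback.fst A.hom H'.hom))
  have f3 : IsSeparated (fst A H').left := inferInstanceAs (IsSeparated (pullback.fst A.hom H'.hom))
  have hP : SGA7.FibresUnipotentRankZero P := fun s =>
    Sga7.H756.QFRank.rankZero_of_lqf (W := A ⊗ H') (fst A H') s (hA s)
  have hjm : Mono j := by
    have : Mono j.left := inferInstance
    exact Over.mono_of_mono_left j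
  -- the embedding
  let em : H ⟶ P := lift φ⁻¹ j
  have hem1 : em ≫ fst A H' = φ⁻¹ := lift_fst _ _
  have hem2 : em ≫ snd A H' = j := lift_snd _ _
  have hemm : IsMonHom em := inferInstanceAs (IsMonHom (lift φ⁻¹ j))
  have hφi : (φ⁻¹ : H ⟶ A) = φ ≫ ι[A] := rfl
  have hφf : IsFinite (φ⁻¹ : H ⟶ A).left := by
    have : IsIso (ι[A] : A ⟶ A).left := inferInstanceAs (IsIso ((Over.forget S).map ι[A]))
    rw [hφi, Over.comp_left]; infer_instance
  have hemcl : IsClosedImmersion em.left := by
    rw [IsClosedImmersion.iff_isFinite_and_mono]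
    constructor
    · have : IsFinite (em.left ≫ (fst A H').left) := by
        rw [← Over.comp_left, hem1]; exact hφf
      exact IsFinite.of_comp _ (fst A H').left
    · have h1 : Mono (em ≫ snd A H') := by rw [hem2]; exact hjm
      have h2 : Mono em := mono_of_mono em (snd A H')
      infer_instance
  have hemmono : Mono em := by
    have : Mono em.left := inferInstance
    exact Over.mono_of_mono_left em
  obtain ⟨A', gA', cA', q, hq, hq1, hq2, hq3, hker, hsm, hsep, hqc, hrk⟩ := QuotSemi.main em hP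
  have hemq : em ≫ q = 1 := by
    have h' : IsPullback em (toUnit H) q η[A'] := hker
    rw [h'.w, Hom.one_def]
  have hpair := isPullback_of_isKernel em q hker
  have hepi : Epi q := Sga3C.QuotProps.epi_of_flat_surjective q
  have hfppf : K595.RepDesc.Fppf q.left := ⟨⟨hq2, hq1⟩, hq3⟩
  have hqet : Etale q.left := by
    have h1 : FormallyUnramified (snd H P).left := by
      have : Etale (pullback.snd H.hom P.hom) := inferInstance
      exact inferInstanceAs (FormallyUnramified (pullback.snd H.hom P.hom))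
    have h2 : FormallyUnramified q.left := by
      have := K595.DescInst.formallyUnramified.{u}
      exact MorphismProperty.of_isPullback_of_descendsAlong (hpair.map (Over.forget S)).flip hfppf h1
    exact Etale.of_formallyUnramified_of_flat _
  let e₁ : A ⟶ P := lift (𝟙 A) 1
  let e₂ : H' ⟶ P := lift 1 (𝟙 H')
  have hone1 : IsMonHom (1 : A ⟶ H') := Sga7.H758.EndRing.isMonHom_one
  have hone2 : IsMonHom (1 : H' ⟶ A) := Sga7.H758.EndRing.isMonHom_one
  have he₁ : IsMonHom e₁ := inferInstanceAs (IsMonHom (lift (𝟙 A) 1))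
  have he₂ : IsMonHom e₂ := inferInstanceAs (IsMonHom (lift 1 (𝟙 H')))
  have he11 : e₁ ≫ fst A H' = 𝟙 A := lift_fst _ _
  have he12 : e₁ ≫ snd A H' = 1 := lift_snd _ _
  have he21 : e₂ ≫ fst A H' = 1 := lift_fst _ _
  have he22 : e₂ ≫ snd A H' = 𝟙 H' := lift_snd _ _
  have hid : 𝟙 P = (fst A H' ≫ e₁) * (snd A H' ≫ e₂) := by
    apply CartesianMonoidalCategory.hom_ext
    · rw [MonObj.mul_comp, Category.assoc, Category.assoc, he11, he21, Category.comp_id, MonObj.comp_one, _root_.mul_one,
        Category.id_comp]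
    · rw [MonObj.mul_comp, Category.assoc, Category.assoc, he12, he22, Category.comp_id, MonObj.comp_one, _root_.one_mul,
        Category.id_comp]
  have hqe : (fst A H' ≫ e₁ ≫ q) * (snd A H' ≫ e₂ ≫ q) = q := by
    have h3 : q = 𝟙 P ≫ q := (Category.id_comp _).symm
    conv_rhs => rw [h3, hid, MonObj.mul_comp, Category.assoc, Category.assoc]
  refine ⟨A', gA', cA', e₁ ≫ q, e₂ ≫ q, inferInstance, inferInstance, ?_, ?_, ?_, ?_, hsm, hsep, hqc, hrk,
    by rw [hqe]; exact hq2⟩
  · have h1 : j ≫ e₂ = (φ ≫ e₁) * em := by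
      apply CartesianMonoidalCategory.hom_ext
      · rw [MonObj.mul_comp, Category.assoc, Category.assoc, he11, he21, hem1, MonObj.comp_one, Category.comp_id,
          mul_inv_cancel]
      · rw [MonObj.mul_comp, Category.assoc, Category.assoc, he12, he22, hem2, MonObj.comp_one, Category.comp_id,
          _root_.one_mul]
    rw [← Category.assoc j, h1, MonObj.mul_comp, hemq, _root_.mul_one, Category.assoc]
  · intro Q _ _ a b ha hb hab
    have hf : IsMonHom ((fst A H' ≫ a) * (snd A H' ≫ b)) := Sga7.H758.EndRing.isMonHom_mul _ _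
    obtain ⟨c, hc, hqc'⟩ := exists_desc em q hker ((fst A H' ≫ a) * (snd A H' ≫ b)) (by
      rw [MonObj.comp_mul, ← Category.assoc, ← Category.assoc, hem1, hem2, GrpObj.inv_comp, hab, inv_mul_cancel])
    refine ⟨c, ⟨hc, ?_, ?_⟩, ?_⟩
    · rw [Category.assoc, hqc', MonObj.comp_mul, ← Category.assoc, ← Category.assoc, he11, he12, MonObj.one_comp,
        Category.id_comp, _root_.mul_one]
    · rw [Category.assoc, hqc', MonObj.comp_mul, ← Category.assoc, ← Category.assoc, he21, he22, MonObj.one_comp,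
        Category.id_comp, _root_.one_mul]
    · rintro c' ⟨hc', h1, h2⟩
      rw [← cancel_epi q, hqc']
      have h3 : q ≫ c' = 𝟙 P ≫ q ≫ c' := (Category.id_comp _).symm
      rw [h3, hid, MonObj.mul_comp, Category.assoc, Category.assoc, ← Category.assoc e₁, ← Category.assoc e₂, h1, h2]
  · -- `v` is finite
    have h1 : IsPullback (H ◁ e₂) (snd H H') (snd H P) e₂ := by
      refine ⟨⟨whiskerLeft_snd _ _⟩, ⟨PullbackCone.IsLimit.mk _ (fun c => lift (c.fst ≫ fst H P) c.snd)
        (fun c => ?_) (fun c => lift_snd _ _) (fun c m h1 h2 => ?_)⟩⟩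
      · apply CartesianMonoidalCategory.hom_ext
        · rw [Category.assoc, whiskerLeft_fst, lift_fst]
        · rw [Category.assoc, whiskerLeft_snd, lift_snd_assoc, c.condition]
      · apply CartesianMonoidalCategory.hom_ext
        · rw [lift_fst, ← h1, Category.assoc, whiskerLeft_fst]
        · rw [lift_snd, h2]
    have h2 := h1.paste_horiz hpair
    have h3 : (H ◁ e₂) ≫ (em ▷ P) ≫ μ[P] = lift (fst H H') ((fst H H' ≫ j) * snd H H') ≫ (φ⁻¹ ▷ H') := by
      have h30 : (H ◁ e₂) ≫ (em ▷ P) ≫ μ[P] = (fst H H' ≫ em) * (snd H H' ≫ e₂) := by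
        rw [Hom.mul_def, ← Category.assoc]
        congr 1
        apply CartesianMonoidalCategory.hom_ext
        · rw [lift_fst, Category.assoc, whiskerRight_fst, whiskerLeft_fst_assoc]
        · rw [lift_snd, Category.assoc, whiskerRight_snd, whiskerLeft_snd]
      rw [h30]
      apply CartesianMonoidalCategory.hom_ext
      · rw [MonObj.mul_comp, Category.assoc, Category.assoc, hem1, he21, MonObj.comp_one, _root_.mul_one,
          Category.assoc, whiskerRight_fst, lift_fst_assoc]
      · rw [MonObj.mul_comp, Category.assoc, Category.assoc, hem2, he22, Category.comp_id, Category.assoc,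
          whiskerRight_snd, lift_snd]
    have h4 : IsIso (lift (fst H H') ((fst H H' ≫ j) * snd H H')) := by
      refine ⟨lift (fst H H') ((fst H H' ≫ j)⁻¹ * snd H H'), ?_, ?_⟩
      · apply CartesianMonoidalCategory.hom_ext
        · rw [Category.assoc, lift_fst, lift_fst, Category.id_comp]
        · rw [Category.assoc, lift_snd, MonObj.comp_mul, GrpObj.comp_inv, lift_fst_assoc, lift_snd,
            inv_mul_cancel_left, Category.id_comp]
      · apply CartesianMonoidalCategory.hom_ext
        · rw [Category.assoc, lift_fst, lift_fst, Category.id_comp]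
        · rw [Category.assoc, lift_snd, MonObj.comp_mul, lift_fst_assoc, lift_snd,
            mul_inv_cancel_left, Category.id_comp]
    have h5 : IsFinite ((H ◁ e₂) ≫ (em ▷ P) ≫ μ[P]).left := by
      rw [h3, Over.comp_left]
      have h6 : IsFinite ((φ⁻¹ : H ⟶ A) ▷ H').left := QuotSch.whiskerRight_left_of @IsFinite _ _ hφf
      have h7 : IsIso (lift (fst H H') ((fst H H' ≫ j) * snd H H')).left :=
        inferInstanceAs (IsIso ((Over.forget S).map (lift (fst H H') ((fst H H' ≫ j) * snd H H'))))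
      infer_instance
    have := K595.DescInst.isFinite.{u}
    exact MorphismProperty.of_isPullback_of_descendsAlong (h2.map (Over.forget S)) hfppf h5
  · -- `u` is an open immersion
    have h1 : IsOpenImmersion e₁.left := by
      refine K620.DiagGeom.isOpenImmersion_of_section e₁.left (fst A H').left ?_
      rw [← Over.comp_left, he11]; rfl
    have h2 : Mono (e₁ ≫ q) := by
      refine ⟨fun {T} x y hxy => ?_⟩
      have h3 : ((x * y⁻¹) ≫ e₁) ≫ q = 1 := by
        rw [Category.assoc, MonObj.mul_comp, GrpObj.inv_comp, hxy, mul_inv_cancel]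
      obtain ⟨c, hc⟩ := QuotSemi.exists_fac hker _ h3
      have h4 : c = 1 := by
        rw [← cancel_mono j, ← hem2, ← Category.assoc, hc, Category.assoc, he12, MonObj.comp_one, MonObj.one_comp]
      have h5 : x * y⁻¹ = 1 := by
        have h6 : x * y⁻¹ = ((x * y⁻¹) ≫ e₁) ≫ fst A H' := by rw [Category.assoc, he11, Category.comp_id]
        rw [h6, ← hc, h4, MonObj.one_comp, MonObj.one_comp]
      rwa [mul_inv_eq_one] at h5
    have h7 : Mono (e₁ ≫ q).left := inferInstance
    have h8 : Etale (e₁ ≫ q).left := by rw [Over.comp_left]; infer_instance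
    exact IsOpenImmersion.of_flat_of_mono _

include hA in
theorem main :
    ∃ (A' : Over S) (_ : GrpObj A') (_ : IsCommMonObj A') (u : A ⟶ A') (v : H' ⟶ A'),
      IsMonHom u ∧ IsMonHom v ∧ φ ≫ u = j ≫ v ∧
      (∀ (Q : Over S) [GrpObj Q] [IsCommMonObj Q] (a : A ⟶ Q) (b : H' ⟶ Q),
        IsMonHom a → IsMonHom b → φ ≫ a = j ≫ b →
          ∃! c : A' ⟶ Q, IsMonHom c ∧ u ≫ c = a ∧ v ≫ c = b) ∧
      IsFinite v.left ∧ IsOpenImmersion u.left ∧
      Smooth A'.hom ∧ IsSeparated A'.hom ∧ QuasiCompact A'.hom ∧ SGA7.FibresUnipotentRankZero A' := by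
  obtain ⟨A', gA', cA', u, v, h1, h2, h3, h4, h5, h6, h7, h8, h9, h10, -⟩ := main' A hA H H' j φ
  exact ⟨A', gA', cA', u, v, h1, h2, h3, h4, h5, h6, h7, h8, h9, h10⟩

end K269.PushSemi
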