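import Groth.Agent.GrpSch.K269.TorsClos
import Groth.Agent.GrpSch.K269.PushSemi
import Groth.Agent.GrpSch.K267.SemiPow

/-!
# Extension of the torsion of a semi-stable group scheme over a normal base
-/

set_option autoImplicit false
universe u
open CategoryTheory MonoidalCategory CartesianMonoidalCategory MonObj GrpObj AlgebraicGeometry Limits Opposite

namespace K269.NormPush

open K530.ConstGrp Groth.Agent TorsClos

section cst

variable (S : Scheme.{u}) (M : Type u) [Finite M]

instance isFinite_cst : IsFinite (cst S M).hom :=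
  Sga1.SigmaFinite.isFinite_sigmaDesc (fun _ : M => 𝟙 S)

omit [Finite M] in
instance etale_cst : Etale (cst S M).hom :=
  IsZariskiLocalAtSource.sigmaDesc (P := @Etale) (f := fun _ : M => 𝟙 S) (fun _ => inferInstance)

omit [Finite M] in
theorem fn_pow [CommGroup M] {T : Over S} (x : T ⟶ cst S M) (n : ℕ) : fn (x ^ n) = fn x ^ n := by
  induction n with
  | zero => rw [_root_.pow_zero, _root_.pow_zero, fn_one]
  | succ n ih => rw [_root_.pow_succ, _root_.pow_succ, fn_mul, ih]

end cst

variable {S : Scheme.{u}} [IsIntegral S] [IsLocallyNoetherian S]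
  (hN : ∀ s : S, IsIntegrallyClosed (S.presheaf.stalk s))
  {E : Over S} [IsIntegral E.left] [Subsingleton E.left]
  (hg : E.hom (genericPoint E.left) = genericPoint S)
  (hgs : IsIso (E.hom.stalkMap (genericPoint E.left)))
  (A : Over S) [GrpObj A] [IsCommMonObj A] [Smooth A.hom] [IsSeparated A.hom] [QuasiCompact A.hom]
  (hA : SGA7.FibresUnipotentRankZero A) (N : ℕ) (hN0 : 0 < N)
  (hrat : ∀ a : A.left, A.hom a = genericPoint S → ((𝟙 A : A ⟶ A) ^ N).left a = (1 : A ⟶ A).left a →
    ∃ t : E ⟶ A, t ^ N = 1 ∧ t.left (genericPoint E.left) = a)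

include hN hg hgs hA hN0 hrat in
theorem main :
    ∃ (A₁ : Over S) (_ : GrpObj A₁) (_ : IsCommMonObj A₁) (u : A ⟶ A₁),
      IsMonHom u ∧ IsOpenImmersion u.left ∧
      (∀ y : A₁.left, A₁.hom y = genericPoint S → y ∈ Set.range u.left) ∧
      Smooth A₁.hom ∧ IsSeparated A₁.hom ∧ QuasiCompact A₁.hom ∧ SGA7.FibresUnipotentRankZero A₁ ∧
      ∀ (T : Over S) (i : T ⟶ A₁), AlgGrp.IsKernel i ((𝟙 A₁ : A₁ ⟶ A₁) ^ N) → IsFinite T.hom := by
  have hlqf := PowLqf.lqf_pow A hA N hN0
  have hfin : Finite (Tor E A N) := finite_torsion hN hg hgs N hlqf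
  obtain ⟨H, gH, cH, j, φ, hj1, hj2, hφ1, hφ2, he⟩ := exists_open_subgroup (E := E) hN hg hgs N hlqf
  let C : Over S := cst S (Tor E A N)
  have c1 : IsFinite C.hom := isFinite_cst S _
  have c2 : Etale C.hom := etale_cst S _
  have h1 : H.hom = j.left ≫ C.hom := (Over.w j).symm
  have h2 : Etale H.hom := by rw [h1]; infer_instance
  have h3 : LocallyQuasiFinite H.hom := by rw [h1]; infer_instance
  obtain ⟨A₁, gA, cA, u, v, hu, hv, huv, -, hvf, huo, hsm, hsep, hqc, hrk, hsurj⟩ :=
    PushSemi.main' A hA H C j φ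
  have hgen : ∀ y : A₁.left, A₁.hom y = genericPoint S → y ∈ Set.range u.left := by
    intro y hy
    obtain ⟨p, hp⟩ := hsurj.surj y
    set q : A ⊗ C ⟶ A₁ := (fst A C ≫ u) * (snd A C ≫ v) with hq
    let c := (snd A C).left p
    have hc : C.hom c = genericPoint S := by
      rw [← hy, ← hp, ← Scheme.Hom.comp_apply, ← Scheme.Hom.comp_apply, Over.w, Over.w]
    obtain ⟨s, hs⟩ := exists_inj c
    have hs' : s = genericPoint S := by
      rw [← hc, ← hs, ← Scheme.Hom.comp_apply]
      change s = (inj S _ ≫ (cst S _).hom) s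
      rw [inj_hom]; rfl
    obtain ⟨e, he1, he2⟩ := he (idx S _ c)
    have hcj : j.left (e.left (genericPoint E.left)) = c := by
      have h5 : (toUnit E ≫ sec S (idx S _ c)).left (genericPoint E.left) =
        inj S (idx S _ c) (E.hom (genericPoint E.left)) := rfl
      rw [← Scheme.Hom.comp_apply, ← Over.comp_left, he2, h5, hg, ← hs', hs]
    have hsq : IsPullback (A ◁ j) (snd A H) (snd A C) j := by
      refine ⟨⟨whiskerLeft_snd _ _⟩, ⟨PullbackCone.IsLimit.mk _ (fun c => lift (c.fst ≫ fst A C) c.snd)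
        (fun c => ?_) (fun c => lift_snd _ _) (fun c m h1 h2 => ?_)⟩⟩
      · apply CartesianMonoidalCategory.hom_ext
        · rw [Category.assoc, whiskerLeft_fst, lift_fst]
        · rw [Category.assoc, whiskerLeft_snd, lift_snd_assoc, c.condition]
      · apply CartesianMonoidalCategory.hom_ext
        · rw [lift_fst, ← h1, Category.assoc, whiskerLeft_fst]
        · rw [lift_snd, h2]
    obtain ⟨p', hp', -⟩ := Scheme.exists_preimage_of_isPullback (hsq.map (Over.forget S)) p
      (e.left (genericPoint E.left)) hcj.symm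
    refine ⟨(fst A H * (snd A H ≫ φ)).left p', ?_⟩
    have h4 : (fst A H * (snd A H ≫ φ)) ≫ u = (A ◁ j) ≫ q := by
      rw [hq, MonObj.mul_comp, MonObj.comp_mul, Category.assoc, huv, whiskerLeft_fst_assoc, whiskerLeft_snd_assoc]
    rw [← Scheme.Hom.comp_apply, ← Over.comp_left, h4, Over.comp_left, Scheme.Hom.comp_apply, ← hp]
    exact congrArg _ hp'
  refine ⟨A₁, gA, cA, u, hu, huo, hgen, hsm, hsep, hqc, hrk, ?_⟩
  intro T i hker
  have hpb : IsPullback i (toUnit T) ((𝟙 A₁ : A₁ ⟶ A₁) ^ N) η[A₁] := hker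
  have hsq : IsPullback i.left T.hom ((𝟙 A₁ : A₁ ⟶ A₁) ^ N).left η[A₁].left := hpb.map (Over.forget S)
  obtain ⟨k1, k2⟩ := K267.SemiPow.flat_lqf_pow A₁ hrk N hN0
  have k3 : Flat T.hom := MorphismProperty.of_isPullback (P := @Flat) hsq k1
  have k4 : LocallyQuasiFinite T.hom := MorphismProperty.of_isPullback (P := @LocallyQuasiFinite) hsq k2
  have k5 : IsClosedImmersion η[A₁].left := by
    have : IsClosedImmersion (η[A₁].left ≫ A₁.hom) := by
      rw [Over.w]; exact inferInstanceAs (IsClosedImmersion (𝟙 S))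
    exact IsClosedImmersion.of_comp _ A₁.hom
  have k6 : IsClosedImmersion i.left := MorphismProperty.of_isPullback (P := @IsClosedImmersion) hsq.flip k5
  have k7 : IsSeparated T.hom := by rw [← Over.w i]; infer_instance
  have k8 : LocallyOfFiniteType T.hom := by rw [← Over.w i]; infer_instance
  have k9 : QuasiCompact T.hom := by rw [← Over.w i]; infer_instance
  have hv1 : v ^ N = 1 := by
    have h5 : (𝟙 C : C ⟶ C) ^ N = 1 := by
      apply fn_injective
      rw [fn_pow, fn_one]
      refine LocallyConstant.ext fun t => ?_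
      have h6 : (fn (𝟙 C) t) ^ N = 1 := Subtype.ext (fn (𝟙 C) t).2
      exact h6
    rw [← Category.id_comp v, ← MonObj.pow_comp, h5, MonObj.one_comp]
  let w : C ⟶ T := hpb.lift v (toUnit C) (by rw [MonObj.comp_pow, Category.comp_id, hv1, Hom.one_def])
  have hw : w ≫ i = v := hpb.lift_fst _ _ _
  have hwf : IsFinite w.left := by
    have : IsFinite (w.left ≫ i.left) := by rw [← Over.comp_left, hw]; exact hvf
    exact IsFinite.of_comp _ i.left
  have hws : Surjective w.left := by
    refine ⟨fun y => ?_⟩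
    have h5 : genericPoint S ⤳ T.hom y := genericPoint_specializes _
    obtain ⟨y', hy', hyy⟩ := Flat.generalizingMap T.hom h5
    have hcl : IsClosed (Set.range w.left) := w.left.isClosedMap.isClosed_range
    suffices h6 : y' ∈ Set.range w.left from hy'.mem_closed hcl h6
    obtain ⟨a, ha⟩ := hgen (i.left y') (by rw [← Scheme.Hom.comp_apply, Over.w, hyy])
    have hag : A.hom a = genericPoint S := by
      rw [← Over.w u, Scheme.Hom.comp_apply, ha, ← Scheme.Hom.comp_apply, Over.w, hyy]
    have hker : ((𝟙 A : A ⟶ A) ^ N).left a = (1 : A ⟶ A).left a := by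
      apply u.left.injective
      have e1 : ((𝟙 A : A ⟶ A) ^ N) ≫ u = u ≫ ((𝟙 A₁ : A₁ ⟶ A₁) ^ N) := by
        rw [MonObj.pow_comp, Category.id_comp, MonObj.comp_pow, Category.comp_id]
      have e2 : (1 : A ⟶ A) ≫ u = toUnit A ≫ η[A₁] := by rw [MonObj.one_comp, Hom.one_def]
      have e3 : i ≫ ((𝟙 A₁ : A₁ ⟶ A₁) ^ N) = toUnit T ≫ η[A₁] := hpb.w
      have e4 : (toUnit A ≫ η[A₁]).left a = η[A₁].left (A.hom a) := rfl
      have e5 : (toUnit T ≫ η[A₁]).left y' = η[A₁].left (T.hom y') := rfl
      have e6 : u.left ((1 : A ⟶ A).left a) = η[A₁].left (A.hom a) := by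
        rw [← Scheme.Hom.comp_apply, ← Over.comp_left, e2, e4]
      have e7 : u.left (((𝟙 A : A ⟶ A) ^ N).left a) = η[A₁].left (T.hom y') := by
        rw [← Scheme.Hom.comp_apply, ← Over.comp_left, e1, Over.comp_left, Scheme.Hom.comp_apply, ha,
          ← Scheme.Hom.comp_apply, ← Over.comp_left, e3, e5]
      rw [e6, e7, hag, hyy]
    obtain ⟨t, ht, hta⟩ := hrat a hag hker
    obtain ⟨e, he1, he2⟩ := he ⟨t, ht⟩
    refine ⟨(e ≫ j).left (genericPoint E.left), i.left.injective ?_⟩
    rw [← Scheme.Hom.comp_apply, ← Over.comp_left, hw, ← Scheme.Hom.comp_apply, ← Over.comp_left, Category.assoc,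
      ← huv, ← Category.assoc, he1, Over.comp_left, Scheme.Hom.comp_apply, hta, ha]
  have huc : UniversallyClosed T.hom := by
    have : UniversallyClosed (w.left ≫ T.hom) := by rw [Over.w]; infer_instance
    exact UniversallyClosed.of_comp_surjective w.left T.hom
  have hp : IsProper T.hom := ⟨⟩
  exact IsFinite.of_isProper_of_locallyQuasiFinite T.hom

end K269.NormPush
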