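import Groth.Agent.GrpSch.K269.NormFin
import Groth.Agent.GrpSch.K269.NormAlg
import Groth.Agent.GrpSch.K269.NormPush
import Groth.Agent.S2654

/-!
# Torsion of semi-stable group schemes becomes finite after a finite normal base change and an extension (S14304)
-/

set_option autoImplicit false
universe u
open CategoryTheory MonoidalCategory CartesianMonoidalCategory MonObj GrpObj AlgebraicGeometry Limits Opposite

namespace K269.NormMain

open Groth.Agent TorsClos

variable {S : Scheme.{u}} [IsIntegral S] [IsNoetherian S]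
  (hSe : ∀ U : S.affineOpens, EGA4.IsExcellent Γ(S, U.1))
  (A : Over S) [GrpObj A] [IsCommMonObj A] [Smooth A.hom] [IsSeparated A.hom] [QuasiCompact A.hom]
  (hA : SGA7.FibresUnipotentRankZero A) (N : ℕ) (hN : 1 ≤ N)

omit [AlgebraicGeometry.IsNoetherian S] in
include hSe hA hN in
/-- A finite normal cover over which the torsion points of the generic fibre are rational. -/
theorem exists_cover :
    ∃ (S₁ : Scheme.{u}) (π : S₁ ⟶ S) (_ : IsIntegral S₁), IsFinite π ∧ Surjective π ∧ Pi1.IsNormalScheme S₁ ∧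
      ∃ (E : Over S₁) (_ : IsIntegral E.left) (_ : Subsingleton E.left),
        E.hom (genericPoint E.left) = genericPoint S₁ ∧ IsIso (E.hom.stalkMap (genericPoint E.left)) ∧
        ∀ a : (Red.bc π A).left, (Red.bc π A).hom a = genericPoint S₁ →
          ((𝟙 (Red.bc π A) : Red.bc π A ⟶ Red.bc π A) ^ N).left a = (1 : Red.bc π A ⟶ Red.bc π A).left a →
          ∃ t : E ⟶ Red.bc π A, t ^ N = 1 ∧ t.left (genericPoint E.left) = a := by
  have hlqf := PowLqf.lqf_pow A hA N hN
  have hmon : IsMonHom ((𝟙 A : A ⟶ A) ^ N) := K267.SemiPow.isMonHom_pow A N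
  obtain ⟨F, gF, i, hi, hpb⟩ := Groth.Agent.Grpsch.KerMul.exists_kernel ((𝟙 A : A ⟶ A) ^ N)
  have hsq : IsPullback i.left F.hom ((𝟙 A : A ⟶ A) ^ N).left η[A].left := hpb.map (Over.forget S)
  have k4 : LocallyQuasiFinite F.hom := MorphismProperty.of_isPullback (P := @LocallyQuasiFinite) hsq hlqf
  have k9 : QuasiCompact F.hom := by
    have : QuasiCompact ((𝟙 A : A ⟶ A) ^ N).left := by
      have : QuasiCompact (((𝟙 A : A ⟶ A) ^ N).left ≫ A.hom) := by rw [Over.w]; infer_instance
      exact QuasiCompact.of_comp _ A.hom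
    exact MorphismProperty.of_isPullback (P := @QuasiCompact) hsq this
  let K : Type u := S.functionField
  let ga : Spec (CommRingCat.of K) ⟶ S := S.fromSpecStalk (genericPoint S)
  let q : pullback F.hom ga ⟶ Spec (CommRingCat.of K) := pullback.snd F.hom ga
  have hq : IsFinite q := by
    have h1 : LocallyQuasiFinite q := inferInstance
    have h2 : QuasiCompact q := inferInstance
    exact IsFinite.of_locallyQuasiFinite q
  obtain ⟨L, i1, i2, i3, hL⟩ := NormAlg.exists_split_scheme K q
  obtain ⟨S₁, π, hS₁, e, hπ, hπs, hn, heπ, heg, heb⟩ := NormFin.exists_norm (X := S)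
    (fun U => S2654.result _ ⟨(hSe U).1, (hSe U).2.2.1, (hSe U).2.2.2⟩) L
  have hsub : Subsingleton (Spec (CommRingCat.of L)) := inferInstanceAs (Subsingleton (PrimeSpectrum L))
  have hcl : genericPoint (Spec (CommRingCat.of L)) = IsLocalRing.closedPoint L := Subsingleton.elim _ _
  refine ⟨S₁, π, hS₁, hπ, hπs, hn, Over.mk e, inferInstanceAs (IsIntegral (Spec (CommRingCat.of L))), hsub, ?_, ?_, ?_⟩
  · change e (genericPoint (Spec (CommRingCat.of L))) = _
    rw [hcl, heg]
  · change IsIso (e.stalkMap (genericPoint (Spec (CommRingCat.of L))))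
    rw [hcl]
    have h1 : IsIso (Scheme.stalkClosedPointTo (R := CommRingCat.of L) e) :=
      (ConcreteCategory.isIso_iff_bijective _).mpr heb
    have h2 : IsIso (e.stalkMap (IsLocalRing.closedPoint L) ≫ (stalkClosedPointIso (CommRingCat.of L)).hom) := h1
    exact IsIso.of_isIso_comp_right _ (stalkClosedPointIso (CommRingCat.of L)).hom
  · intro a ha hNa
    let F₁ : Over S₁ := Red.bc π F
    let A₁ : Over S₁ := Red.bc π A
    let i₁ : F₁ ⟶ A₁ := (Over.pullback π).map i
    have hk : AlgGrp.IsKernel i₁ ((Over.pullback π).map ((𝟙 A : A ⟶ A) ^ N)) := Sga7.H760.KerBc.isKernel_bc π hpb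
    rw [K567.SemiAb.map_one_pow] at hk
    have hpb₁ : IsPullback i₁ (toUnit F₁) ((𝟙 A₁ : A₁ ⟶ A₁) ^ N) η[A₁] := hk
    have hsq₁ : IsPullback i₁.left F₁.hom ((𝟙 A₁ : A₁ ⟶ A₁) ^ N).left η[A₁].left := hpb₁.map (Over.forget S₁)
    have h1a : (1 : A₁ ⟶ A₁).left a = η[A₁].left (A₁.hom a) := by
      rw [Hom.one_def]; rfl
    obtain ⟨p₀, hp₀, hp₀'⟩ := Scheme.exists_preimage_of_isPullback hsq₁ a (A₁.hom a) (hNa.trans h1a)
    obtain ⟨p, hp, -⟩ := Scheme.Pullback.exists_preimage_pullback (f := F₁.hom) (g := e) p₀ (IsLocalRing.closedPoint L)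
      (by rw [hp₀', heg]; exact ha)
    let P := pullback F₁.hom e
    let k : Type u := P.residueField p
    let α : Spec (CommRingCat.of k) ⟶ P := P.fromSpecResidueField p
    let ψ : Spec (CommRingCat.of k) ⟶ Spec (CommRingCat.of L) := α ≫ pullback.snd F₁.hom e
    let β : Spec (CommRingCat.of k) ⟶ pullback F.hom ga := pullback.lift (α ≫ pullback.fst F₁.hom e ≫ pullback.fst F.hom π)
      (ψ ≫ Spec.map (CommRingCat.ofHom (algebraMap K L))) (by
        have e1 : pullback.fst F₁.hom e ≫ pullback.snd F.hom π = pullback.snd F₁.hom e ≫ e := pullback.condition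
        have e2 : e ≫ π = Spec.map (CommRingCat.ofHom (algebraMap K L)) ≫ ga := heπ
        simp only [Category.assoc]
        rw [pullback.condition (f := F.hom) (g := π), reassoc_of% e1, e2]
        rfl)
    obtain ⟨t₀, ht₀, ht₀'⟩ := hL k ψ β (pullback.lift_snd _ _ _)
    let t₁ : Over.mk e ⟶ F₁ := Over.homMk (pullback.lift (t₀ ≫ pullback.fst F.hom ga) e (by
      rw [Category.assoc, pullback.condition]
      change t₀ ≫ q ≫ ga = _
      rw [← Category.assoc, ht₀]
      exact heπ.symm)) (pullback.lift_snd _ _ _)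
    refine ⟨t₁ ≫ i₁, ?_, ?_⟩
    · have e1 : (t₁ ≫ i₁) ≫ ((𝟙 A₁ : A₁ ⟶ A₁) ^ N) = 1 := by
        rw [Category.assoc, hpb₁.w, ← Category.assoc, toUnit_unique (t₁ ≫ toUnit F₁) (toUnit _), Hom.one_def]
      rw [MonObj.comp_pow, Category.comp_id] at e1
      exact e1
    · have e1 : ψ ≫ t₁.left = α ≫ pullback.fst F₁.hom e := by
        apply pullback.hom_ext
        · change (ψ ≫ pullback.lift (t₀ ≫ pullback.fst F.hom ga) e _) ≫ pullback.fst F.hom π = _
          rw [Category.assoc, pullback.lift_fst, ← Category.assoc, ht₀', pullback.lift_fst, Category.assoc]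
        · change (ψ ≫ pullback.lift (t₀ ≫ pullback.fst F.hom ga) e _) ≫ pullback.snd F.hom π = _
          rw [Category.assoc, pullback.lift_snd, Category.assoc]
          change (α ≫ pullback.snd F₁.hom e) ≫ e = α ≫ pullback.fst F₁.hom e ≫ F₁.hom
          rw [pullback.condition, Category.assoc]
      have e2 : t₁.left (genericPoint (Spec (CommRingCat.of L))) = p₀ := by
        have e3 : (ψ ≫ t₁.left) (IsLocalRing.closedPoint k) = t₁.left (genericPoint (Spec (CommRingCat.of L))) := by
          rw [Scheme.Hom.comp_apply]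
          congr 1
          exact Subsingleton.elim _ _
        rw [← e3, e1, Scheme.Hom.comp_apply, ← hp]
        congr 1
        exact Scheme.fromSpecResidueField_apply _ _
      rw [Over.comp_left, Scheme.Hom.comp_apply]
      change i₁.left (t₁.left (genericPoint (Spec (CommRingCat.of L)))) = a
      rw [e2, hp₀]

include hSe hA hN in
theorem main :
    ∃ (S₁ : Scheme.{u}) (π : S₁ ⟶ S) (_ : IsIntegral S₁), IsFinite π ∧ Surjective π ∧ Pi1.IsNormalScheme S₁ ∧
      ∃ (A₁ : Over S₁) (_ : GrpObj A₁) (_ : IsCommMonObj A₁) (u : Red.bc π A ⟶ A₁),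
        IsMonHom u ∧ IsOpenImmersion u.left ∧
        IsIso ((Over.pullback (S₁.fromSpecResidueField (genericPoint S₁))).map u) ∧
        Smooth A₁.hom ∧ IsSeparated A₁.hom ∧ QuasiCompact A₁.hom ∧ SGA7.FibresUnipotentRankZero A₁ ∧
        ∀ (T : Over S₁) (i : T ⟶ A₁), AlgGrp.IsKernel i ((𝟙 A₁) ^ N) → IsFinite T.hom := by
  obtain ⟨S₁, π, hS₁, hπ, hπs, hn, E, i1, i2, h1, h2, h3⟩ := exists_cover hSe A hA N hN
  have hnoe : IsLocallyNoetherian S₁ := LocallyOfFiniteType.isLocallyNoetherian π
  have a1 : Smooth (Red.bc π A).hom := inferInstanceAs (Smooth (pullback.snd A.hom π))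
  have a2 : IsSeparated (Red.bc π A).hom := inferInstanceAs (IsSeparated (pullback.snd A.hom π))
  have a3 : QuasiCompact (Red.bc π A).hom := inferInstanceAs (QuasiCompact (pullback.snd A.hom π))
  have a4 : IsCommMonObj (Red.bc π A) := inferInstanceAs (IsCommMonObj ((Over.pullback π).obj A))
  obtain ⟨A₁, gA, cA, u, hu, huo, hgen, b1, b2, b3, b4, b5⟩ := NormPush.main (fun s => (hn s).2) h1 h2 (Red.bc π A)
    (K267.SemiPow.rankZero_bc π A hA) N hN h3
  refine ⟨S₁, π, hS₁, hπ, hπs, hn, A₁, gA, cA, u, hu, huo, ?_, b1, b2, b3, b4, b5⟩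
  let r := S₁.fromSpecResidueField (genericPoint S₁)
  have hsq := Sga7.H756.GenBase.isPullback_map r u
  have c1 : IsOpenImmersion ((Over.pullback r).map u).left :=
    MorphismProperty.of_isPullback (P := @IsOpenImmersion) hsq.flip huo
  have c2 : Surjective ((Over.pullback r).map u).left := by
    refine ⟨fun z => ?_⟩
    obtain ⟨x, hx⟩ := hgen ((Sga7.H756.GenBase.bcι r A₁) z) (by
      have e1 : (Sga7.H756.GenBase.bcι r A₁) ≫ A₁.hom = pullback.snd A₁.hom r ≫ r := pullback.condition
      rw [← Scheme.Hom.comp_apply, e1, Scheme.Hom.comp_apply]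
      exact Scheme.fromSpecResidueField_apply _ _)
    obtain ⟨w, hw, -⟩ := Scheme.exists_preimage_of_isPullback hsq z x hx.symm
    exact ⟨w, hw⟩
  have c3 : IsIso ((Over.pullback r).map u).left := (isIso_iff_isOpenImmersion_and_epi_base _).mpr ⟨c1, by
    rw [TopCat.epi_iff_surjective]; exact c2.surj⟩
  have c4 : IsIso ((Over.forget _).map ((Over.pullback r).map u)) := c3
  exact isIso_of_reflects_iso ((Over.pullback r).map u) (Over.forget _)

end K269.NormMain
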