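import Groth.Agent.Sga7.H758.AlgClosed
import Groth.Agent.Sga7.H758.TorsIn
import Groth.Agent.SGA7.K567.SemiAb
import Groth.Agent.S5319
import Groth.Agent.Sga7.H760.KerBc

/-!
# Multiplication by `n` on a semi-stable group scheme is locally quasi-finite

`lqf_pow`: for a commutative separated group scheme of finite type over any base none of whose geometric fibres
contains a copy of the additive group, and `n ≥ 1`, the morphism `n : A ⟶ A` is locally quasi-finite.
-/

set_option autoImplicit false

universe u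

open CategoryTheory Limits MonoidalCategory CartesianMonoidalCategory MonObj GrpObj AlgebraicGeometry

namespace K269.PowLqf

open Groth.Agent Groth.Agent.Sga7.H758 Groth.Agent.Sga7.H758.AlgClosed Groth.Agent.Sga7.H758.EndRing

/-- `[n]` is locally quasi-finite over an algebraically closed field. -/
theorem lqf_algClosed {K : Type u} [Field K] [IsAlgClosed K] (G : Over (Spec (CommRingCat.of K))) [GrpObj G]
    [IsCommMonObj G] [LocallyOfFiniteType G.hom] [QuasiCompact G.hom] (hG : NoGa K G) (m : ℕ) (hm : 0 < m) :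
    LocallyQuasiFinite ((𝟙 G : G ⟶ G) ^ m).left := by
  have hmon : IsMonHom ((𝟙 G : G ⟶ G) ^ m) := isMonHom_pow _ _
  obtain ⟨F, _, i, hi, hcl, hpb, hcomm, hlft, hFqc, hFs⟩ := exists_ker ((𝟙 G : G ⟶ G) ^ m)
  obtain ⟨l, hl, hlp⟩ := Nat.exists_infinite_primes (m + ringChar K + 1)
  have hlK : (l : K) ≠ 0 := by
    intro h
    have h1 := (ringChar.spec K l).mp h
    rcases (Nat.dvd_prime hlp).mp h1 with h2 | h2
    · exact CharP.ringChar_ne_one h2
    · omega
  have hmono : Mono i := by
    have : Mono i.left := inferInstance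
    exact Functor.mono_of_mono_map (Over.forget _) this
  have hfin : IsFinite F.hom := by
    refine TorsIn.torsionInput K F (hG.of_closedImmersion i) l hlp hlK fun x hx => ?_
    have h1 : x ^ m = 1 := by
      rw [← cancel_mono i, MonObj.one_comp, MonObj.pow_comp]
      have h2 := x ≫= hpb.w
      rw [comp_pow, comp_pow, Category.comp_id] at h2
      rw [h2, ← Category.assoc, one_eq_one, comp_one]
    exact eq_one_of_coprime hlp hm (by omega) x hx h1
  have hlftm : LocallyOfFiniteType ((𝟙 G : G ⟶ G) ^ m).left := by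
    have : LocallyOfFiniteType (((𝟙 G : G ⟶ G) ^ m).left ≫ G.hom) := by rw [Over.w]; infer_instance
    exact locallyOfFiniteType_of_comp _ G.hom
  have h := (S5319.result _ G G ((𝟙 G : G ⟶ G) ^ m)
    (fun s => inferInstanceAs (LocallyOfFiniteType (pullback.snd _ _))) F i hpb).2.1
  exact h.2 inferInstance

theorem lqf_pow {S : Scheme.{u}} (A : Over S) [GrpObj A] [IsCommMonObj A] [LocallyOfFiniteType A.hom]
    [IsSeparated A.hom] [QuasiCompact A.hom] (hA : SGA7.FibresUnipotentRankZero A) (n : ℕ) (hn : 0 < n) :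
    LocallyQuasiFinite ((𝟙 A : A ⟶ A) ^ n).left := by
  have hmon : IsMonHom ((𝟙 A : A ⟶ A) ^ n) := isMonHom_pow _ _
  obtain ⟨F, hF, i, hi, hpb⟩ := Groth.Agent.Grpsch.KerMul.exists_kernel ((𝟙 A : A ⟶ A) ^ n)
  have hlftm : LocallyOfFiniteType ((𝟙 A : A ⟶ A) ^ n).left := by
    have : LocallyOfFiniteType (((𝟙 A : A ⟶ A) ^ n).left ≫ A.hom) := by rw [Over.w]; infer_instance
    exact locallyOfFiniteType_of_comp _ A.hom
  have hqc : QuasiCompact ((𝟙 A : A ⟶ A) ^ n).left := by
    have : QuasiCompact (((𝟙 A : A ⟶ A) ^ n).left ≫ A.hom) := by rw [Over.w]; infer_instance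
    exact QuasiCompact.of_comp _ A.hom
  have h := (S5319.result _ A A ((𝟙 A : A ⟶ A) ^ n)
    (fun s => inferInstanceAs (LocallyOfFiniteType (pullback.snd _ _))) F i hpb).1
  refine h.2 fun s => ?_
  have h1 : LocallyOfFiniteType (Red.geomFibre s A).hom :=
    inferInstanceAs (LocallyOfFiniteType (pullback.snd A.hom (Red.geomPt s)))
  have h2 : QuasiCompact (Red.geomFibre s A).hom :=
    inferInstanceAs (QuasiCompact (pullback.snd A.hom (Red.geomPt s)))
  have h3 : LocallyQuasiFinite ((Over.pullback (Red.geomPt s)).map ((𝟙 A : A ⟶ A) ^ n)).left := by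
    rw [K567.SemiAb.map_one_pow]
    exact lqf_algClosed (Red.geomFibre s A) (fun j hj hj' => hA s j hj hj') n hn
  refine Groth.Agent.Sga7.H760.KerBc.lqf_fibreHom ((𝟙 A : A ⟶ A) ^ n) s (Red.geomPt s) ?_
  rw [Scheme.Hom.comp_apply]
  exact Scheme.fromSpecResidueField_apply _ _

end K269.PowLqf
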