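import Groth.Agent.Hopf.K503.QuotCoact
import Groth.Agent.Sga3C.HopfPowTransl
import Mathlib.GroupTheory.SpecificGroups.Cyclic
import Mathlib.LinearAlgebra.TensorProduct.Basis
import Mathlib.RingTheory.HopfAlgebra.Quotient

/-!
# Bicharacters of a commutative Hopf algebra of prime dimension over an algebraically closed field

`k` algebraically closed, `B` a finite commutative Hopf algebra of prime dimension.  A bicharacter `e` of `B` of the
form `c / swap c` (a commutator pairing of a central extension by the multiplicative group which has a section) is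
trivial.
-/

set_option autoImplicit false

universe u

open TensorProduct WithConv Coalgebra
open Groth.Agent.Sga3C.HopfPow

namespace K269.PrimePair

section dich

variable {k : Type u} [Field k] {B : Type u} [CommRing B] [HopfAlgebra k B]

theorem hopfIdeal_le_aug (I : Ideal B) [I.IsHopfIdeal k] : I ≤ augIdeal k B :=
  fun _ hx => Submodule.IsCoideal.counit_eq_zero (I := I.restrictScalars k) hx

/-- Hopf ideals in prime dimension. -/
theorem dichotomy [Module.Finite k B] (hp : (Module.finrank k B).Prime) (I : Ideal B) [I.IsHopfIdeal k] :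
    I = ⊥ ∨ I = augIdeal k B := by
  have h := K503.QuotCoact.finrank_eq (Bialgebra.Quotient.mkBialgHom (R := k) I) Ideal.Quotient.mk_surjective
  have hdvd : Module.finrank k (B ⧸ I) ∣ Module.finrank k B := ⟨_, h.trans (mul_comm _ _)⟩
  rcases (Nat.dvd_prime hp).1 hdvd with h1 | h1
  · right
    apply le_antisymm (hopfIdeal_le_aug I)
    intro x hx
    have hnt : Nontrivial (B ⧸ I) := Module.nontrivial_of_finrank_pos (R := k) (by omega)
    obtain ⟨c, hc⟩ := (finrank_eq_one_iff_of_nonzero' (1 : B ⧸ I) one_ne_zero).1 h1 (Ideal.Quotient.mk I x)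
    have h2 : x - algebraMap k B c ∈ I := by
      rw [← Ideal.Quotient.eq_zero_iff_mem, map_sub, ← hc, sub_eq_zero, Algebra.smul_def, mul_one]
      rfl
    have h3 : x - algebraMap k B c ∈ augIdeal k B := hopfIdeal_le_aug (k := k) I h2
    rw [mem_augIdeal, map_sub, mem_augIdeal.1 hx, Bialgebra.counit_algebraMap, zero_sub, neg_eq_zero] at h3
    have h4 : c = 0 := h3
    rw [h4, map_zero, sub_zero] at h2
    exact h2
  · left
    have h2 := Submodule.finrank_quotient_add_finrank (I.restrictScalars k)
    have h3 : Module.finrank k (B ⧸ (I.restrictScalars k)) = Module.finrank k (B ⧸ I) := rfl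
    have h4 : Module.finrank k (I.restrictScalars k) = 0 := by omega
    rw [Submodule.finrank_eq_zero] at h4
    exact (Submodule.restrictScalars_eq_bot_iff _ _ _).1 h4

end dich

section tens

variable {k : Type u} [Field k] {B : Type u} [CommRing B] [Algebra k B]

/-- second coefficient maps -/
noncomputable def coefR (C : Type u) [CommRing C] [Algebra k C] (φ : B →ₗ[k] k) : C ⊗[k] B →ₗ[k] C :=
  (TensorProduct.rid k C).toLinearMap ∘ₗ LinearMap.lTensor C φ

theorem coefR_tmul (C : Type u) [CommRing C] [Algebra k C] (φ : B →ₗ[k] k) (c : C) (b : B) :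
    coefR C φ (c ⊗ₜ b) = φ b • c := by
  simp [coefR]

theorem coefR_map {C C' : Type u} [CommRing C] [Algebra k C] [CommRing C'] [Algebra k C'] (g : C →ₐ[k] C')
    (φ : B →ₗ[k] k) (z : C ⊗[k] B) :
    coefR C' φ (Algebra.TensorProduct.map g (AlgHom.id k B) z) = g (coefR C φ z) := by
  induction z with
  | zero => simp only [map_zero]
  | add x y hx hy => simp only [map_add, hx, hy]
  | tmul x y => rw [Algebra.TensorProduct.map_tmul, coefR_tmul, coefR_tmul, map_smul, AlgHom.id_apply]

theorem eq_zero_of_coefR (C : Type u) [CommRing C] [Algebra k C] (z : C ⊗[k] B)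
    (h : ∀ φ : B →ₗ[k] k, coefR C φ z = 0) : z = 0 := by
  let b := Module.Basis.ofVectorSpace k B
  apply (b.baseChange C).repr.injective
  rw [map_zero]
  ext i
  have h1 : ∀ z : C ⊗[k] B, (b.baseChange C).repr z i = coefR C (b.coord i) z := by
    intro z
    induction z with
    | zero => simp only [map_zero, Finsupp.coe_zero, Pi.zero_apply]
    | add x y hx hy => rw [map_add, map_add, Finsupp.add_apply, hx, hy]
    | tmul x y => rw [coefR_tmul, Module.Basis.baseChange_repr_tmul, Module.Basis.coord_apply]
  rw [h1, h]; rfl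

/-- first coefficient maps -/
noncomputable def coefL (C : Type u) [CommRing C] [Algebra k C] (φ : B →ₗ[k] k) : B ⊗[k] C →ₗ[k] C :=
  (TensorProduct.lid k C).toLinearMap ∘ₗ LinearMap.rTensor C φ

theorem coefL_tmul (C : Type u) [CommRing C] [Algebra k C] (φ : B →ₗ[k] k) (b : B) (c : C) :
    coefL C φ (b ⊗ₜ c) = φ b • c := by
  simp [coefL]

theorem coefL_map {C C' : Type u} [CommRing C] [Algebra k C] [CommRing C'] [Algebra k C'] (g : C →ₐ[k] C')
    (φ : B →ₗ[k] k) (z : B ⊗[k] C) :
    coefL C' φ (Algebra.TensorProduct.map (AlgHom.id k B) g z) = g (coefL C φ z) := by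
  induction z with
  | zero => simp only [map_zero]
  | add x y hx hy => simp only [map_add, hx, hy]
  | tmul x y => rw [Algebra.TensorProduct.map_tmul, coefL_tmul, coefL_tmul, map_smul, AlgHom.id_apply]

theorem coef_comm (φ ψ : B →ₗ[k] k) (z : B ⊗[k] B) : ψ (coefL B φ z) = φ (coefR B ψ z) := by
  induction z with
  | zero => simp only [map_zero]
  | add x y hx hy => simp only [map_add, hx, hy]
  | tmul x y => rw [coefL_tmul, coefR_tmul, map_smul, map_smul, smul_eq_mul, smul_eq_mul, mul_comm]

/-- an algebra map in the first variable -/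
theorem coefL_algHom_mul (C : Type u) [CommRing C] [Algebra k C] (g : B →ₐ[k] k) (x y : B ⊗[k] C) :
    coefL C g.toLinearMap (x * y) = coefL C g.toLinearMap x * coefL C g.toLinearMap y := by
  induction x with
  | zero => simp only [map_zero, zero_mul]
  | add x x' hx hx' => simp only [add_mul, map_add, hx, hx']
  | tmul a c =>
    induction y with
    | zero => simp only [map_zero, mul_zero]
    | add y y' hy hy' => simp only [mul_add, map_add, hy, hy']
    | tmul a' c' =>
      rw [Algebra.TensorProduct.tmul_mul_tmul, coefL_tmul, coefL_tmul, coefL_tmul, AlgHom.toLinearMap_apply, map_mul,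
        smul_mul_smul_comm]
      rfl

/-- a derivation at `g` in the first variable -/
theorem coefL_der_mul (C : Type u) [CommRing C] [Algebra k C] (g : B →ₐ[k] k) (D : B →ₗ[k] k)
    (hD : ∀ a b, D (a * b) = g a * D b + D a * g b) (x y : B ⊗[k] C) :
    coefL C D (x * y) = coefL C g.toLinearMap x * coefL C D y + coefL C D x * coefL C g.toLinearMap y := by
  induction x with
  | zero => simp only [map_zero, zero_mul, add_zero]
  | add x x' hx hx' => simp only [add_mul, map_add, hx, hx']; ring
  | tmul a c =>
    induction y with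
    | zero => simp only [map_zero, mul_zero, add_zero]
    | add y y' hy hy' => simp only [mul_add, map_add, hy, hy']; ring
    | tmul a' c' =>
      rw [Algebra.TensorProduct.tmul_mul_tmul, coefL_tmul, coefL_tmul, coefL_tmul, coefL_tmul, coefL_tmul, hD,
        AlgHom.toLinearMap_apply, AlgHom.toLinearMap_apply, smul_mul_smul_comm, smul_mul_smul_comm, add_smul]

theorem coefL_swap (φ : B →ₗ[k] k) (z : B ⊗[k] B) :
    coefL B φ (Algebra.TensorProduct.comm k B B z) = coefR B φ z := by
  induction z with
  | zero => simp only [map_zero]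
  | add x y hx hy => simp only [map_add, hx, hy]
  | tmul x y => rw [Algebra.TensorProduct.comm_tmul, coefL_tmul, coefR_tmul]

end tens

section bichar

variable {k : Type u} [Field k] {B : Type u} [CommRing B] [HopfAlgebra k B]

/-- `e` is an invertible bicharacter, in terms of points. -/
structure IsBichar (e : B ⊗[k] B) : Prop where
  unit : IsUnit e
  mul_left : ∀ (R : Type u) [CommRing R] [Algebra k R] (g g' h : WithConv (B →ₐ[k] R)),
    Algebra.TensorProduct.productMap (g * g').ofConv h.ofConv e =
      Algebra.TensorProduct.productMap g.ofConv h.ofConv e * Algebra.TensorProduct.productMap g'.ofConv h.ofConv e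
  mul_right : ∀ (R : Type u) [CommRing R] [Algebra k R] (g h h' : WithConv (B →ₐ[k] R)),
    Algebra.TensorProduct.productMap g.ofConv (h * h').ofConv e =
      Algebra.TensorProduct.productMap g.ofConv h.ofConv e * Algebra.TensorProduct.productMap g.ofConv h'.ofConv e

variable {e : B ⊗[k] B} (he : IsBichar e)

omit [HopfAlgebra k B] in
theorem productMap_incl [Algebra k B] {R C : Type u} [CommRing R] [Algebra k R] [CommRing C] [Algebra k C] (g : B →ₐ[k] R)
    (h : B →ₐ[k] C) :
    Algebra.TensorProduct.productMap (Algebra.TensorProduct.includeLeft.comp g)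
      ((Algebra.TensorProduct.includeRight : C →ₐ[k] R ⊗[k] C).comp h) = Algebra.TensorProduct.map g h := by
  ext <;> simp

include he in
theorem map_mul_left {R : Type u} [CommRing R] [Algebra k R] (g g' : WithConv (B →ₐ[k] R)) :
    Algebra.TensorProduct.map (g * g').ofConv (AlgHom.id k B) e =
      Algebra.TensorProduct.map g.ofConv (AlgHom.id k B) e * Algebra.TensorProduct.map g'.ofConv (AlgHom.id k B) e := by
  have h := he.mul_left (R ⊗[k] B) (toConv (Algebra.TensorProduct.includeLeft.comp g.ofConv))
    (toConv (Algebra.TensorProduct.includeLeft.comp g'.ofConv))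
    (toConv ((Algebra.TensorProduct.includeRight : B →ₐ[k] R ⊗[k] B).comp (AlgHom.id k B)))
  rw [← productMap_incl, ← productMap_incl, ← productMap_incl]
  rw [AlgHom.comp_convMul_distrib]
  exact h

include he in
theorem map_one_left {R : Type u} [CommRing R] [Algebra k R] :
    Algebra.TensorProduct.map (1 : WithConv (B →ₐ[k] R)).ofConv (AlgHom.id k B) e = 1 := by
  have h := map_mul_left he (1 : WithConv (B →ₐ[k] R)) 1
  rw [one_mul] at h
  have hu : IsUnit (Algebra.TensorProduct.map (1 : WithConv (B →ₐ[k] R)).ofConv (AlgHom.id k B) e) :=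
    he.unit.map _
  exact (hu.mul_eq_left.1 h.symm)

omit he in
theorem antipode_mul {R : Type u} [CommRing R] [Algebra k R] (g : B →ₐ[k] R) :
    toConv (g.comp (HopfAlgebra.antipodeAlgHom k B)) * toConv g = 1 := by
  have h1 := AlgHom.comp_convMul_distrib g (toConv (HopfAlgebra.antipodeAlgHom k B)) (toConv (AlgHom.id k B))
  rw [AlgHom.antipode_id_cancel] at h1
  apply WithConv.ofConv_injective
  refine Eq.trans h1.symm ?_
  ext x
  simp [AlgHom.convOne_def]

include he in
theorem map_inv_left {R : Type u} [CommRing R] [Algebra k R] (g : B →ₐ[k] R)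
    (h : Algebra.TensorProduct.map g (AlgHom.id k B) e = 1) :
    Algebra.TensorProduct.map (g.comp (HopfAlgebra.antipodeAlgHom k B)) (AlgHom.id k B) e = 1 := by
  have h1 := map_mul_left he (toConv (g.comp (HopfAlgebra.antipodeAlgHom k B))) (toConv g)
  rw [antipode_mul, map_one_left he, WithConv.ofConv_toConv, WithConv.ofConv_toConv, h, mul_one] at h1
  exact h1.symm

variable (e) in
/-- The ideal of the radical of the pairing. -/
noncomputable def radI : Ideal B := Ideal.span (Set.range fun φ : B →ₗ[k] k => coefR B φ (e - 1))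

omit he in
theorem radI_le_iff {R : Type u} [CommRing R] [Algebra k R] (g : B →ₐ[k] R) :
    (∀ x ∈ radI e, g x = 0) ↔ Algebra.TensorProduct.map g (AlgHom.id k B) e = 1 := by
  constructor
  · intro h
    have h1 : Algebra.TensorProduct.map g (AlgHom.id k B) (e - 1) = 0 := by
      refine eq_zero_of_coefR R _ fun φ => ?_
      rw [coefR_map]
      exact h _ (Ideal.subset_span ⟨φ, rfl⟩)
    rw [map_sub, map_one, sub_eq_zero] at h1
    exact h1
  · intro h
    have h2 : radI e ≤ RingHom.ker g := by
      rw [radI, Ideal.span_le]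
      rintro _ ⟨φ, rfl⟩
      change g (coefR B φ (e - 1)) = 0
      rw [← coefR_map, map_sub, map_one, h, sub_self, map_zero]
    exact fun x hx => h2 hx

include he in
theorem isHopfIdeal_radI : (radI e).IsHopfIdeal k where
  counit_eq_zero := by
    have h1 : (1 : WithConv (B →ₐ[k] k)).ofConv = Bialgebra.counitAlgHom k B := by
      ext; simp [AlgHom.convOne_def]
    have h := (radI_le_iff (e := e) (1 : WithConv (B →ₐ[k] k)).ofConv).2 (map_one_left he)
    rw [h1] at h
    exact fun x hx => h x hx
  map_mkQ_comul_eq_zero := by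
    let m : B →ₐ[k] B ⧸ radI e := Ideal.Quotient.mkₐ k (radI e)
    have hm : Algebra.TensorProduct.map m (AlgHom.id k B) e = 1 :=
      (radI_le_iff (e := e) m).1 fun x hx => Ideal.Quotient.eq_zero_iff_mem.2 hx
    have hmc : ∀ {R : Type u} [CommRing R] [Algebra k R] (f : (B ⧸ radI e) →ₐ[k] R),
        Algebra.TensorProduct.map (f.comp m) (AlgHom.id k B) e = 1 := by
      intro R _ _ f
      rw [← radI_le_iff]
      intro x hx
      have h0 : m x = 0 := Ideal.Quotient.eq_zero_iff_mem.2 hx
      rw [AlgHom.comp_apply, h0, map_zero]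
    have h1 := map_mul_left he
      (toConv ((Algebra.TensorProduct.includeLeft : (B ⧸ radI e) →ₐ[k] (B ⧸ radI e) ⊗[k] (B ⧸ radI e)).comp m))
      (toConv ((Algebra.TensorProduct.includeRight : (B ⧸ radI e) →ₐ[k] (B ⧸ radI e) ⊗[k] (B ⧸ radI e)).comp m))
    rw [WithConv.ofConv_toConv, WithConv.ofConv_toConv, hmc, hmc, mul_one] at h1
    intro x hx
    have h2 := (radI_le_iff (e := e) _).2 h1 x hx
    have h3 : (toConv ((Algebra.TensorProduct.includeLeft :
          (B ⧸ radI e) →ₐ[k] (B ⧸ radI e) ⊗[k] (B ⧸ radI e)).comp m) *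
        toConv ((Algebra.TensorProduct.includeRight :
          (B ⧸ radI e) →ₐ[k] (B ⧸ radI e) ⊗[k] (B ⧸ radI e)).comp m)).ofConv =
        (Algebra.TensorProduct.map m m).comp (Bialgebra.comulAlgHom k B) := by
      rw [AlgHom.convMul_def, WithConv.ofConv_toConv, ← AlgHom.comp_assoc,
        ← Algebra.TensorProduct.productMap_eq_comp_map, ← productMap_incl]
    rw [h3] at h2
    exact h2
  antipode_mem := by
    let m : B →ₐ[k] B ⧸ radI e := Ideal.Quotient.mkₐ k (radI e)
    have hm : Algebra.TensorProduct.map m (AlgHom.id k B) e = 1 :=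
      (radI_le_iff (e := e) m).1 fun x hx => Ideal.Quotient.eq_zero_iff_mem.2 hx
    have h1 := (radI_le_iff (e := e) _).2 (map_inv_left he m hm)
    intro x hx
    exact Ideal.Quotient.eq_zero_iff_mem.1 (h1 x hx)

end bichar

section main

variable {k : Type u} [Field k] {B : Type u} [CommRing B] [HopfAlgebra k B]

/-- A derivation at the unit which kills generators of an ideal in the augmentation ideal kills the ideal. -/
theorem der_span (D : B →ₗ[k] k)
    (hD : ∀ a b, D (a * b) = Bialgebra.counitAlgHom k B a * D b + D a * Bialgebra.counitAlgHom k B b) (S : Set B)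
    (h1 : ∀ s ∈ S, D s = 0) (h0 : ∀ s ∈ S, Bialgebra.counitAlgHom k B s = 0) (x : B) (hx : x ∈ Ideal.span S) :
    D x = 0 := by
  have key : D x = 0 ∧ Bialgebra.counitAlgHom k B x = 0 := by
    induction hx using Submodule.span_induction with
    | mem x h => exact ⟨h1 x h, h0 x h⟩
    | zero => exact ⟨map_zero _, map_zero _⟩
    | add x y _ _ hx hy => exact ⟨by rw [map_add, hx.1, hy.1, add_zero], by rw [map_add, hx.2, hy.2, add_zero]⟩
    | smul a x _ hx =>
      rw [smul_eq_mul]
      exact ⟨by rw [hD, hx.1, hx.2, mul_zero, mul_zero, add_zero], by rw [map_mul, hx.2, mul_zero]⟩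
  exact key.1

/-- Tangent vectors. -/
theorem exists_der (h : augIdeal k B ^ 2 ≠ augIdeal k B) : ∃ D : B →ₗ[k] k,
    (∀ a b, D (a * b) = Bialgebra.counitAlgHom k B a * D b + D a * Bialgebra.counitAlgHom k B b) ∧
      ∃ x ∈ augIdeal k B, D x ≠ 0 := by
  obtain ⟨x, hx, hx2⟩ : ∃ x ∈ augIdeal k B, x ∉ augIdeal k B ^ 2 := by
    by_contra hcon
    push Not at hcon
    exact h (le_antisymm (Ideal.pow_le_self two_ne_zero) hcon)
  let W : Submodule k B := (augIdeal k B ^ 2).restrictScalars k ⊔ Submodule.span k {1}
  have hxW : x ∉ W := by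
    intro hW
    obtain ⟨y, hy, z, hz, hyz⟩ := Submodule.mem_sup.1 hW
    obtain ⟨c, rfl⟩ := Submodule.mem_span_singleton.1 hz
    have hy' : y ∈ augIdeal k B ^ 2 := hy
    have h1 : Bialgebra.counitAlgHom k B x = 0 := hx
    have h2 : Bialgebra.counitAlgHom k B y = 0 := Ideal.pow_le_self two_ne_zero hy'
    rw [← hyz, map_add, h2, map_smul, map_one, zero_add, smul_eq_mul, mul_one] at h1
    rw [h1, zero_smul, add_zero] at hyz
    exact hx2 (hyz ▸ hy')
  obtain ⟨D, hDx, hD⟩ := Submodule.exists_dual_map_eq_bot_of_notMem hxW inferInstance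
  have hDW : ∀ w ∈ W, D w = 0 := by
    intro w hw
    have h1 : D w ∈ W.map D := Submodule.mem_map_of_mem hw
    rw [hD] at h1
    exact h1
  refine ⟨D, fun a b => ?_, x, hx, hDx⟩
  have h1 : ∀ c : k, D (algebraMap k B c) = 0 := by
    intro c
    rw [Algebra.algebraMap_eq_smul_one, map_smul, hDW 1 (Submodule.mem_sup_right (Submodule.mem_span_singleton_self _)),
      smul_zero]
  set ca := Bialgebra.counitAlgHom k B a
  set cb := Bialgebra.counitAlgHom k B b
  have ha : a - algebraMap k B ca ∈ augIdeal k B := by
    change Bialgebra.counitAlgHom k B (a - algebraMap k B ca) = 0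
    rw [map_sub, AlgHom.commutes]
    exact sub_self _
  have hb : b - algebraMap k B cb ∈ augIdeal k B := by
    change Bialgebra.counitAlgHom k B (b - algebraMap k B cb) = 0
    rw [map_sub, AlgHom.commutes]
    exact sub_self _
  have h2 : D ((a - algebraMap k B ca) * (b - algebraMap k B cb)) = 0 := by
    refine hDW _ (Submodule.mem_sup_left ?_)
    change _ ∈ augIdeal k B ^ 2
    rw [pow_two]
    exact Ideal.mul_mem_mul ha hb
  have h3 : a * b = (a - algebraMap k B ca) * (b - algebraMap k B cb) + ca • b + cb • a -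
      algebraMap k B (ca * cb) := by
    rw [Algebra.smul_def, Algebra.smul_def, map_mul]
    ring
  rw [h3, map_sub, map_add, map_add, h2, h1, map_smul, map_smul, smul_eq_mul, smul_eq_mul]
  ring

variable {e : B ⊗[k] B} (he : IsBichar e)

include he in
theorem coefL_counit_eq_one : coefL B (Bialgebra.counitAlgHom k B).toLinearMap e = 1 := by
  have h := map_one_left he (R := k)
  have h1 : (1 : WithConv (B →ₐ[k] k)).ofConv = Bialgebra.counitAlgHom k B := by
    ext; simp [AlgHom.convOne_def]
  rw [h1] at h
  have h2 : ∀ z : B ⊗[k] B, coefL B (Bialgebra.counitAlgHom k B).toLinearMap z =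
      Algebra.TensorProduct.lid k B (Algebra.TensorProduct.map (Bialgebra.counitAlgHom k B) (AlgHom.id k B) z) := by
    intro z
    induction z with
    | zero => simp only [map_zero]
    | add x y hx hy => simp only [map_add, hx, hy]
    | tmul x y =>
      rw [Algebra.TensorProduct.map_tmul, coefL_tmul, Algebra.TensorProduct.lid_tmul]
      rfl
  rw [h2, h, map_one]

include he in
/-- The tangent vector pairs into a primitive element. -/
theorem comul_coefL (D : B →ₗ[k] k)
    (hD : ∀ a b, D (a * b) = Bialgebra.counitAlgHom k B a * D b + D a * Bialgebra.counitAlgHom k B b) :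
    CoalgebraStruct.comul (R := k) (coefL B D e) = coefL B D e ⊗ₜ[k] (1 : B) + (1 : B) ⊗ₜ[k] coefL B D e := by
  have h := he.mul_right (B ⊗[k] (B ⊗[k] B)) (toConv (Algebra.TensorProduct.includeLeft.comp (AlgHom.id k B)))
    (toConv ((Algebra.TensorProduct.includeRight : (B ⊗[k] B) →ₐ[k] B ⊗[k] (B ⊗[k] B)).comp
      Algebra.TensorProduct.includeLeft))
    (toConv ((Algebra.TensorProduct.includeRight : (B ⊗[k] B) →ₐ[k] B ⊗[k] (B ⊗[k] B)).comp
      Algebra.TensorProduct.includeRight))
  have h1 : (toConv ((Algebra.TensorProduct.includeRight : (B ⊗[k] B) →ₐ[k] B ⊗[k] (B ⊗[k] B)).comp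
      Algebra.TensorProduct.includeLeft) *
    toConv ((Algebra.TensorProduct.includeRight : (B ⊗[k] B) →ₐ[k] B ⊗[k] (B ⊗[k] B)).comp
      Algebra.TensorProduct.includeRight)).ofConv =
    (Algebra.TensorProduct.includeRight : (B ⊗[k] B) →ₐ[k] B ⊗[k] (B ⊗[k] B)).comp (Bialgebra.comulAlgHom k B) := by
    rw [AlgHom.convMul_def, WithConv.ofConv_toConv, ← AlgHom.comp_assoc,
      ← Algebra.TensorProduct.productMap_eq_comp_map]
    congr 1
    ext <;> simp
  rw [h1, WithConv.ofConv_toConv, WithConv.ofConv_toConv, WithConv.ofConv_toConv, productMap_incl, productMap_incl,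
    productMap_incl] at h
  have h2 := congrArg (coefL (B ⊗[k] B) D) h
  rw [coefL_der_mul (B ⊗[k] B) (Bialgebra.counitAlgHom k B) D hD, coefL_map, coefL_map, coefL_map, coefL_map, coefL_map,
    coefL_counit_eq_one he, map_one, map_one, one_mul, mul_one] at h2
  rw [add_comm]
  exact h2

/-- The ideal generated by a primitive element is a Hopf ideal. -/
theorem isHopfIdeal_span_prim (h : B)
    (hh : CoalgebraStruct.comul (R := k) h = h ⊗ₜ[k] (1 : B) + (1 : B) ⊗ₜ[k] h)
    (h0 : Bialgebra.counitAlgHom k B h = 0) : (Ideal.span {h}).IsHopfIdeal k where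
  counit_eq_zero := by
    intro x hx
    obtain ⟨y, rfl⟩ := Ideal.mem_span_singleton'.1 hx
    change Bialgebra.counitAlgHom k B (y * h) = 0
    rw [map_mul, h0, mul_zero]
  map_mkQ_comul_eq_zero := by
    intro x hx
    obtain ⟨y, rfl⟩ := Ideal.mem_span_singleton'.1 hx
    have hπ : Ideal.Quotient.mkₐ k (Ideal.span {h}) h = 0 :=
      Ideal.Quotient.eq_zero_iff_mem.2 (Ideal.mem_span_singleton_self h)
    have h1 : Algebra.TensorProduct.map (Ideal.Quotient.mkₐ k (Ideal.span {h}))
        (Ideal.Quotient.mkₐ k (Ideal.span {h})) (CoalgebraStruct.comul (R := k) (y * h)) = 0 := by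
      rw [Bialgebra.comul_mul, map_mul, hh, map_add, Algebra.TensorProduct.map_tmul,
        Algebra.TensorProduct.map_tmul, hπ, TensorProduct.zero_tmul, TensorProduct.tmul_zero, add_zero, mul_zero]
    exact h1
  antipode_mem := by
    intro x hx
    obtain ⟨y, rfl⟩ := Ideal.mem_span_singleton'.1 hx
    have h1 : HopfAlgebra.antipode k h = -h := by
      have h2 := LinearMap.congr_fun (HopfAlgebra.mul_antipode_lTensor_comul (R := k) (A := B)) h
      rw [LinearMap.comp_apply, LinearMap.comp_apply, LinearMap.comp_apply] at h2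
      change LinearMap.mul' k B ((HopfAlgebra.antipode k).lTensor B
        (CoalgebraStruct.comul (R := k) h)) = algebraMap k B (Bialgebra.counitAlgHom k B h) at h2
      rw [h0, map_zero, hh, map_add, LinearMap.lTensor_tmul, LinearMap.lTensor_tmul, map_add,
        LinearMap.mul'_apply, LinearMap.mul'_apply, one_mul, HopfAlgebra.antipode_one, mul_one] at h2
      exact eq_neg_of_add_eq_zero_right h2
    rw [HopfAlgebra.antipode_mul_distrib, h1, mul_neg]
    exact neg_mem (Ideal.mul_mem_left _ _ (Ideal.mem_span_singleton_self h))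

/-- The pairing of a tangent vector with itself vanishes. -/
theorem der_coefL_eq_zero {c : B ⊗[k] B} (hc : IsUnit c) (hce : e * Algebra.TensorProduct.comm k B B c = c)
    (D : B →ₗ[k] k)
    (hD : ∀ a b, D (a * b) = Bialgebra.counitAlgHom k B a * D b + D a * Bialgebra.counitAlgHom k B b)
    (h1 : coefL B (Bialgebra.counitAlgHom k B).toLinearMap e = 1)
    (h0 : Bialgebra.counitAlgHom k B (coefL B D e) = 0) : D (coefL B D e) = 0 := by
  set σc := Algebra.TensorProduct.comm k B B c with hσ
  have h2 : D (coefL B D (e * σc)) = D (coefL B D c) := by rw [hce]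
  rw [coefL_der_mul B (Bialgebra.counitAlgHom k B) D hD, h1, one_mul, map_add, hD, h0, zero_mul, zero_add, hσ,
    coefL_swap, ← coef_comm, add_eq_left] at h2
  refine (mul_eq_zero.1 h2).resolve_right fun h3 => ?_
  rw [coefL_swap] at h3
  have h4 : IsUnit (Algebra.TensorProduct.productMap (Bialgebra.counitAlgHom k B) (Bialgebra.counitAlgHom k B) c) :=
    hc.map _
  have h5 : ∀ z : B ⊗[k] B, Bialgebra.counitAlgHom k B (coefR B (Bialgebra.counitAlgHom k B).toLinearMap z) =
      Algebra.TensorProduct.productMap (Bialgebra.counitAlgHom k B) (Bialgebra.counitAlgHom k B) z := by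
    intro z
    induction z with
    | zero => simp only [map_zero]
    | add x y hx hy => simp only [map_add, hx, hy]
    | tmul x y =>
      rw [coefR_tmul, map_smul, Algebra.TensorProduct.productMap_apply_tmul, smul_eq_mul, mul_comm]
      rfl
  rw [h5] at h3
  rw [h3] at h4
  exact not_isUnit_zero h4

include he in
/-- The infinitesimal case. -/
theorem eq_one_of_ne [Module.Finite k B] (hp : (Module.finrank k B).Prime) {c : B ⊗[k] B} (hc : IsUnit c)
    (hce : e * Algebra.TensorProduct.comm k B B c = c) (hm : augIdeal k B ^ 2 ≠ augIdeal k B) : e = 1 := by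
  have hI := isHopfIdeal_radI he
  have h1 := coefL_counit_eq_one he
  rcases dichotomy hp (radI e) with hbot | haug
  · have h2 : e - 1 = 0 := by
      refine eq_zero_of_coefR B _ fun φ => ?_
      have h3 : coefR B φ (e - 1) ∈ radI e := Ideal.subset_span ⟨φ, rfl⟩
      rw [hbot] at h3
      exact h3
    exact sub_eq_zero.1 h2
  · exfalso
    obtain ⟨D, hD, x, hx, hDx⟩ := exists_der hm
    have hD1 : D 1 = 0 := by
      have := hD 1 1
      rw [mul_one, map_one (Bialgebra.counitAlgHom k B), one_mul, mul_one] at this
      exact left_eq_add.1 this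
    set h := coefL B D e with hh
    have hcom := comul_coefL he D hD
    have hcou : Bialgebra.counitAlgHom k B h = 0 := by
      have h2 := Coalgebra.rTensor_counit_comul (R := k) h
      rw [hcom, map_add, LinearMap.rTensor_tmul, LinearMap.rTensor_tmul, Bialgebra.counit_one] at h2
      have h3 := congrArg (TensorProduct.lid k B) (add_eq_right.1 h2)
      rw [TensorProduct.lid_tmul, map_zero] at h3
      have h4 := congrArg (Bialgebra.counitAlgHom k B) h3
      rw [map_smul, map_one, map_zero, smul_eq_mul, mul_one] at h4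
      exact h4
    by_cases hz : h = 0
    · apply hDx
      rw [← haug] at hx
      refine der_span D hD _ ?_ ?_ x hx
      · rintro _ ⟨φ, rfl⟩
        change D (coefR B φ (e - 1)) = 0
        rw [← coef_comm, map_sub, ← hh, hz, zero_sub, Algebra.TensorProduct.one_def, coefL_tmul, hD1, zero_smul,
          neg_zero, map_zero]
      · rintro _ ⟨φ, rfl⟩
        change (Bialgebra.counitAlgHom k B).toLinearMap (coefR B φ (e - 1)) = 0
        rw [← coef_comm, map_sub, h1, Algebra.TensorProduct.one_def, coefL_tmul, AlgHom.toLinearMap_apply, map_one,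
          one_smul, sub_self, map_zero]
    · have hJ := isHopfIdeal_span_prim h hcom hcou
      have hJne : Ideal.span {h} ≠ ⊥ := by rwa [Ne, Ideal.span_singleton_eq_bot]
      have hJ2 := (dichotomy hp (Ideal.span {h})).resolve_left hJne
      apply hDx
      rw [← hJ2] at hx
      refine der_span D hD _ ?_ ?_ x hx
      · intro s hs
        rw [Set.mem_singleton_iff.1 hs]
        exact der_coefL_eq_zero hc hce D hD h1 hcou
      · intro s hs
        rw [Set.mem_singleton_iff.1 hs]
        exact hcou

end main

section etale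

variable {k : Type u} [Field k] [IsAlgClosed k] {B : Type u} [CommRing B] [HopfAlgebra k B] [Module.Finite k B]

theorem eq_zero_of_pts (hred : nilradical B = ⊥) (b : B) (h : ∀ x : B →ₐ[k] k, x b = 0) : b = 0 := by
  have : IsArtinianRing B := isArtinian_of_tower k inferInstance
  have h1 : b ∈ nilradical B := by
    rw [IsArtinianRing.nilradical_eq_iInf, Ideal.mem_iInf]
    intro I
    obtain ⟨g, hg⟩ := (bijective_ker k B).2 I
    rw [← hg]
    exact h g
  rw [hred] at h1
  exact h1

theorem etale_data (hm : augIdeal k B ^ 2 = augIdeal k B) :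
    nilradical B = ⊥ ∧ Module.finrank k B = Nat.card (WithConv (B →ₐ[k] k)) := by
  have : IsArtinianRing B := isArtinian_of_tower k inferInstance
  obtain ⟨N₁, hN₁⟩ := IsArtinianRing.isNilpotent_nilradical (R := B)
  have hN : nilradical B ^ (N₁ + 1) = ⊥ := by rw [pow_succ, hN₁]; simp
  have hpow : ∀ n : ℕ, augIdeal k B ^ (n + 1) = augIdeal k B := by
    intro n
    induction n with
    | zero => rw [zero_add, pow_one]
    | succ n ih => rw [pow_succ, ih, ← pow_two, hm]
  have hfr : Module.finrank k (B ⧸ augIdeal k B ^ (N₁ + 1)) = 1 := by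
    rw [hpow]
    have e1 : (B ⧸ augIdeal k B) ≃ₐ[k] k :=
      Ideal.quotientKerAlgEquivOfSurjective (f := Bialgebra.counitAlgHom k B)
        (fun x => ⟨algebraMap k B x, AlgHom.commutes _ _⟩)
    rw [e1.toLinearEquiv.finrank_eq, Module.finrank_self]
  have h1 := nilradical_pow_eq_bot (K := k) (A := B) (N₁ + 1) hN
  have h2 := finrank_eq_card_mul (K := k) (A := B) (N₁ + 1) hN
  rw [hfr, pow_one] at h1
  rw [hfr, mul_one] at h2
  exact ⟨h1, h2⟩

variable {e : B ⊗[k] B} (he : IsBichar e)

include he in
theorem eq_one_of_eq (hp : (Module.finrank k B).Prime) {c : B ⊗[k] B} (hc : IsUnit c)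
    (hce : e * Algebra.TensorProduct.comm k B B c = c) (hm : augIdeal k B ^ 2 = augIdeal k B) : e = 1 := by
  obtain ⟨hred, hcard⟩ := etale_data hm
  have hpr : Fact (Module.finrank k B).Prime := ⟨hp⟩
  have hcyc : IsCyclic (WithConv (B →ₐ[k] k)) := isCyclic_of_prime_card (p := Module.finrank k B) hcard.symm
  let E (x y : WithConv (B →ₐ[k] k)) : k := Algebra.TensorProduct.productMap x.ofConv y.ofConv e
  have hEu : ∀ x y, IsUnit (E x y) := fun x y => he.unit.map _
  let FL (y : WithConv (B →ₐ[k] k)) : WithConv (B →ₐ[k] k) →* k :=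
    { toFun := fun x => E x y
      map_one' := by
        have h1 := he.mul_left k 1 1 y
        rw [one_mul] at h1
        exact (hEu 1 y).mul_eq_left.1 h1.symm
      map_mul' := fun x x' => he.mul_left k x x' y }
  let FR (x : WithConv (B →ₐ[k] k)) : WithConv (B →ₐ[k] k) →* k :=
    { toFun := fun y => E x y
      map_one' := by
        have h1 := he.mul_right k x 1 1
        rw [one_mul] at h1
        exact (hEu x 1).mul_eq_left.1 h1.symm
      map_mul' := fun y y' => he.mul_right k x y y' }
  obtain ⟨g, hg⟩ := hcyc.exists_generator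
  have hgg : E g g = 1 := by
    have h1 := congrArg (Algebra.TensorProduct.productMap g.ofConv g.ofConv) hce
    rw [map_mul] at h1
    have h2 : Algebra.TensorProduct.productMap g.ofConv g.ofConv (Algebra.TensorProduct.comm k B B c) =
        Algebra.TensorProduct.productMap g.ofConv g.ofConv c := by
      generalize c = z
      induction z with
      | zero => simp only [map_zero]
      | add x y hx hy => simp only [map_add, hx, hy]
      | tmul x y =>
        rw [Algebra.TensorProduct.comm_tmul, Algebra.TensorProduct.productMap_apply_tmul,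
          Algebra.TensorProduct.productMap_apply_tmul, mul_comm]
    rw [h2] at h1
    exact (hc.map (Algebra.TensorProduct.productMap g.ofConv g.ofConv)).mul_eq_right.1 h1
  have hxg : ∀ x, E x g = 1 := by
    intro x
    have h1 : Subgroup.zpowers g ≤ (FL g).ker := (Subgroup.zpowers_le).2 hgg
    exact h1 (hg x)
  have hxy : ∀ x y, E x y = 1 := by
    intro x y
    have h1 : Subgroup.zpowers g ≤ (FR x).ker := (Subgroup.zpowers_le).2 (hxg x)
    exact h1 (hg y)
  have h2 : e - 1 = 0 := by
    refine eq_zero_of_coefR B _ fun φ => ?_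
    refine eq_zero_of_pts (k := k) hred _ fun x => ?_
    have h3 : coefL B x.toLinearMap (e - 1) = 0 := by
      refine eq_zero_of_pts (k := k) hred _ fun y => ?_
      have h4 : ∀ z : B ⊗[k] B, y (coefL B x.toLinearMap z) = Algebra.TensorProduct.productMap x y z := by
        intro z
        induction z with
        | zero => simp only [map_zero]
        | add x y hx hy => simp only [map_add, hx, hy]
        | tmul a b =>
          rw [coefL_tmul, map_smul, Algebra.TensorProduct.productMap_apply_tmul, smul_eq_mul]
          rfl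
      rw [h4, map_sub, map_one, sub_eq_zero]
      exact hxy (toConv x) (toConv y)
    have h5 := coef_comm (B := B) x.toLinearMap φ (e - 1)
    rw [h3, map_zero] at h5
    exact h5.symm
  exact sub_eq_zero.1 h2

include he in
/-- The pairing is trivial. -/
theorem eq_one (hp : (Module.finrank k B).Prime) {c : B ⊗[k] B} (hc : IsUnit c)
    (hce : e * Algebra.TensorProduct.comm k B B c = c) : e = 1 := by
  by_cases hm : augIdeal k B ^ 2 = augIdeal k B
  · exact eq_one_of_eq he hp hc hce hm
  · exact eq_one_of_ne he hp hc hce hm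

end etale

end K269.PrimePair
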