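import Groth.Agent.S1699
import Groth.Agent.S2280
import Groth.Agent.S0558
import Groth.Agent.Ega4dA.FibPair1
import Groth.Agent.Sga2lef.H82.FibDepth
import Groth.Agent.CalgA.DepthSmall

/-!
# Opens meeting all fibres of a smooth morphism with connected fibres are schematically dense
-/

set_option autoImplicit false
universe u

open CategoryTheory CategoryTheory.Limits AlgebraicGeometry TopologicalSpace
open Groth.Agent

namespace K269.SmDense

/-- The fibre of a smooth morphism with connected fibre is integral. -/
theorem isIntegral_fiber {X S : Scheme.{u}} (f : X ⟶ S) [Smooth f] (s : S)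
    (hs : ConnectedSpace (f.fiber s)) : IsIntegral (f.fiber s) := by
  have h1 : Smooth (f.fiberToSpecResidueField s) :=
    inferInstanceAs (Smooth (pullback.snd f (S.fromSpecResidueField s)))
  have : IsLocallyNoetherian (Spec (S.residueField s)) := inferInstance
  have : IsLocallyNoetherian (f.fiber s) :=
    LocallyOfFiniteType.isLocallyNoetherian (f.fiberToSpecResidueField s)
  refine ((S2280.result (f.fiber s)).2).2 ⟨hs, fun x => ?_⟩
  have : IsRegularLocalRing ((f.fiber s).presheaf.stalk x) :=
    Groth.Agent.Ega4dB.SmoothReg.isRegularLocalRing_stalk_of_smooth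
      (f.fiberToSpecResidueField s) x (Groth.Agent.Ega4dB.LocEmb.isRegularLocalRing_stalk_Spec _ _)
  exact S0558.result _

/-- An open meeting all the fibres of a smooth morphism with connected fibres is schematically dense. -/
theorem isSchematicallyDense_of_smooth {X S : Scheme.{u}} [IsLocallyNoetherian S] (f : X ⟶ S)
    [Smooth f] (hf : ∀ s : S, _root_.IsPreconnected (f ⁻¹' {s})) (Ω : X.Opens)
    (hΩ : ∀ x : X, ∃ y ∈ Ω, f y = f x) :
    CInt.IsSchematicallyDense Ω := by
  have hX : IsLocallyNoetherian X := LocallyOfFiniteType.isLocallyNoetherian f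
  rw [S1699.result]
  intro x hx
  have hd0 : ¬ ((1 : ℕ∞) ≤ LocCoh.depth (X.presheaf.stalk x) (X.presheaf.stalk x)) := by
    intro h
    have := (CalgA.DepthSmall.one_le_depth_iff_notMem_associatedPrimes (M := X.presheaf.stalk x)).1 h
    exact this hx
  have hd : ¬ ((1 : ℕ∞) ≤ LocCoh.depth (CInt.fiberStalk f x) (CInt.fiberStalk f x)) := fun h =>
    hd0 (h.trans (Sga2lef.H82.FibDepth.depth_fiberStalk_le f x))
  have hd' : LocCoh.depth (CInt.fiberStalk f x) (CInt.fiberStalk f x) = 0 := by
    rw [not_le, Order.lt_one_iff] at hd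
    exact hd
  have hdim : ringKrullDim (CInt.fiberStalk f x) = 0 := by
    rw [← Ega4dA.FibPair1.depth_fiberStalk, hd']
    rfl
  obtain ⟨y, hyΩ, hyx⟩ := hΩ x
  have hc : ConnectedSpace (f.fiber (f x)) := by
    have h1 : ConnectedSpace (f ⁻¹' {f x}) :=
      { toPreconnectedSpace := isPreconnected_iff_preconnectedSpace.1 (hf (f x))
        toNonempty := ⟨⟨x, rfl⟩⟩ }
    exact (f.fiberHomeo (f x)).symm.surjective.connectedSpace (f.fiberHomeo (f x)).symm.continuous
  have hI := isIntegral_fiber f (f x) hc
  let y' : f.fiber (f x) := (f.fiberHomeo (f x)).symm ⟨y, hyx⟩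
  have hy' : f.fiberι (f x) y' = y := f.fiberι_fiberHomeo_symm _ ⟨y, hyx⟩
  have hgen : genericPoint (f.fiber (f x)) ⤳ f.asFiber x := genericPoint_specializes _
  have heq : genericPoint (f.fiber (f x)) = f.asFiber x := by
    have hss : Subsingleton (PrimeSpectrum ((f.fiber (f x)).presheaf.stalk (f.asFiber x))) := by
      have h5 : Ring.KrullDimLE 0 ((f.fiber (f x)).presheaf.stalk (f.asFiber x)) := by
        rw [Ring.krullDimLE_iff]
        exact hdim.le
      have h6 : IsField ((f.fiber (f x)).presheaf.stalk (f.asFiber x)) :=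
        Ring.KrullDimLE.isField_of_isDomain
      let _ := h6.toField
      infer_instance
    have h7 : genericPoint (f.fiber (f x)) ∈
        Set.range ((f.fiber (f x)).fromSpecStalk (f.asFiber x)) := by
      rw [Scheme.range_fromSpecStalk]; exact hgen
    have h8 : f.asFiber x ∈ Set.range ((f.fiber (f x)).fromSpecStalk (f.asFiber x)) := by
      rw [Scheme.range_fromSpecStalk]; exact specializes_rfl
    obtain ⟨a, ha⟩ := h7
    obtain ⟨b, hb⟩ := h8
    have hab : a = b := Subsingleton.elim (α := PrimeSpectrum _) a b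
    exact ha.symm.trans ((congrArg _ hab).trans hb)
  have h3 : f.asFiber x ⤳ y' := heq ▸ genericPoint_specializes y'
  have h4 : x ⤳ y := by
    have := h3.map (f.fiberι (f x)).continuous
    rwa [hy', f.fiberι_asFiber] at this
  exact h4.mem_open Ω.2 hyΩ

end K269.SmDense
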