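import Groth.Agent.GrpSch.K269.PushKer
import Groth.Agent.GrpSch.K269.SmDense
import Groth.Agent.S14330
import Mathlib.AlgebraicGeometry.Morphisms.UniversallyOpen
import Mathlib.AlgebraicGeometry.Morphisms.Smooth
import Mathlib.AlgebraicGeometry.Morphisms.FlatDescent

/-!
# Sections of a line bundle vanishing to high order along a section are zero (finite case)
-/

set_option autoImplicit false
universe u

open CategoryTheory CategoryTheory.Limits AlgebraicGeometry TopologicalSpace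
open Groth.Agent Groth.Agent.Smoothlim.LineSec

namespace K269.PushInj

open K269.PushKer

/-- Sections of an invertible module restrict injectively if functions do. -/
theorem injective_of_forall {A : Scheme.{u}} (L : A.Modules) (hL : PicF.IsInvertible L)
    (D W : A.Opens)
    (hD : ∀ V ≤ W, Function.Injective (A.presheaf.map (homOfLE (inf_le_left : V ⊓ D ≤ V)).op)) :
    Function.Injective (L.presheaf.map (homOfLE (inf_le_left : W ⊓ D ≤ W)).op) := by
  rw [injective_iff_map_eq_zero]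
  intro s hs
  have key : ∀ x : W, ∃ (U : A.Opens) (h : U ≤ W) (_ : x.1 ∈ U), res h s = 0 := by
    rintro ⟨x, hx⟩
    obtain ⟨U, t, hxU, hUW, -, ht⟩ := exists_gen_affine hL hx
    refine ⟨U, hUW, hxU, ?_⟩
    obtain ⟨r, hr⟩ := (ht U le_rfl).2 (res hUW s)
    dsimp only at hr
    have hr0 : r = 0 := by
      apply hD U hUW
      rw [map_zero]
      apply (ht (U ⊓ D) inf_le_left).1
      dsimp only
      rw [zero_smul]
      have h1 := congrArg (res (inf_le_left : U ⊓ D ≤ U)) hr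
      rw [res_smul, res_res, res_res] at h1
      have h2 : res (inf_le_left.trans hUW : U ⊓ D ≤ W) s = 0 := by
        have h3 := congrArg (res (inf_le_inf_right D hUW : U ⊓ D ≤ W ⊓ D)) hs
        rw [res_zero] at h3
        refine Eq.trans ?_ h3
        exact (res_res (inf_le_left : W ⊓ D ≤ W) _ s).symm
      rw [h2] at h1
      exact h1
    rw [← hr, hr0]
    exact zero_smul _ _
  choose U hUW hxU hU using key
  refine sep U hUW (fun x hx => ?_) fun i => ?_
  · rw [Opens.mem_iSup]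
    exact ⟨⟨x, hx⟩, hxU ⟨x, hx⟩⟩
  · rw [hU i, res_zero]

/-- Schematic density inside an open subscheme. -/
theorem injective_of_toScheme {A : Scheme.{u}} (T D : A.Opens)
    (h : CInt.IsSchematicallyDense (T.ι ⁻¹ᵁ D)) (V : A.Opens) (hV : V ≤ T) :
    Function.Injective (A.presheaf.map (homOfLE (inf_le_left : V ⊓ D ≤ V)).op) := by
  rw [injective_iff_map_eq_zero]
  intro s hs
  have h1 : T.ι.app V s = 0 := by
    apply h (T.ι ⁻¹ᵁ V)
    rw [map_zero]
    have h2 := congrArg (T.ι.app (V ⊓ D)) hs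
    rw [map_zero] at h2
    refine Eq.trans ?_ h2
    exact (congr($(T.ι.naturality (homOfLE (inf_le_left : V ⊓ D ≤ V)).op) s)).symm
  have hle : V ≤ T.ι ''ᵁ T.ι ⁻¹ᵁ V := by
    intro x hx
    exact ⟨⟨x, hV hx⟩, hx, rfl⟩
  have h3 : resO hle (T.ι.app V s) = 0 := by
    rw [h1]; exact resO_zero _
  have h4 : T.ι.app V s = resO (by
      rintro _ ⟨y, hy, rfl⟩
      exact hy : T.ι ''ᵁ T.ι ⁻¹ᵁ V ≤ V) s := by
    rw [Scheme.Opens.ι_app]; rfl
  rw [h4, resO_resO, resO_self] at h3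
  exact h3

/-- A section of an invertible module over `f⁻¹ D` vanishing on an open meeting all the fibres over `D` vanishes. -/
theorem eq_zero_of_res_eq_zero {A S : Scheme.{u}} [IsLocallyNoetherian S] (f : A ⟶ S) [Smooth f]
    (L : A.Modules) (hL : PicF.IsInvertible L) (D : S.Opens)
    (hD : ∀ s ∈ D, _root_.IsPreconnected (f ⁻¹' {s})) (Ω : A.Opens)
    (hΩ : ∀ s ∈ D, ∃ y ∈ Ω, f y = s) {T : A.Opens} (hT : T = f ⁻¹ᵁ D) (m : Γ(L, T))
    (hm : res (inf_le_left : T ⊓ Ω ≤ T) m = 0) : m = 0 := by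
  subst hT
  have h1 : CInt.IsSchematicallyDense ((f ⁻¹ᵁ D).ι ⁻¹ᵁ Ω) := by
    refine SmDense.isSchematicallyDense_of_smooth (f ∣_ D) (fun s => ?_) _ fun x => ?_
    · have h2 : (f ⁻¹ᵁ D).ι '' ((f ∣_ D) ⁻¹' {s}) = f ⁻¹' {s.1} := by
        ext y
        constructor
        · rintro ⟨z, hz, rfl⟩
          have h3 : D.ι ((f ∣_ D) z) = f ((f ⁻¹ᵁ D).ι z) := by
            rw [← Scheme.Hom.comp_apply, ← Scheme.Hom.comp_apply, morphismRestrict_ι]
          have hz' : (f ∣_ D) z = s := hz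
          rw [hz'] at h3
          exact h3.symm
        · intro hy
          have hy' : f y = s.1 := hy
          have hyD : y ∈ f ⁻¹ᵁ D := by
            show f y ∈ D
            rw [hy']; exact s.2
          refine ⟨⟨y, hyD⟩, ?_, rfl⟩
          apply D.ι.isOpenEmbedding.injective
          rw [← Scheme.Hom.comp_apply, morphismRestrict_ι, Scheme.Hom.comp_apply]
          exact hy'
      have h3 := hD s.1 s.2
      rw [← h2] at h3
      exact (f ⁻¹ᵁ D).ι.isOpenEmbedding.isInducing.isPreconnected_image.1 h3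
    · have hx : f ((f ⁻¹ᵁ D).ι x) ∈ D := x.2
      obtain ⟨y, hyΩ, hy⟩ := hΩ _ hx
      have hyD : y ∈ f ⁻¹ᵁ D := by
        show f y ∈ D
        rw [hy]; exact hx
      refine ⟨⟨y, hyD⟩, hyΩ, ?_⟩
      apply D.ι.isOpenEmbedding.injective
      rw [← Scheme.Hom.comp_apply, ← Scheme.Hom.comp_apply, morphismRestrict_ι,
        Scheme.Hom.comp_apply, Scheme.Hom.comp_apply]
      exact hy
  exact injective_of_forall L hL Ω (f ⁻¹ᵁ D)
    (fun V hV => injective_of_toScheme (f ⁻¹ᵁ D) Ω h1 V hV) (hm.trans (res_zero _).symm)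

/-- Over an affine open `V` with `Γ(f⁻¹ V, L)` finite and connected fibres, sections vanishing to high order along
the section `e` are zero. -/
theorem exists_ker_eq_bot {A S : Scheme.{u}} [IsLocallyNoetherian S] (f : A ⟶ S) [Smooth f]
    [QuasiCompact f] (e : S ⟶ A) (he : e ≫ f = 𝟙 S) (L : A.Modules) (hL : PicF.IsInvertible L)
    {V : S.Opens} (hV : IsAffineOpen V) [Module.Finite Γ(S, V) Γ((Coh.push f).obj L, V)]
    (hVf : ∀ s ∈ V, _root_.IsPreconnected (f ⁻¹' {s})) {W : A.Opens} (hW : IsAffineOpen W)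
    (hWV : W ≤ f ⁻¹ᵁ V) (hVW : V ≤ e ⁻¹ᵁ W) (t : Γ(L, W)) (ht : IsGen t) :
    ∃ n, ker f e hWV hVW t n = ⊥ := by
  have hA : IsLocallyNoetherian A := LocallyOfFiniteType.isLocallyNoetherian f
  have hN : IsNoetherianRing Γ(S, V) := IsLocallyNoetherian.component_noetherian ⟨V, hV⟩
  have hN' : IsNoetherianRing Γ(A, W) := IsLocallyNoetherian.component_noetherian ⟨W, hW⟩
  refine ChevAss.exists_eq_bot _ (antitone_ker f e hWV hVW t) ?_
  intro p hp m hm
  obtain ⟨c, hc, hcm⟩ := exists_basicOpen f e he hWV hVW t ht p m hm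
  have hmem : ∀ a : Γ(S, V), hV.fromSpec (⟨p, hp⟩ : PrimeSpectrum Γ(S, V)) ∈ S.basicOpen a ↔ a ∉ p := by
    intro a
    have h1 := congrArg (fun O : (Spec Γ(S, V)).Opens => (⟨p, hp⟩ : PrimeSpectrum Γ(S, V)) ∈ O)
      (hV.fromSpec_preimage_basicOpen a)
    exact (iff_of_eq h1)
  set x₀ : S := hV.fromSpec (⟨p, hp⟩ : PrimeSpectrum Γ(S, V)) with hx₀
  have h1 : e x₀ ∈ A.basicOpen c := by
    have h2 := (hmem (es e hVW c)).2 hc
    have h3 := Scheme.basicOpen_appLE e V W hVW c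
    have h4 : x₀ ∈ V ⊓ e ⁻¹ᵁ A.basicOpen c := by
      rw [← h3]; exact h2
    exact h4.2
  have hx₀V : x₀ ∈ V := by
    have := (hmem 1).2 (fun h => hp.ne_top (p.eq_top_iff_one.2 h))
    exact S.basicOpen_le _ this
  have hopen : IsOpen (f '' (A.basicOpen c : Set A)) := Scheme.Hom.isOpenMap f _ (A.basicOpen c).2
  obtain ⟨t₀, ht₀, hxt₀⟩ := hV.exists_basicOpen_le (V := ⟨f '' (A.basicOpen c : Set A), hopen⟩)
    ⟨x₀, ⟨e x₀, h1, by rw [← Scheme.Hom.comp_apply, he]; rfl⟩⟩ hx₀V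
  have ht₀p : t₀ ∉ p := (hmem t₀).1 hxt₀
  have hDV : S.basicOpen t₀ ≤ V := S.basicOpen_le _
  have hTV : f ⁻¹ᵁ S.basicOpen t₀ ≤ f ⁻¹ᵁ V := fun x hx => hDV hx
  let m' : Γ(L, f ⁻¹ᵁ V) := m
  have hcm' : res ((A.basicOpen_le c).trans hWV) m' = 0 := hcm
  have h5 : res hTV m' = 0 := by
    refine eq_zero_of_res_eq_zero f L hL (S.basicOpen t₀) (fun s hs => hVf s (hDV hs))
      (A.basicOpen c) (fun s hs => ?_) rfl _ ?_
    · obtain ⟨y, hy, hys⟩ := ht₀ hs
      exact ⟨y, hy, hys⟩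
    · have h6 := congrArg (res (inf_le_right : f ⁻¹ᵁ S.basicOpen t₀ ⊓ A.basicOpen c ≤ A.basicOpen c)) hcm'
      rw [res_res, res_zero] at h6
      rw [res_res]
      exact h6
  have hcpt : IsCompact ((f ⁻¹ᵁ V : A.Opens) : Set A) := f.isCompact_preimage hV.isCompact
  obtain ⟨k, hk⟩ := exists_pow_smul_eq_zero hL hcpt (f.app V t₀) m' (by
    have h7 : A.basicOpen (f.app V t₀) ≤ f ⁻¹ᵁ S.basicOpen t₀ := by
      rw [Scheme.preimage_basicOpen]
    have h8 := congrArg (res h7) h5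
    rw [res_res, res_zero] at h8
    exact h8)
  refine ⟨t₀ ^ k, fun h => ht₀p (hp.mem_of_pow_mem _ h), ?_⟩
  rw [← map_pow] at hk
  exact hk

end K269.PushInj
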