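import Groth.Agent.Smoothlim.LineSec
import Mathlib.RingTheory.Filtration
import Groth.Agent.GrpSch.K269.ChevAss

/-!
# Sections of a line bundle vanishing to high order along a section

`f : A ⟶ S`, `e : S ⟶ A` a section of `f`, `L` invertible on `A`, trivialized on an open `W` of `A` with
`W ≤ f⁻¹ V`, `V ≤ e⁻¹ W`: the submodules `ker n` of `Γ(f⁻¹ V, L)` of sections whose restriction to `W` lies in
`I^n t`, `I` the kernel of `e^♯`.
-/

set_option autoImplicit false
universe u

open CategoryTheory CategoryTheory.Limits AlgebraicGeometry TopologicalSpace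
open Groth.Agent.Smoothlim.LineSec

namespace K269.PushKer

/-- A form of Krull's intersection theorem. -/
theorem exists_of_forall_mem_pow {B : Type*} [CommRing B] [IsNoetherianRing B] (I : Ideal B)
    (T : Submonoid B) (b : B) (h : ∀ n, ∃ s ∈ T, s * b ∈ I ^ n) :
    ∃ s ∈ T, ∃ i ∈ I, (s + i) * b = 0 := by
  let B' := Localization T
  have hN : IsNoetherianRing B' := IsLocalization.isNoetherianRing T B' inferInstance
  let J : Ideal B' := I.map (algebraMap B B')
  have h1 : algebraMap B B' b ∈ (⨅ i : ℕ, J ^ i • ⊤ : Submodule B' B') := by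
    rw [Submodule.mem_iInf]
    intro n
    obtain ⟨s, hs, hsb⟩ := h n
    have h2 : algebraMap B B' (s * b) ∈ J ^ n := by
      rw [← Ideal.map_pow]
      exact Ideal.mem_map_of_mem _ hsb
    rw [map_mul] at h2
    have h3 : algebraMap B B' b ∈ J ^ n :=
      (Ideal.unit_mul_mem_iff_mem _ (IsLocalization.map_units B' (⟨s, hs⟩ : T))).1 h2
    simpa using h3
  rw [Ideal.mem_iInf_smul_pow_eq_bot_iff] at h1
  obtain ⟨⟨r, hr⟩, hrb⟩ := h1
  rw [IsLocalization.mem_map_algebraMap_iff T] at hr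
  obtain ⟨⟨⟨i, hi⟩, s⟩, hrs⟩ := hr
  have h4 : algebraMap B B' (i * b) = algebraMap B B' (s * b) := by
    have hrb' : r * algebraMap B B' b = algebraMap B B' b := hrb
    have hrs' : r * algebraMap B B' s = algebraMap B B' i := hrs
    rw [map_mul, map_mul, ← hrs', mul_right_comm, hrb', mul_comm]
  obtain ⟨c, hc⟩ := (IsLocalization.eq_iff_exists T B').1 h4
  refine ⟨c * s, T.mul_mem c.2 s.2, -(c * i), I.neg_mem (I.mul_mem_left _ hi), ?_⟩
  rw [add_mul, neg_mul, mul_assoc, mul_assoc, ← hc, add_neg_cancel]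

variable {A S : Scheme.{u}} (f : A ⟶ S) (e : S ⟶ A) (he : e ≫ f = 𝟙 S) (L : A.Modules)
  {V : S.Opens} {W : A.Opens} (hWV : W ≤ f ⁻¹ᵁ V) (hVW : V ≤ e ⁻¹ᵁ W)

/-- the ring map `Γ(S, V) → Γ(A, W)` -/
noncomputable abbrev fs : Γ(S, V) →+* Γ(A, W) := (f.appLE V W hWV).hom

/-- the ring map `Γ(A, W) → Γ(S, V)` given by the section -/
noncomputable abbrev es : Γ(A, W) →+* Γ(S, V) := (e.appLE W V hVW).hom

include he in
theorem es_fs (r : Γ(S, V)) : es e hVW (fs f hWV r) = r := by
  have h1 : f.appLE V W hWV ≫ e.appLE W V hVW = 𝟙 _ := by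
    rw [Scheme.Hom.appLE_comp_appLE]
    have h2 : ∀ (g : S ⟶ S) (_ : g = 𝟙 S) (h : V ≤ g ⁻¹ᵁ V), g.appLE V V h = 𝟙 _ := by
      rintro _ rfl h
      rw [Scheme.Hom.appLE, Scheme.Hom.id_app]
      exact (Category.id_comp _).trans (S.presheaf.map_id _)
    exact h2 _ he _
  exact congr($(h1).hom r)

theorem res_smul_push (r : Γ(S, V)) (m : Γ((Coh.push f).obj L, V)) :
    res (M := L) hWV (r • m : Γ((Coh.push f).obj L, V)) = fs f hWV r • res (M := L) hWV m := by
  have h1 : (r • m : Γ((Coh.push f).obj L, V)) = (f.app V r • (show Γ(L, f ⁻¹ᵁ V) from m)) := rfl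
  rw [h1, res_smul]
  congr 1

variable {L}
/-- Sections whose restriction to `W` lies in `I^n t`. -/
noncomputable def ker (t : Γ(L, W)) (n : ℕ) : Submodule Γ(S, V) Γ((Coh.push f).obj L, V) where
  carrier := {m | ∃ b ∈ (RingHom.ker (es e hVW)) ^ n, res (M := L) hWV m = b • t}
  add_mem' := by
    rintro m m' ⟨b, hb, h⟩ ⟨b', hb', h'⟩
    refine ⟨b + b', Ideal.add_mem _ hb hb', ?_⟩
    rw [add_smul, ← h, ← h']
    exact res_add (M := L) hWV m m'
  zero_mem' := ⟨0, Ideal.zero_mem _, by rw [zero_smul]; exact res_zero (M := L) hWV⟩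
  smul_mem' := by
    rintro r m ⟨b, hb, h⟩
    refine ⟨fs f hWV r * b, Ideal.mul_mem_left _ _ hb, ?_⟩
    rw [mul_smul, ← h]
    exact res_smul_push f L hWV r m

theorem antitone_ker (t : Γ(L, W)) : Antitone (ker f e hWV hVW t) := by
  intro m n hmn x ⟨b, hb, h⟩
  exact ⟨b, Ideal.pow_le_pow_right hmn hb, h⟩

include he in
/-- If all `s_n m` (`s_n ∉ p`) vanish to order `n` along the section then `m` vanishes near `e(p)`. -/
theorem exists_basicOpen [IsNoetherianRing Γ(A, W)] (t : Γ(L, W)) (ht : IsGen t) (p : Ideal Γ(S, V))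
    [p.IsPrime] (m : Γ((Coh.push f).obj L, V))
    (h : ∀ n, ∃ s, s ∉ p ∧ s • m ∈ ker f e hWV hVW t n) :
    ∃ c : Γ(A, W), es e hVW c ∉ p ∧
      res (M := L) ((A.basicOpen_le c).trans hWV) (show Γ(L, f ⁻¹ᵁ V) from m) = 0 := by
  obtain ⟨b, hb⟩ := (ht W le_rfl).2 (res (M := L) hWV m)
  dsimp only at hb
  rw [res_self] at hb
  obtain ⟨s, ⟨s', hs', rfl⟩, i, hi, hsi⟩ := exists_of_forall_mem_pow (RingHom.ker (es e hVW))
    (p.primeCompl.map (fs f hWV)) b (fun n => by
      obtain ⟨s, hs, b', hb', hbb⟩ := h n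
      refine ⟨fs f hWV s, ⟨s, hs, rfl⟩, ?_⟩
      have h2 : fs f hWV s * b = b' := by
        apply (ht W le_rfl).1
        dsimp only
        rw [res_self, mul_smul, hb, ← hbb]
        exact (res_smul_push f L hWV s m).symm
      rwa [h2])
  refine ⟨fs f hWV s' + i, ?_, ?_⟩
  · rw [map_add, es_fs f e he hWV hVW, (RingHom.mem_ker).1 hi, add_zero]
    exact hs'
  · set c := fs f hWV s' + i with hc
    have h3 : res (M := L) (A.basicOpen_le c) (res (M := L) hWV m) = 0 := by
      have h4 : resO (A.basicOpen_le c) c • res (M := L) (A.basicOpen_le c) (res (M := L) hWV m) = 0 := by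
        rw [← res_smul, ← hb, smul_smul, hsi, zero_smul]
        exact res_zero _
      have hu : IsUnit (resO (A.basicOpen_le c) c) := RingedSpace.isUnit_res_basicOpen _ c
      exact (hu.smul_eq_zero).1 h4
    rwa [res_res] at h3

end K269.PushKer
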