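import Groth.Agent.S17447
import Groth.Agent.S17461
import Groth.Agent.GrpSch.K267.DeligneSch
import Groth.Agent.Sga3C.SubGrp
import Groth.Agent.S0506
import Groth.Prelude.Def_Red
import Mathlib.AlgebraicGeometry.SpreadingOut
import Groth.Agent.S0509
import Groth.Agent.S0511

/-!
# Flat quasi-finite commutative group schemes over a quasi-compact base are killed by an integer

* `exists_pow_hensel`: over a henselian Noetherian local ring, some `n ≥ 1` kills the finite part.
* `exists_pow_eq_one`: over a Noetherian base, a flat quasi-finite separated commutative group scheme is killed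
  by some `n ≥ 1`.
-/

set_option autoImplicit false

universe u

open CategoryTheory Limits MonoidalCategory CartesianMonoidalCategory MonObj GrpObj AlgebraicGeometry

namespace K269.QfKill

section Hensel

variable {R : Type u} [CommRing R] [HenselianLocalRing R]

/-- Morphisms from finite schemes land in the finite part. -/
theorem fac {X K : Over (Spec (CommRingCat.of R))} [IsFinite X.hom] [LocallyQuasiFinite K.hom]
    [LocallyOfFiniteType K.hom] [QuasiCompact K.hom] [IsSeparated K.hom] (W : K.left.Opens)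
    (hW : IsClosed (W : Set ↥K.left) ∧ IsFinite (W.ι ≫ K.hom) ∧
      ∀ x : ↥K.left, K.hom.base x = IsLocalRing.closedPoint R → x ∈ W) (g : X ⟶ K) :
    ∃ g' : X ⟶ Over.mk (W.ι ≫ K.hom), g' ≫ (Over.homMk W.ι rfl : Over.mk (W.ι ≫ K.hom) ⟶ K) = g := by
  have h1 : ∀ x : X.left, g.left x ∈ W := by
    intro x
    refine Groth.Agent.S17461.result R X.hom K.hom ⊤ ⟨isClosed_univ, ?_, fun _ _ => trivial⟩ W hW g.left
      (Over.w g) x trivial
    have : IsIso (⊤ : X.left.Opens).ι := inferInstanceAs (IsIso (Scheme.topIso X.left).hom)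
    infer_instance
  have h2 : Set.range g.left ⊆ Set.range W.ι := by
    rintro _ ⟨x, rfl⟩
    rw [Scheme.Opens.range_ι]
    exact h1 x
  refine ⟨Over.homMk (IsOpenImmersion.lift W.ι g.left h2) ?_, ?_⟩
  · change IsOpenImmersion.lift W.ι g.left h2 ≫ W.ι ≫ K.hom = X.hom
    rw [← Category.assoc, IsOpenImmersion.lift_fac, Over.w]
  · ext1
    exact IsOpenImmersion.lift_fac _ _ _

theorem exists_pow_hensel [IsNoetherianRing R] (K : Over (Spec (CommRingCat.of R))) [GrpObj K] [IsCommMonObj K]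
    [Flat K.hom] [LocallyQuasiFinite K.hom] [LocallyOfFiniteType K.hom] [QuasiCompact K.hom]
    [IsSeparated K.hom] :
    ∃ (W : K.left.Opens) (n : ℕ), 0 < n ∧ (∀ x : K.left, K.hom x = IsLocalRing.closedPoint R → x ∈ W) ∧
      W.ι ≫ ((𝟙 K : K ⟶ K) ^ n).left = W.ι ≫ (1 : K ⟶ K).left := by
  obtain ⟨W, hW, -⟩ := Groth.Agent.S17447.result R K.hom
  let W₀ : Over (Spec (CommRingCat.of R)) := Over.mk (W.ι ≫ K.hom)
  let j : W₀ ⟶ K := Over.homMk W.ι rfl
  have hjl : j.left = W.ι := rfl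
  have hfin : IsFinite W₀.hom := hW.2.1
  have hflat : Flat W₀.hom := inferInstanceAs (Flat (W.ι ≫ K.hom))
  have hlfp : LocallyOfFinitePresentation W₀.hom := inferInstance
  have hjm : Mono j.left := inferInstanceAs (Mono W.ι)
  have hj : Mono j := Over.mono_of_mono_left j
  have hfin2 : IsFinite (W₀ ⊗ W₀).hom := by
    rw [Over.tensorObj_hom]
    infer_instance
  have hfin1 : IsFinite (𝟙_ (Over (Spec (CommRingCat.of R)))).hom :=
    inferInstanceAs (IsFinite (𝟙 (Spec (CommRingCat.of R))))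
  obtain ⟨gW, hjmon⟩ : ∃ _ : GrpObj W₀, IsMonHom j :=
    Groth.Agent.Sga3C.SubGrp.exists_grpObj_of_mono j (fac W hW _) (fac W hW _) (fac W hW _)
  have hcomm : IsCommMonObj W₀ := K267.DeligneSch.isCommMonObj_of_iso j
  -- the rank is constant
  let e : W₀.left := (η[W₀] : 𝟙_ _ ⟶ W₀).left (IsLocalRing.closedPoint R)
  let r : ℕ := Scheme.Hom.finrank W₀.hom (IsLocalRing.closedPoint R)
  have hr : ∀ s, Scheme.Hom.finrank W₀.hom s = r := by
    intro s
    have h1 : IsOpen {t | Scheme.Hom.finrank W₀.hom t = r} := W₀.hom.isLocallyConstant_finrank.isOpen_fiber r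
    exact (IsLocalRing.specializes_closedPoint (R := R) s).mem_open h1 rfl
  have hr0 : 0 < r := by
    have h1 := W₀.hom.one_le_finrank_map e
    rw [hr] at h1
    exact h1
  have hkill := K267.DeligneSch.id_pow_eq_one W₀ r hr
  refine ⟨W, r, hr0, hW.2.2, ?_⟩
  have h1 : j ≫ (𝟙 K : K ⟶ K) ^ r = j ≫ (1 : K ⟶ K) := by
    rw [MonObj.comp_pow, Category.comp_id, MonObj.comp_one]
    have h2 : (𝟙 W₀ ≫ j) ^ r = (1 : W₀ ⟶ K) := by
      rw [← MonObj.pow_comp, hkill, MonObj.one_comp]
    rwa [Category.id_comp] at h2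
  have h3 := congrArg (fun z => z.left) h1
  simpa only [Over.comp_left, hjl] using h3

end Hensel

section General

variable {S : Scheme.{u}}

theorem flat_fromSpecStalk (Y : Scheme.{u}) (y : Y) : Flat (Y.fromSpecStalk y) := by
  obtain ⟨_, ⟨U, hU, rfl⟩, hyU, -⟩ :=
    Y.isBasis_affineOpens.exists_subset_of_mem_open (Set.mem_univ y) isOpen_univ
  rw [← hU.fromSpecStalk_eq_fromSpecStalk hyU]
  dsimp only [IsAffineOpen.fromSpecStalk]
  have : Flat (Spec.map (Y.presheaf.germ U y hyU)) := by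
    rw [Flat.SpecMap_iff]
    let : Algebra Γ(Y, U) (Y.presheaf.stalk y) := (Y.presheaf.germ U y hyU).hom.toAlgebra
    have := hU.isLocalization_stalk ⟨y, hyU⟩
    exact IsLocalization.flat (Y.presheaf.stalk y) (hU.primeIdealOf ⟨y, hyU⟩).asIdeal.primeCompl
  have h2 : Flat hU.fromSpec := inferInstance
  exact Flat.comp _ _

theorem pb_fst {S' : Scheme.{u}} (g : S' ⟶ S) {A B : Over S} (f : A ⟶ B) :
    ((Over.pullback g).map f).left ≫ pullback.fst B.hom g = pullback.fst A.hom g ≫ f.left :=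
  pullback.lift_fst _ _ _

theorem agree_near {P X Y : Scheme.{u}} (π : P ⟶ X) [Flat π] [IsLocallyNoetherian X] (w : P) (W : P.Opens)
    (hw : w ∈ W) (a b : X ⟶ Y) (h : W.ι ≫ π ≫ a = W.ι ≫ π ≫ b) :
    ∃ V : X.Opens, π w ∈ V ∧ V.ι ≫ a = V.ι ≫ b := by
  have hst : Spec.map (π.stalkMap w) ≫ X.fromSpecStalk (π w) ≫ a =
      Spec.map (π.stalkMap w) ≫ X.fromSpecStalk (π w) ≫ b := by
    rw [Scheme.SpecMap_stalkMap_fromSpecStalk_assoc, Scheme.SpecMap_stalkMap_fromSpecStalk_assoc]
    have h1 : P.fromSpecStalk w = W.fromSpecStalkOfMem w hw ≫ W.ι := by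
      simp
    rw [h1, Category.assoc, Category.assoc, h]
  have hfl : Flat (Spec.map (π.stalkMap w)) := by
    rw [Flat.SpecMap_iff]
    exact Flat.stalkMap π w
  have hsur : Surjective (Spec.map (π.stalkMap w)) := by
    let _ := (π.stalkMap w).hom.toAlgebra
    have h1 : Module.Flat (X.presheaf.stalk (π w)) (P.presheaf.stalk w) := Flat.stalkMap π w
    have h2 : IsLocalHom (algebraMap (X.presheaf.stalk (π w)) (P.presheaf.stalk w)) :=
      inferInstanceAs (IsLocalHom (π.stalkMap w).hom)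
    have h3 : Module.FaithfullyFlat (X.presheaf.stalk (π w)) (P.presheaf.stalk w) :=
      Module.FaithfullyFlat.of_flat_of_isLocalHom
    exact ⟨PrimeSpectrum.comap_surjective_of_faithfullyFlat⟩
  have hepi : Epi (Spec.map (π.stalkMap w)) := Flat.epi_of_flat_of_surjective _
  rw [cancel_epi] at hst
  exact AlgebraicGeometry.spread_out_unique_of_isGermInjective' _ _ hst

theorem exists_local [IsLocallyNoetherian S] (K : Over S) [GrpObj K] [IsCommMonObj K]
    [Flat K.hom] [LocallyQuasiFinite K.hom] [LocallyOfFiniteType K.hom] [QuasiCompact K.hom]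
    [IsSeparated K.hom] (x : K.left) :
    ∃ (n : ℕ) (V : K.left.Opens), 0 < n ∧ x ∈ V ∧
      V.ι ≫ ((𝟙 K : K ⟶ K) ^ n).left = V.ι ≫ (1 : K ⟶ K).left := by
  let s : S := K.hom x
  obtain ⟨Rh, _, _, _, _, hH⟩ := Groth.Agent.S0506.result (S.presheaf.stalk s)
  have : HenselianLocalRing Rh := hH.1
  have hN : IsNoetherianRing Rh := (Groth.Agent.S0511.result (S.presheaf.stalk s) Rh).1 inferInstance
  have hff : Module.FaithfullyFlat (S.presheaf.stalk s) Rh := Groth.Agent.S0509.result (S.presheaf.stalk s) Rh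
  let g : Spec (CommRingCat.of Rh) ⟶ S :=
    Spec.map (CommRingCat.ofHom (algebraMap (S.presheaf.stalk s) Rh)) ≫ S.fromSpecStalk s
  have hg1 : Flat (Spec.map (CommRingCat.ofHom (algebraMap (S.presheaf.stalk s) Rh))) := by
    rw [Flat.SpecMap_iff]
    exact (RingHom.flat_algebraMap_iff).2 inferInstance
  have hg2 : Flat (S.fromSpecStalk s) := flat_fromSpecStalk S s
  have hg : Flat g := inferInstance
  have hgs : g (IsLocalRing.closedPoint Rh) = s := by
    rw [Scheme.Hom.comp_apply]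
    have h1 : Spec.map (CommRingCat.ofHom (algebraMap (S.presheaf.stalk s) Rh)) (IsLocalRing.closedPoint Rh) =
        IsLocalRing.closedPoint (S.presheaf.stalk s) :=
      IsLocalRing.comap_closedPoint (algebraMap (S.presheaf.stalk s) Rh)
    rw [h1]
    exact Scheme.fromSpecStalk_closedPoint
  let KT : Over (Spec (CommRingCat.of Rh)) := Red.bc g K
  have i1 : Flat KT.hom := inferInstanceAs (Flat (pullback.snd K.hom g))
  have i2 : LocallyQuasiFinite KT.hom := inferInstanceAs (LocallyQuasiFinite (pullback.snd K.hom g))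
  have i3 : LocallyOfFiniteType KT.hom := inferInstanceAs (LocallyOfFiniteType (pullback.snd K.hom g))
  have i4 : QuasiCompact KT.hom := inferInstanceAs (QuasiCompact (pullback.snd K.hom g))
  have i5 : IsSeparated KT.hom := inferInstanceAs (IsSeparated (pullback.snd K.hom g))
  have i6 : IsCommMonObj KT := inferInstanceAs (IsCommMonObj ((Over.pullback g).obj K))
  obtain ⟨W, n, hn, hW, hWn⟩ := exists_pow_hensel KT
  -- a point over `x`
  obtain ⟨w, hw1, hw2⟩ := Scheme.Pullback.exists_preimage_pullback (f := K.hom) (g := g) x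
    (IsLocalRing.closedPoint Rh) hgs.symm
  have hwW : w ∈ W := hW w hw2
  let π : KT.left ⟶ K.left := pullback.fst K.hom g
  have hπ : Flat π := inferInstanceAs (Flat (pullback.fst K.hom g))
  have key : W.ι ≫ π ≫ ((𝟙 K : K ⟶ K) ^ n).left = W.ι ≫ π ≫ (1 : K ⟶ K).left := by
    have e1 : π ≫ ((𝟙 K : K ⟶ K) ^ n).left = ((𝟙 KT : KT ⟶ KT) ^ n).left ≫ π := by
      rw [← K267.DeligneSch.map_pow_one]
      exact (pb_fst g _).symm
    have e2 : π ≫ (1 : K ⟶ K).left = (1 : KT ⟶ KT).left ≫ π := by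
      have h1 : (Over.pullback g).map (1 : K ⟶ K) = (1 : KT ⟶ KT) := Functor.map_one _
      rw [← h1]
      exact (pb_fst g _).symm
    rw [e1, e2, ← Category.assoc, hWn, Category.assoc]
  have : IsLocallyNoetherian K.left := LocallyOfFiniteType.isLocallyNoetherian K.hom
  obtain ⟨V, hxV, hV⟩ := agree_near π w W hwW _ _ key
  rw [show π w = x from hw1] at hxV
  exact ⟨n, V, hn, hxV, hV⟩

theorem exists_pow_eq_one [IsLocallyNoetherian S] [CompactSpace S] (K : Over S) [GrpObj K] [IsCommMonObj K]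
    [Flat K.hom] [LocallyQuasiFinite K.hom] [LocallyOfFiniteType K.hom] [QuasiCompact K.hom]
    [IsSeparated K.hom] : ∃ n : ℕ, 0 < n ∧ (𝟙 K : K ⟶ K) ^ n = 1 := by
  choose n V hn hx hV using exists_local K
  have : CompactSpace K.left := QuasiCompact.compactSpace_of_compactSpace K.hom
  obtain ⟨t, ht⟩ := isCompact_univ.elim_finite_subcover (fun x => (V x : Set K.left)) (fun x => (V x).2)
    (fun x _ => Set.mem_iUnion.2 ⟨x, hx x⟩)
  refine ⟨∏ x ∈ t, n x, Finset.prod_pos fun x _ => hn x, ?_⟩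
  ext1
  refine Scheme.hom_ext_of_forall _ _ fun y => ?_
  obtain ⟨x, hxt, hyx⟩ := Set.mem_iUnion₂.1 (ht (Set.mem_univ y))
  refine ⟨V x, hyx, ?_⟩
  obtain ⟨m, hm⟩ := Finset.dvd_prod_of_mem n hxt
  rw [hm, _root_.pow_mul]
  let j : Over.mk ((V x).ι ≫ K.hom) ⟶ K := Over.homMk (V x).ι rfl
  have h1 : j ≫ (𝟙 K : K ⟶ K) ^ n x = j ≫ (1 : K ⟶ K) := by
    ext1
    exact hV x
  have h2 : j ≫ ((𝟙 K : K ⟶ K) ^ n x) ^ m = j ≫ (1 : K ⟶ K) := by
    rw [MonObj.comp_pow, h1, MonObj.comp_one, _root_.one_pow]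
  exact congrArg (fun z => z.left) h2

end General

end K269.QfKill
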