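import Groth.Agent.GrpSch.K269.QuotSch
import Groth.Agent.Sga3C.QuotProps

/-!
# Quotients of commutative group schemes by closed flat subgroups, quasi-finite over a scheme

`exists_quot_grp`: let `A` be a commutative `S`-group locally of finite type, `i : K ⟶ A` a closed subgroup, flat and
locally of finite presentation over `S`; assume that locally on `S` there is a `K`-invariant morphism from `A` to some
scheme which is locally quasi-finite and locally of finite presentation.  Then `A/K` is a separated commutative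
group scheme.
-/

set_option autoImplicit false
universe u

open CategoryTheory CategoryTheory.Limits MonoidalCategory CartesianMonoidalCategory MonObj GrpObj AlgebraicGeometry

namespace K269.QuotGrp

variable {S : Scheme.{u}} {A K : Over S} [GrpObj A] [GrpObj K] (i : K ⟶ A) [IsMonHom i]

theorem comp_act {T : Over S} (r : T ⟶ K ⊗ A) :
    r ≫ (i ▷ A) ≫ μ[A] = ((r ≫ fst K A) ≫ i) * (r ≫ snd K A) := by
  rw [Hom.mul_def, ← Category.assoc]
  congr 1
  apply CartesianMonoidalCategory.hom_ext <;> simp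

theorem isEqvRel [Mono i] : AlgSp.IsEqvRel (snd K A) ((i ▷ A) ≫ μ[A]) where
  injective T r r' h1 h2 := by
    rw [comp_act, comp_act, h2] at h1
    have h3 := mul_right_cancel h1
    rw [cancel_mono] at h3
    exact CartesianMonoidalCategory.hom_ext _ _ h3 h2
  equivalence T := by
    have key : ∀ a b : T ⟶ A, (∃ r : T ⟶ K ⊗ A, r ≫ (i ▷ A) ≫ μ[A] = a ∧ r ≫ snd K A = b) ↔
        ∃ c : T ⟶ K, (c ≫ i) * b = a := by
      intro a b
      constructor
      · rintro ⟨r, rfl, rfl⟩
        exact ⟨r ≫ fst K A, (comp_act i r).symm⟩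
      · rintro ⟨c, rfl⟩
        exact ⟨lift c b, by rw [comp_act, lift_fst, lift_snd], lift_snd _ _⟩
    simp only [key]
    refine ⟨fun a => ⟨1, ?_⟩, ?_, ?_⟩
    · rw [MonObj.one_comp, _root_.one_mul]
    · rintro a b ⟨c, rfl⟩
      exact ⟨c⁻¹, by rw [GrpObj.inv_comp, inv_mul_cancel_left]⟩
    · rintro a b d ⟨c, rfl⟩ ⟨c', rfl⟩
      exact ⟨c * c', by rw [MonObj.mul_comp, _root_.mul_assoc]⟩

theorem isClosedImmersion_lift [IsClosedImmersion i.left] :
    IsClosedImmersion (prod.lift ((i ▷ A) ≫ μ[A]) (snd K A)).left := by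
  let e : A ⊗ A ≅ A ⨯ A :=
    { hom := prod.lift (fst A A) (snd A A)
      inv := lift prod.fst prod.snd
      hom_inv_id := by
        apply CartesianMonoidalCategory.hom_ext
        · rw [Category.assoc, lift_fst, prod.lift_fst, Category.id_comp]
        · rw [Category.assoc, lift_snd, prod.lift_snd, Category.id_comp]
      inv_hom_id := by
        apply Limits.prod.hom_ext
        · rw [Category.assoc, prod.lift_fst, lift_fst, Category.id_comp]
        · rw [Category.assoc, prod.lift_snd, lift_snd, Category.id_comp] }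
  have h1 : prod.lift ((i ▷ A) ≫ μ[A]) (snd K A) =
      (i ▷ A) ≫ (Groth.Agent.Sga3C.QuotProps.shear A).hom ≫ e.hom := by
    apply Limits.prod.hom_ext
    · rw [prod.lift_fst, Category.assoc, Category.assoc, prod.lift_fst]
      simp [Groth.Agent.Sga3C.QuotProps.shear]
    · rw [prod.lift_snd, Category.assoc, Category.assoc, prod.lift_snd]
      simp [Groth.Agent.Sga3C.QuotProps.shear]
  have h2 : IsClosedImmersion (i ▷ A).left := K269.QuotSch.whiskerRight_left_of @IsClosedImmersion i A ‹_›
  have h3 : IsIso ((Groth.Agent.Sga3C.QuotProps.shear A).hom ≫ e.hom).left :=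
    inferInstanceAs (IsIso ((Over.forget S).map ((Groth.Agent.Sga3C.QuotProps.shear A) ≪≫ e).hom))
  rw [h1, Over.comp_left]
  infer_instance

theorem exists_quot_grp [IsCommMonObj A] [LocallyOfFiniteType A.hom] [IsClosedImmersion i.left] [Flat K.hom]
    [LocallyOfFinitePresentation K.hom]
    (H : ∀ x : S, ∃ U : S.Opens, x ∈ U ∧ ∃ (T : Over S) (g : A ⊗ Over.mk U.ι ⟶ T),
      (snd K A ▷ Over.mk U.ι) ≫ g = (((i ▷ A) ≫ μ[A]) ▷ Over.mk U.ι) ≫ g ∧ LocallyQuasiFinite g.left ∧
        LocallyOfFinitePresentation g.left) :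
    ∃ (Q : Over S) (_ : GrpObj Q) (_ : IsCommMonObj Q) (q : A ⟶ Q), IsMonHom q ∧ Flat q.left ∧
      Surjective q.left ∧ LocallyOfFinitePresentation q.left ∧ AlgGrp.IsKernel i q ∧ IsSeparated Q.hom := by
  have hmono : Mono i := by
    have : Mono i.left := inferInstance
    exact Over.mono_of_mono_left i
  have i1 : Flat (snd K A).left := inferInstanceAs (Flat (pullback.snd K.hom A.hom))
  have i2 : LocallyOfFinitePresentation (snd K A).left :=
    inferInstanceAs (LocallyOfFinitePresentation (pullback.snd K.hom A.hom))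
  have i3 : LocallyOfFiniteType ((i ▷ A) ≫ μ[A]).left := by
    have : LocallyOfFiniteType (((i ▷ A) ≫ μ[A]).left ≫ A.hom) := by
      rw [Over.w]
      exact inferInstanceAs (LocallyOfFiniteType (pullback.fst K.hom A.hom ≫ K.hom))
    exact locallyOfFiniteType_of_comp _ A.hom
  obtain ⟨Q, q, h1, h2, h3, h4, h5⟩ := K269.QuotSch.exists_quot (snd K A) ((i ▷ A) ≫ μ[A]) (isEqvRel i)
    (isClosedImmersion_lift i) H
  obtain ⟨gQ, hq⟩ := Groth.Agent.Sga3C.QuotProps.exists_grpObj_quotient i q h1 (by
    intro T g n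
    refine ⟨n, ?_⟩
    rw [mul_comm g, mul_inv_cancel_right])
  have hepi2 : Epi (q ⊗ₘ q) := by
    have f2 : Flat (q ⊗ₘ q).left := Groth.Agent.Sga3C.QuotProps.tensorHom_left_of (@Flat) q q ‹_› ‹_›
    have s2 : Surjective (q ⊗ₘ q).left := Groth.Agent.Sga3C.QuotProps.tensorHom_left_of (@Surjective) q q ‹_› ‹_›
    exact Groth.Agent.Sga3C.QuotProps.epi_of_flat_surjective _
  have hcomm : IsCommMonObj Q := by
    refine ⟨?_⟩
    rw [← cancel_epi (q ⊗ₘ q), ← IsMonHom.mul_hom, ← Category.assoc, BraidedCategory.braiding_naturality,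
      Category.assoc, ← IsMonHom.mul_hom, ← Category.assoc, IsCommMonObj.mul_comm]
  exact ⟨Q, gQ, hcomm, q, hq, h2, h3, h4, Groth.Agent.Sga3C.QuotProps.isKernel_of_quotient i q h1, h5⟩

end K269.QuotGrp
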