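import Groth.Agent.AlgSp.K607.FpQuot
import Groth.Agent.AlgSp.K594.DiagProp
import Groth.Agent.AlgSp.K594.EqvRel
import Groth.Agent.AlgSp.K595.DiagRel
import Groth.Agent.AlgSp.K597.LocP
import Groth.Agent.AlgSp.K597.EtLoc
import Groth.Agent.AlgSp.K609.Sep
import Groth.Agent.AlgSp.K610.SchLocus
import Groth.Agent.S10259
import Groth.Agent.S0114

/-!
# Quotients of schemes by flat equivalence relations, quasi-finite over a scheme

* `lqf_of_fppf_source`: local quasi-finiteness descends along an fppf cover of the source.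
* `isRepresentable_of_lqf`: a sheaf covered by a scheme with flat, locally finitely presented kernel pair which is
  a closed subscheme of the square, and which maps to a scheme so that the covering scheme is quasi-finite over
  it, is representable.
-/

set_option autoImplicit false
universe u

open CategoryTheory CategoryTheory.Limits AlgebraicGeometry Opposite AlgSp

namespace K269.QuotSch

theorem lqf_of_fppf_source {W U T : Scheme.{u}} (w : W ⟶ U) (f : U ⟶ T) [Flat w] [Surjective w]
    [LocallyOfFinitePresentation w] [LocallyOfFinitePresentation (w ≫ f)] [LocallyQuasiFinite (w ≫ f)] :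
    LocallyQuasiFinite f ∧ LocallyOfFinitePresentation f := by
  have h1 : LocallyOfFinitePresentation f := Groth.Agent.S0114.result w f
  refine ⟨?_, h1⟩
  rw [locallyQuasiFinite_iff_isDiscrete_preimage_singleton]
  intro t
  rw [isDiscrete_iff_forall_mem_exists_isOpen]
  intro y hy
  obtain ⟨x, rfl⟩ := w.surjective y
  have h2 := isDiscrete_iff_forall_mem_exists_isOpen.1 ((w ≫ f).isDiscrete_preimage_singleton t) x (by
    rw [Set.mem_preimage, Scheme.Hom.comp_apply]
    exact hy)
  obtain ⟨O, hO, hOt⟩ := h2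
  refine ⟨w '' O, w.isOpenMap _ hO, ?_⟩
  ext z
  constructor
  · rintro ⟨⟨o, ho, rfl⟩, hz⟩
    have h3 : o ∈ O ∩ (w ≫ f) ⁻¹' {t} := ⟨ho, by
      rw [Set.mem_preimage, Scheme.Hom.comp_apply]
      exact hz⟩
    rw [hOt] at h3
    rw [Set.mem_singleton_iff.1 h3]
    rfl
  · intro hz
    rw [Set.mem_singleton_iff.1 hz]
    have h3 : x ∈ O ∩ (w ≫ f) ⁻¹' {t} := by
      rw [hOt]
      rfl
    exact ⟨⟨x, h3.1, rfl⟩, hy⟩

variable {S : Scheme.{u}}

theorem repWith_fppf {F : Sp S} {A R : Over S} (q : (yon S).obj A ⟶ F)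
    [Sheaf.IsLocallySurjective q] {s t : R ⟶ A}
    (h : IsPullback ((yon S).map t) ((yon S).map s) q q) [Flat s.left]
    [LocallyOfFinitePresentation s.left] [LocallyOfFiniteType t.left] : RepWith K609.Sep.Fppf q := by
  obtain ⟨h1, h2, h3, h4⟩ := K607.FpQuot.of_kernelPair q h
  exact ⟨h2.1, fun U V a fst snd sq => ⟨⟨h4.2 a fst snd sq, h2.2 a fst snd sq⟩, h3.2 a fst snd sq⟩⟩

theorem isSeparatedSp_of_kernelPair {F : Sp S} {A R : Over S} (q : (yon S).obj A ⟶ F)
    [Sheaf.IsLocallySurjective q] {s t : R ⟶ A}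
    (h : IsPullback ((yon S).map t) ((yon S).map s) q q) [Flat s.left]
    [LocallyOfFinitePresentation s.left] [LocallyOfFiniteType t.left]
    (hcl : IsClosedImmersion (prod.lift t s).left) : RepWith @IsClosedImmersion (Limits.diag F) := by
  obtain ⟨h1, h2, h3, h4⟩ := K607.FpQuot.of_kernelPair q h
  refine K609.Sep.repWith_diag_of_chart @IsClosedImmersion h1 (repWith_fppf q h) h ?_
  rw [← K609.Diag.lift_left_comp_prodLeftIsoPullback]
  infer_instance

theorem isRepresentable_of_lqf {F : Sp S} {A R : Over S} (q : (yon S).obj A ⟶ F)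
    [Sheaf.IsLocallySurjective q] {s t : R ⟶ A}
    (h : IsPullback ((yon S).map t) ((yon S).map s) q q) [Flat s.left]
    [LocallyOfFinitePresentation s.left] [LocallyOfFiniteType t.left]
    (hdiag : RepWith @IsClosedImmersion (Limits.diag F))
    {T : Over S} (f : F ⟶ (yon S).obj T) (g : A ⟶ T) (hg : q ≫ f = (yon S).map g)
    [LocallyQuasiFinite g.left] [LocallyOfFinitePresentation g.left] : F.obj.IsRepresentable := by
  obtain ⟨h1, h2, h3, h4⟩ := K607.FpQuot.of_kernelPair q h
  have hF : IsAlgSpace F := K607.FpQuot.isAlgSpace_of_kernelPair q h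
  have hq : RepWith K609.Sep.Fppf q := repWith_fppf q h
  have hsep : IsSeparatedMor f := K595.DiagRel.repWith_diagonal_of_diag f hdiag
  obtain ⟨U, a, ha, has⟩ := hF.atlas
  obtain ⟨g', hg'⟩ := (yon S).map_surjective (a ≫ f)
  obtain ⟨W, p, r, sq⟩ := K609.Sep.exists_isPullback_yon h1 q a
  have hp : Etale p.left := ha.2 q ((yon S).map r) p sq.flip
  have hr : K609.Sep.Fppf r.left := hq.2 a ((yon S).map p) r sq
  obtain ⟨⟨i1, i2⟩, i3⟩ := hr
  have e1 : p ≫ g = r ≫ g' := by
    apply (yon S).map_injective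
    rw [Functor.map_comp, Functor.map_comp, ← hg, hg', ← Category.assoc, sq.w, Category.assoc]
  have e2 : p.left ≫ g.left = r.left ≫ g'.left := congrArg (fun z => z.left) e1
  have i4 : LocallyQuasiFinite p.left := K597.locallyQuasiFinite_of_etale p.left
  have i5 : LocallyQuasiFinite (r.left ≫ g'.left) := by rw [← e2]; infer_instance
  have i6 : LocallyOfFinitePresentation (r.left ≫ g'.left) := by rw [← e2]; infer_instance
  obtain ⟨h5, h6⟩ := lqf_of_fppf_source r.left g'.left
  have hqf : LocP (@LocallyQuasiFinite ⊓ @LocallyOfFiniteType) f :=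
    K597.locP_of_chart K597.etLoc_lqf f a (𝟙 _) g' ha has (repWith_id _ T) (by
      rw [hg', Category.comp_id]) ⟨h5, inferInstance⟩
  exact Groth.Agent.S10259.result T ⟨F, hF⟩ ⟨f⟩ hqf hsep

/-- Representability is local on the base. -/
theorem isRepresentable_of_base {F : Sp S} (hF : IsAlgSpace F) (c : F ⟶ (yon S).obj (Over.mk (𝟙 S)))
    (H : ∀ x : S, ∃ U : S.Opens, x ∈ U ∧
      ∃ (F' : Sp S) (j : F' ⟶ F) (c' : F' ⟶ (yon S).obj (Over.mk U.ι)),
        IsPullback j c' c ((yon S).map (Over.homMk U.ι : Over.mk U.ι ⟶ Over.mk (𝟙 S))) ∧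
        F'.obj.IsRepresentable) : F.obj.IsRepresentable := by
  refine (K610.SchLocus.isRepresentable_iff_forall (X := ⟨F, hF⟩)).2 fun x => ?_
  induction x using Points.ind with
  | h p =>
    obtain ⟨U, hxU, F', j, c', sq, hrep⟩ := H (p.str (IsLocalRing.closedPoint p.K))
    have hjU : RepWith @IsOpenImmersion ((yon S).map (Over.homMk U.ι : Over.mk U.ι ⟶ Over.mk (𝟙 S))) :=
      (repWith_yon_map_iff _ _).2 (inferInstance : IsOpenImmersion U.ι)
    have hj : RepWith @IsOpenImmersion j := (RepWith @IsOpenImmersion).of_isPullback sq.flip hjU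
    refine ⟨_, (K610.SchLocus.isSch_iff hj).2 hrep, ?_⟩
    have hr : Set.range p.str ⊆ Set.range U.ι := by
      rintro _ ⟨y, rfl⟩
      rw [Scheme.Opens.range_ι, Subsingleton.elim y (IsLocalRing.closedPoint p.K)]
      exact hxU
    let v : p.pt ⟶ Over.mk U.ι := Over.homMk (IsOpenImmersion.lift U.ι p.str hr) (IsOpenImmersion.lift_fac _ _ _)
    let y : (yon S).obj p.pt ⟶ F := (J S).uliftYonedaEquiv.symm p.val
    have hy : y ≫ c = (yon S).map v ≫ (yon S).map (Over.homMk U.ι : Over.mk U.ι ⟶ Over.mk (𝟙 S)) := by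
      obtain ⟨z, hz⟩ := (yon S).map_surjective (y ≫ c)
      rw [← hz, ← Functor.map_comp]
      congr 1
      exact Over.mkIdTerminal.hom_ext _ _
    let l : (yon S).obj p.pt ⟶ F' := sq.lift y ((yon S).map v) hy
    have hl : l ≫ j = y := sq.lift_fst _ _ _
    refine ⟨Points.mk ⟨p.K, p.str, (J S).uliftYonedaEquiv l⟩, ?_⟩
    change Points.mk ⟨p.K, p.str, j.hom.app _ ((J S).uliftYonedaEquiv l)⟩ = Points.mk p
    congr 1
    have h1 : j.hom.app _ ((J S).uliftYonedaEquiv l) = p.val := by
      rw [← (J S).uliftYonedaEquiv_comp, hl]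
      exact Equiv.apply_symm_apply _ _
    rw [h1]
    rfl

theorem isPullback_of_eqv {F : Sp S} {R A : Over S} (q : (yon S).obj A ⟶ F) (s t : R ⟶ A)
    (hinj : ∀ (T : Over S) (r r' : T ⟶ R), r ≫ t = r' ≫ t → r ≫ s = r' ≫ s → r = r')
    (H : ∀ (T : Over S) (a b : T ⟶ A), (yon S).map a ≫ q = (yon S).map b ≫ q →
      ∃ r : T ⟶ R, r ≫ t = a ∧ r ≫ s = b)
    (w : (yon S).map t ≫ q = (yon S).map s ≫ q) : IsPullback ((yon S).map t) ((yon S).map s) q q := by
  rw [K594.Elem.isPullback_iff]
  refine ⟨w, ?_, ?_⟩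
  · rintro T ⟨a⟩ ⟨b⟩ h1 h2
    exact congrArg ULift.up (hinj T a b (congrArg ULift.down h1) (congrArg ULift.down h2))
  · rintro T ⟨a⟩ ⟨b⟩ hab
    have e : ∀ c : T ⟶ A, q.hom.app (op T) ⟨c⟩ = K594.Elem.secEquiv ((yon S).map c ≫ q) := fun c =>
      ((J S).map_uliftYonedaEquiv q c).symm.trans ((J S).uliftYonedaEquiv_naturality q c)
    rw [e, e, Equiv.apply_eq_iff_eq] at hab
    obtain ⟨r, h1, h2⟩ := H T a b hab
    exact ⟨⟨r⟩, congrArg ULift.up h1, congrArg ULift.up h2⟩

section Main

open MonoidalCategory CartesianMonoidalCategory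

variable {A R : Over S}

theorem isPullback_tensor (A U : Over S) : IsPullback (fst A U) (snd A U) (toUnit A) (toUnit U) :=
  ⟨⟨toUnit_unique _ _⟩, ⟨PullbackCone.IsLimit.mk _ (fun c => lift c.fst c.snd) (fun c => lift_fst _ _)
    (fun c => lift_snd _ _) (fun c m h1 h2 => by
      apply CartesianMonoidalCategory.hom_ext
      · rw [h1, lift_fst]
      · rw [h2, lift_snd])⟩⟩

theorem whiskerRight_left_of (P : MorphismProperty Scheme.{u}) [P.IsStableUnderBaseChange] {X Y : Over S}
    (a : X ⟶ Y) (U : Over S) (ha : P a.left) : P (a ▷ U).left := by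
  have h : IsPullback (fst X U) (a ▷ U) a (fst Y U) := by
    refine ⟨⟨(whiskerRight_fst a U).symm⟩, ⟨PullbackCone.IsLimit.mk _ (fun c => lift c.fst (c.snd ≫ snd Y U))
      (fun c => lift_fst _ _) (fun c => ?_) (fun c m h1 h2 => ?_)⟩⟩
    · apply CartesianMonoidalCategory.hom_ext
      · simp [c.condition]
      · simp
    · apply CartesianMonoidalCategory.hom_ext
      · rw [h1, lift_fst]
      · have := congrArg (fun z => z ≫ snd Y U) h2
        simpa using this
  exact MorphismProperty.of_isPullback (h.map (Over.forget S)) ha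

theorem local_rep {F : Sp S} (q : (yon S).obj A ⟶ F) [Sheaf.IsLocallySurjective q] {s t : R ⟶ A}
    (h : IsPullback ((yon S).map t) ((yon S).map s) q q) [Flat s.left]
    [LocallyOfFinitePresentation s.left] [LocallyOfFiniteType t.left]
    (hdiag : RepWith @IsClosedImmersion (Limits.diag F))
    (c : F ⟶ (yon S).obj (𝟙_ (Over S)))
    (U : Over S) [Mono (toUnit U)] {T : Over S} (g : A ⊗ U ⟶ T) (hg : (s ▷ U) ≫ g = (t ▷ U) ≫ g)
    [LocallyQuasiFinite g.left] [LocallyOfFinitePresentation g.left] :
    (pullback c ((yon S).map (toUnit U))).obj.IsRepresentable := by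
  let j := pullback.fst c ((yon S).map (toUnit U))
  let c' := pullback.snd c ((yon S).map (toUnit U))
  have hc : q ≫ c = (yon S).map (toUnit A) := by
    obtain ⟨z, hz⟩ := (yon S).map_surjective (q ≫ c)
    rw [← hz]
    congr 1
    exact toUnit_unique _ _
  have sqA := (isPullback_tensor A U).map (yon S)
  let q' : (yon S).obj (A ⊗ U) ⟶ pullback c ((yon S).map (toUnit U)) :=
    pullback.lift ((yon S).map (fst A U) ≫ q) ((yon S).map (snd A U)) (by rw [Category.assoc, hc, sqA.w])
  have hq'1 : q' ≫ j = (yon S).map (fst A U) ≫ q := pullback.lift_fst _ _ _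
  have hq'2 : q' ≫ c' = (yon S).map (snd A U) := pullback.lift_snd _ _ _
  have sqq : IsPullback ((yon S).map (fst A U)) q' q j := by
    refine IsPullback.of_bot (t := IsPullback.of_hasPullback c ((yon S).map (toUnit U))) ?_ hq'1.symm
    rw [hc]
    change IsPullback _ (q' ≫ c') _ _
    rw [hq'2]
    exact sqA
  have hq' : RepWith K609.Sep.Fppf q' := (RepWith K609.Sep.Fppf).of_isPullback sqq (repWith_fppf q h)
  have hls : Sheaf.IsLocallySurjective q' := K610.Site.isLocallySurjective_of_repWith
    ⟨hq'.1, fun U V a b c d => ⟨⟨(hq'.2 a b c d).1.2, (hq'.2 a b c d).2⟩, (hq'.2 a b c d).1.1⟩⟩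
  have hjm : Mono j := inferInstance
  have h' : IsPullback ((yon S).map (t ▷ U)) ((yon S).map (s ▷ U)) q' q' := by
    refine isPullback_of_eqv q' _ _ ?_ ?_ ?_
    · intro T r r' h1 h2
      have h3 := K594.EqvRel.isEqvRel_of_isPullback q s t h
      apply CartesianMonoidalCategory.hom_ext
      · refine h3.injective T _ _ ?_ ?_
        · have := congrArg (fun z => z ≫ fst A U) h1
          simpa using this
        · have := congrArg (fun z => z ≫ fst A U) h2
          simpa using this
      · have := congrArg (fun z => z ≫ snd A U) h1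
        simpa using this
    · intro T a b hab
      have h1 : (yon S).map (a ≫ fst A U) ≫ q = (yon S).map (b ≫ fst A U) ≫ q := by
        have := congrArg (fun z => z ≫ j) hab
        simp only [Category.assoc, hq'1] at this
        rw [Functor.map_comp, Functor.map_comp, Category.assoc, Category.assoc, this]
      obtain ⟨r, hr1, hr2⟩ := (K594.EqvRel.isPullback_iff_eqv q s t h _ _).2 h1
      have h2 : a ≫ snd A U = b ≫ snd A U := by
        rw [← cancel_mono (toUnit U)]
        exact toUnit_unique _ _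
      refine ⟨lift r (a ≫ snd A U), ?_, ?_⟩
      · apply CartesianMonoidalCategory.hom_ext
        · simp [hr1]
        · simp
      · apply CartesianMonoidalCategory.hom_ext
        · simp [hr2]
        · simp [h2]
    · rw [← cancel_mono j, Category.assoc, Category.assoc, hq'1, ← Category.assoc, ← Category.assoc,
        ← Functor.map_comp, ← Functor.map_comp, whiskerRight_fst, whiskerRight_fst, Functor.map_comp,
        Functor.map_comp, Category.assoc, Category.assoc, h.w]
  obtain ⟨hcol⟩ := K594.Quot.isColimit_of_kernelPair q' h'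
  obtain ⟨f, hf⟩ := Cofork.IsColimit.desc' hcol ((yon S).map g) (by
    rw [← Functor.map_comp, ← Functor.map_comp, hg])
  have hdiag' : RepWith @IsClosedImmersion (Limits.diag (pullback c ((yon S).map (toUnit U)))) :=
    (RepWith @IsClosedImmersion).of_isPullback (K610.Sub.diag_pullback_of_mono j).flip hdiag
  have i1 : Flat (s ▷ U).left := whiskerRight_left_of @Flat s U ‹_›
  have i2 : LocallyOfFinitePresentation (s ▷ U).left := whiskerRight_left_of @LocallyOfFinitePresentation s U ‹_›
  have i3 : LocallyOfFiniteType (t ▷ U).left := whiskerRight_left_of @LocallyOfFiniteType t U ‹_›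
  exact isRepresentable_of_lqf q' h' hdiag' f g hf

/-- **Quotient by an equivalence relation**, when locally on the base the relation lives over a scheme over which
the source is locally quasi-finite. -/
theorem exists_quot (s t : R ⟶ A) (hR : IsEqvRel s t) [Flat s.left] [LocallyOfFinitePresentation s.left]
    [LocallyOfFiniteType t.left] (hcl : IsClosedImmersion (prod.lift t s).left)
    (H : ∀ x : S, ∃ U : S.Opens, x ∈ U ∧ ∃ (T : Over S) (g : A ⊗ Over.mk U.ι ⟶ T),
      (s ▷ Over.mk U.ι) ≫ g = (t ▷ Over.mk U.ι) ≫ g ∧ LocallyQuasiFinite g.left ∧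
        LocallyOfFinitePresentation g.left) :
    ∃ (Q : Over S) (q : A ⟶ Q), IsPullback t s q q ∧ Flat q.left ∧ Surjective q.left ∧
      LocallyOfFinitePresentation q.left ∧ IsSeparated Q.hom := by
  let F := QuotSh.quot Scheme.fppfPrecoverage s t
  let q₀ := K594.Quot.π s t
  have hls : Sheaf.IsLocallySurjective q₀ := K594.Quot.isLocallySurjective_π s t
  have h : IsPullback ((yon S).map t) ((yon S).map s) q₀ q₀ := K594.Quot.isPullback_π s t hR
  have hF : IsAlgSpace F := K607.FpQuot.isAlgSpace_of_kernelPair q₀ h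
  have hdiag : RepWith @IsClosedImmersion (Limits.diag F) := isSeparatedSp_of_kernelPair q₀ h hcl
  obtain ⟨c, -⟩ := Cofork.IsColimit.desc' (K594.Quot.isColimit_of_kernelPair q₀ h).some
    ((yon S).map (toUnit A)) (by
      rw [← Functor.map_comp, ← Functor.map_comp]
      congr 1
      exact toUnit_unique _ _)
  have hrep : F.obj.IsRepresentable := by
    refine isRepresentable_of_base hF c fun x => ?_
    obtain ⟨U, hxU, T, g, hg, hg1, hg2⟩ := H x
    have : Mono (toUnit (Over.mk U.ι)) := by
      have h1 : (toUnit (Over.mk U.ι)).left = U.ι :=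
        (Category.comp_id _).symm.trans (Over.w (toUnit (Over.mk U.ι)))
      have : Mono (toUnit (Over.mk U.ι)).left := by
        rw [h1]
        infer_instance
      exact Over.mono_of_mono_left _
    exact ⟨U, hxU, _, _, _, IsPullback.of_hasPullback _ _,
      local_rep q₀ h hdiag c (Over.mk U.ι) g hg⟩
  obtain ⟨Q, ⟨e⟩⟩ := K610.ZarGlue.isRepresentable_iff.1 hrep
  obtain ⟨q, hq⟩ := (yon S).map_surjective (q₀ ≫ e.inv)
  have h2 : IsPullback ((yon S).map t) ((yon S).map s) ((yon S).map q) ((yon S).map q) := by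
    rw [hq]
    exact IsPullback.of_iso h (Iso.refl _) (Iso.refl _) (Iso.refl _) e.symm (by simp) (by simp) (by simp)
      (by simp)
  have h3 : t ≫ q = s ≫ q := by
    apply (yon S).map_injective
    rw [Functor.map_comp, Functor.map_comp, h2.w]
  have h4 : RepWith K609.Sep.Fppf ((yon S).map q) := by
    rw [hq]
    exact MorphismProperty.RespectsIso.postcomp (P := RepWith K609.Sep.Fppf) _ _ (repWith_fppf q₀ h)
  have h5 : K609.Sep.Fppf q.left := (repWith_yon_map_iff _ _).1 h4
  have h6 : RepWith @IsClosedImmersion (Limits.diag ((yon S).obj Q)) :=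
    (RepWith @IsClosedImmersion).of_isPullback (K610.Sub.diag_pullback_of_mono e.hom).flip hdiag
  refine ⟨Q, q, IsPullback.of_map (yon S) h3 h2, h5.1.2, h5.1.1, h5.2, ⟨(repWith_diag_yon_iff _ _).1 h6⟩⟩

end Main

end K269.QuotSch
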