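import Groth.Agent.GrpSch.K269.QuotGrp
import Groth.Agent.GrpSch.K269.QfKill
import Groth.Agent.GrpSch.K269.PowLqf
import Groth.Agent.Sga7.H756.QFRank
import Groth.Agent.Sga7.H516.RankZero
import Groth.Agent.Sga7.H737.RankZeroBC
import Groth.Agent.Flat2D.LfpComp
import Groth.Agent.S0115
import Groth.Agent.Sga3.H771.QcDesc

/-!
# Quotients of semi-stable group schemes by closed flat quasi-finite subgroups

`main`: over a locally Noetherian base, the quotient of a semi-stable group scheme by a closed flat quasi-finite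
subgroup scheme is a semi-stable group scheme (the hypotheses (i), (ii) of S14299 are not needed: locally on the base
the subgroup is killed by an integer `n`, and `A/K` is quasi-finite and separated over the scheme `A` through `n`).
-/

set_option autoImplicit false
universe u

open CategoryTheory CategoryTheory.Limits MonoidalCategory CartesianMonoidalCategory MonObj GrpObj AlgebraicGeometry

namespace K269.QuotSemi

open Groth.Agent

/-- Points killed by a quotient map come from the kernel. -/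
theorem exists_fac {S : Scheme.{u}} {K A Q : Over S} [GrpObj A] [GrpObj Q]
    {i : K ⟶ A} {q : A ⟶ Q} [IsMonHom q] (h : AlgGrp.IsKernel i q) {T : Over S} (x : T ⟶ A) (hx : x ≫ q = 1) :
    ∃ c : T ⟶ K, c ≫ i = x := by
  have h' : IsPullback i (toUnit K) q η[Q] := h
  refine ⟨h'.lift x (toUnit T) ?_, h'.lift_fst _ _ _⟩
  rw [hx, Hom.one_def]

/-- An endomorphism killed on the kernel factors through the quotient. -/
theorem exists_desc_pow {S : Scheme.{u}} {A K Q : Over S} [GrpObj A] [IsCommMonObj A] [GrpObj Q] (i : K ⟶ A)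
    (q : A ⟶ Q) [IsMonHom q] [Flat q.left] [Surjective q.left] [LocallyOfFinitePresentation q.left]
    (h : AlgGrp.IsKernel i q) (n : ℕ) (hn : i ^ n = 1) :
    ∃ r : Q ⟶ A, IsMonHom r ∧ q ≫ r = (𝟙 A : A ⟶ A) ^ n := by
  obtain ⟨r, hr⟩ := Sga3C.QuotProps.exists_desc q ((𝟙 A : A ⟶ A) ^ n) (by
    intro T x y hxy
    rw [MonObj.comp_pow, MonObj.comp_pow, Category.comp_id, Category.comp_id]
    have h1 : (x * y⁻¹) ≫ q = 1 := by
      rw [MonObj.mul_comp, GrpObj.inv_comp, hxy, mul_inv_cancel]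
    obtain ⟨c, hc⟩ := exists_fac h _ h1
    have h2 : (x * y⁻¹) ^ n = 1 := by
      rw [← hc, ← MonObj.comp_pow, hn, MonObj.comp_one]
    rw [mul_pow, inv_pow, mul_inv_eq_one] at h2
    exact h2)
  refine ⟨r, ?_, hr⟩
  have hm : IsMonHom ((𝟙 A : A ⟶ A) ^ n) := Sga7.H758.EndRing.isMonHom_pow _ _
  have f2 : Flat (q ⊗ₘ q).left := Sga3C.QuotProps.tensorHom_left_of (@Flat) q q ‹_› ‹_›
  have s2 : Surjective (q ⊗ₘ q).left := Sga3C.QuotProps.tensorHom_left_of (@Surjective) q q ‹_› ‹_›
  have e2 : Epi (q ⊗ₘ q) := Sga3C.QuotProps.epi_of_flat_surjective _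
  refine ⟨?_, ?_⟩
  · rw [← IsMonHom.one_hom q, Category.assoc, hr, IsMonHom.one_hom]
  · rw [← cancel_epi (q ⊗ₘ q), ← Category.assoc, ← IsMonHom.mul_hom, Category.assoc, hr, IsMonHom.mul_hom,
      ← hr, ← tensorHom_comp_tensorHom, Category.assoc]

variable {S : Scheme.{u}} [IsLocallyNoetherian S]
  {A : Over S} [GrpObj A] [IsCommMonObj A] [Smooth A.hom] [IsSeparated A.hom] [QuasiCompact A.hom]
  {K : Over S} [GrpObj K] (i : K ⟶ A) [IsMonHom i] [IsClosedImmersion i.left]
  [Flat K.hom] [LocallyQuasiFinite K.hom]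

include i in
/-- Locally on the base the subgroup is killed by an integer. -/
theorem exists_kill (x : S) : ∃ (U : S.Opens) (n : ℕ), x ∈ U ∧ 0 < n ∧
    ((𝟙 (Red.bc U.ι K) : Red.bc U.ι K ⟶ Red.bc U.ι K) ^ n) = 1 := by
  obtain ⟨_, ⟨U : S.Opens, hU, rfl⟩, hxU, -⟩ :=
    S.isBasis_affineOpens.exists_subset_of_mem_open (Set.mem_univ x) isOpen_univ
  have : IsAffine U := hU
  have hmono : Mono i := by
    have : Mono i.left := inferInstance
    exact Over.mono_of_mono_left i
  have h1 : i.left ≫ A.hom = K.hom := Over.w i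
  have i1 : LocallyOfFiniteType K.hom := by rw [← h1]; infer_instance
  have i2 : QuasiCompact K.hom := by rw [← h1]; infer_instance
  have i3 : IsSeparated K.hom := by rw [← h1]; infer_instance
  have i4 : IsCommMonObj K := K267.DeligneSch.isCommMonObj_of_iso i
  have j1 : Flat (Red.bc U.ι K).hom := inferInstanceAs (Flat (pullback.snd K.hom U.ι))
  have j2 : LocallyQuasiFinite (Red.bc U.ι K).hom := inferInstanceAs (LocallyQuasiFinite (pullback.snd K.hom U.ι))
  have j3 : LocallyOfFiniteType (Red.bc U.ι K).hom := inferInstanceAs (LocallyOfFiniteType (pullback.snd K.hom U.ι))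
  have j4 : QuasiCompact (Red.bc U.ι K).hom := inferInstanceAs (QuasiCompact (pullback.snd K.hom U.ι))
  have j5 : IsSeparated (Red.bc U.ι K).hom := inferInstanceAs (IsSeparated (pullback.snd K.hom U.ι))
  have j6 : IsCommMonObj (Red.bc U.ι K) := inferInstanceAs (IsCommMonObj ((Over.pullback U.ι).obj K))
  obtain ⟨n, hn, h⟩ := QfKill.exists_pow_eq_one (Red.bc U.ι K)
  exact ⟨U, n, hxU, hn, h⟩

theorem main (hA : SGA7.FibresUnipotentRankZero A) :
    ∃ (Q : Over S) (_ : GrpObj Q) (_ : IsCommMonObj Q) (q : A ⟶ Q),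
      IsMonHom q ∧ Flat q.left ∧ Surjective q.left ∧ LocallyOfFinitePresentation q.left ∧ AlgGrp.IsKernel i q ∧
      Smooth Q.hom ∧ IsSeparated Q.hom ∧ QuasiCompact Q.hom ∧ SGA7.FibresUnipotentRankZero Q := by
  have h1 : i.left ≫ A.hom = K.hom := Over.w i
  have i1 : LocallyOfFiniteType K.hom := by rw [← h1]; infer_instance
  have i2 : LocallyOfFinitePresentation K.hom := inferInstance
  have hmono : Mono i := by
    have : Mono i.left := inferInstance
    exact Over.mono_of_mono_left i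
  obtain ⟨Q, gQ, cQ, q, hq, hq1, hq2, hq3, hker, hsep⟩ := QuotGrp.exists_quot_grp i (by
    intro x
    obtain ⟨U, n, hxU, hn, hK⟩ := exists_kill i x
    let U' : Over S := Over.mk U.ι
    have hk : fst K U' ≫ (𝟙 K : K ⟶ K) ^ n = fst K U' ≫ (1 : K ⟶ K) := by
      have e1 : (Over.pullback U.ι).map ((𝟙 K : K ⟶ K) ^ n) = (Over.pullback U.ι).map (1 : K ⟶ K) := by
        rw [K267.DeligneSch.map_pow_one, hK]
        exact (Functor.map_one _).symm
      ext1
      have e2 := congrArg (fun z => z.left ≫ pullback.fst K.hom U.ι) e1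
      simp only [QfKill.pb_fst] at e2
      exact e2
    refine ⟨U, hxU, A ⊗ U', ((𝟙 A : A ⟶ A) ^ n) ▷ U', ?_, ?_, ?_⟩
    · rw [← comp_whiskerRight, ← comp_whiskerRight]
      apply CartesianMonoidalCategory.hom_ext
      · rw [whiskerRight_fst, whiskerRight_fst]
        have e3 : (i ▷ A) ≫ μ[A] = (fst K A ≫ i) * snd K A := by
          have := QuotGrp.comp_act i (𝟙 (K ⊗ A))
          simpa using this
        have e7 : ∀ {T : Over S} (x : T ⟶ A), x ≫ (𝟙 A : A ⟶ A) ^ n = x ^ n := by
          intro T x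
          rw [MonObj.comp_pow, Category.comp_id]
        rw [e7, e7, e3, mul_pow, MonObj.comp_mul]
        have e4 : fst (K ⊗ A) U' ≫ (fst K A ≫ i) ^ n = 1 := by
          have e5 : fst (K ⊗ A) U' ≫ fst K A = ((fst K A) ▷ U') ≫ fst K U' := (whiskerRight_fst _ _).symm
          have e6 : (fst K A ≫ i) ^ n = fst K A ≫ ((𝟙 K : K ⟶ K) ^ n) ≫ i := by
            rw [MonObj.pow_comp, Category.id_comp, MonObj.comp_pow]
          rw [e6, ← Category.assoc, e5, Category.assoc, ← Category.assoc (fst K U'), hk, MonObj.comp_one,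
            MonObj.one_comp, MonObj.comp_one]
        rw [e4, _root_.one_mul]
      · rw [whiskerRight_snd, whiskerRight_snd]
    · exact QuotSch.whiskerRight_left_of @LocallyQuasiFinite _ _ (PowLqf.lqf_pow A hA n hn)
    · refine QuotSch.whiskerRight_left_of @LocallyOfFinitePresentation _ _ ?_
      have : LocallyOfFinitePresentation (((𝟙 A : A ⟶ A) ^ n).left ≫ A.hom) := by rw [Over.w]; infer_instance
      exact Flat2D.LfpComp.lfp_of_comp _ A.hom)
  have hsm : Smooth Q.hom := by
    have : Smooth (q.left ≫ Q.hom) := by rw [Over.w]; infer_instance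
    exact S0115.result q.left Q.hom
  have hqc : QuasiCompact Q.hom := by
    have : QuasiCompact (q.left ≫ Q.hom) := by rw [Over.w]; infer_instance
    exact Sga3.H771.QcDesc.quasiCompact_of_surjective_comp q.left Q.hom
  refine ⟨Q, gQ, cQ, q, hq, hq1, hq2, hq3, hker, hsm, hsep, hqc, ?_⟩
  intro s
  obtain ⟨U, n, hxU, hn, hK⟩ := exists_kill i s
  let AU := Red.bc U.ι A
  let QU := Red.bc U.ι Q
  let qU : AU ⟶ QU := (Over.pullback U.ι).map q
  have hqU : IsMonHom qU := inferInstanceAs (IsMonHom ((Over.pullback U.ι).map q))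
  have hsq := Sga7.H756.GenBase.isPullback_map U.ι q
  have a1 : Flat qU.left := MorphismProperty.of_isPullback (P := @Flat) hsq.flip hq1
  have a2 : Surjective qU.left := MorphismProperty.of_isPullback (P := @Surjective) hsq.flip hq2
  have a3 : LocallyOfFinitePresentation qU.left :=
    MorphismProperty.of_isPullback (P := @LocallyOfFinitePresentation) hsq.flip hq3
  have a4 : IsCommMonObj AU := inferInstanceAs (IsCommMonObj ((Over.pullback U.ι).obj A))
  have a5 : Smooth AU.hom := inferInstanceAs (Smooth (pullback.snd A.hom U.ι))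
  have a6 : IsSeparated AU.hom := inferInstanceAs (IsSeparated (pullback.snd A.hom U.ι))
  have a7 : QuasiCompact AU.hom := inferInstanceAs (QuasiCompact (pullback.snd A.hom U.ι))
  have hkU := Sga7.H760.KerBc.isKernel_bc U.ι hker
  have hiU : IsMonHom ((Over.pullback U.ι).map i) := inferInstance
  have hin : ((Over.pullback U.ι).map i : Red.bc U.ι K ⟶ AU) ^ n = 1 := by
    have e1 : ((Over.pullback U.ι).map i : Red.bc U.ι K ⟶ AU) ^ n =
        ((𝟙 (Red.bc U.ι K) : Red.bc U.ι K ⟶ Red.bc U.ι K) ^ n) ≫ (Over.pullback U.ι).map i := by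
      rw [MonObj.pow_comp, Category.id_comp]
    rw [e1, hK, MonObj.one_comp]
  obtain ⟨r, hr, hqr⟩ := exists_desc_pow (A := AU) (Q := QU) _ qU hkU n hin
  have hAU : SGA7.FibreUnipotentRankZero (⟨s, hxU⟩ : U) AU :=
    Sga7.H737.RankZeroBC.fibreUnipotentRankZero_bc U.ι A ⟨s, hxU⟩ (hA s)
  have hAU' : SGA7.FibresUnipotentRankZero AU := fun s' =>
    Sga7.H737.RankZeroBC.fibreUnipotentRankZero_bc U.ι A s' (hA _)
  have hl := PowLqf.lqf_pow AU hAU' n hn
  have hlr : LocallyQuasiFinite r.left := by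
    have b1 : (qU.left ≫ r.left) = ((𝟙 AU : AU ⟶ AU) ^ n).left := congrArg (fun z => z.left) hqr
    have b2 : LocallyQuasiFinite (qU.left ≫ r.left) := by rw [b1]; exact hl
    have b3 : LocallyOfFinitePresentation (qU.left ≫ r.left) := by
      rw [b1]
      have : LocallyOfFinitePresentation (((𝟙 AU : AU ⟶ AU) ^ n).left ≫ AU.hom) := by rw [Over.w]; infer_instance
      exact Flat2D.LfpComp.lfp_of_comp _ AU.hom
    exact (QuotSch.lqf_of_fppf_source qU.left r.left).1
  have hQU : SGA7.FibreUnipotentRankZero (⟨s, hxU⟩ : U) QU := Sga7.H756.QFRank.rankZero_of_lqf r ⟨s, hxU⟩ hAU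
  exact Sga7.H516.RankZero.fibreUnipotentRankZero_of_bc U.ι Q ⟨s, hxU⟩ hQU

end K269.QuotSemi
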