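import Groth.Agent.Etbc.H208.TrdegCount
import Groth.Agent.S2748
import Groth.Agent.S0539
import Groth.Prelude.Def_Hens2
import Mathlib.AlgebraicGeometry.FunctionField
import Mathlib.AlgebraicGeometry.Stalk
import Mathlib.AlgebraicGeometry.ResidueField
import Mathlib.Algebra.Category.Ring.Constructions

/-!
# The generic fibre of the strict henselization of a normal scheme

`isPullback_gen`: `S` an integral scheme, `s` a point with normal local ring, `R` its strict henselization:
`Spec κ(η) ×_S Spec R = Spec (Frac R)`.
-/

set_option autoImplicit false
universe u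
open CategoryTheory CategoryTheory.Limits AlgebraicGeometry

namespace Groth.Agent.GrpSch.K269.RedGen

/-- The residue field at the generic point is a fraction field of every local ring. -/
theorem isFractionRing_residueField {S : Scheme.{u}} [IsIntegral S] (s : S)
    [Algebra (S.presheaf.stalk s) (S.residueField (genericPoint S))]
    (h : algebraMap (S.presheaf.stalk s) (S.residueField (genericPoint S)) =
      (S.presheaf.stalkSpecializes (genericPoint_specializes s) ≫ S.residue (genericPoint S)).hom) :
    IsFractionRing (S.presheaf.stalk s) (S.residueField (genericPoint S)) := by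
  have hf : IsField (S.presheaf.stalk (genericPoint S)) := Field.toIsField S.functionField
  have hb : Function.Bijective (S.residue (genericPoint S)).hom := by
    refine ⟨?_, Ideal.Quotient.mk_surjective⟩
    let := hf.toField
    exact RingHom.injective _
  let e : S.presheaf.stalk (genericPoint S) ≃+* S.residueField (genericPoint S) :=
    RingEquiv.ofBijective _ hb
  let e' : S.functionField ≃ₐ[S.presheaf.stalk s] S.residueField (genericPoint S) :=
    { e with
      commutes' := fun r => by
        rw [h]
        rfl }
  exact IsLocalization.isLocalization_of_algEquiv _ e'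

theorem isPullback_gen {S : Scheme.{u}} [IsIntegral S] (s : S)
    (R : Type u) [CommRing R] [IsLocalRing R] [IsDomain R] [Algebra (S.presheaf.stalk s) R]
    [IsLocalHom (algebraMap (S.presheaf.stalk s) R)]
    [Hensel.IsStrictHenselization (S.presheaf.stalk s) R]
    (K : Type u) [Field K] [Algebra R K] [IsFractionRing R K] :
    ∃ c : Spec (CommRingCat.of K) ⟶ Spec (S.residueField (genericPoint S)),
      IsPullback c (Spec.map (CommRingCat.ofHom (algebraMap R K)))
        (S.fromSpecResidueField (genericPoint S)) (Hens2.specOf S s R) := by
  let O := S.presheaf.stalk s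
  let E := S.residueField (genericPoint S)
  let _ : Algebra (S.presheaf.stalk s) (S.residueField (genericPoint S)) :=
    (S.presheaf.stalkSpecializes (genericPoint_specializes s) ≫ S.residue (genericPoint S)).hom.toAlgebra
  have hfr := isFractionRing_residueField s rfl
  have hff : Module.FaithfullyFlat (S.presheaf.stalk s) R := Groth.Agent.S0539.result _ R
  have hinj : Function.Injective (algebraMap (S.presheaf.stalk s) R) := FaithfulSMul.algebraMap_injective _ R
  have halg : Algebra.IsAlgebraic (S.presheaf.stalk s) R :=
    Groth.Agent.Etbc.H208.TrdegCount.isAlgebraic_strictHens _ R hinj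
  have hinj' : Function.Injective ((algebraMap R K).comp (algebraMap (S.presheaf.stalk s) R)) :=
    (IsFractionRing.injective R K).comp hinj
  let φ : S.residueField (genericPoint S) →+* K := IsFractionRing.lift hinj'
  let _ : Algebra (S.residueField (genericPoint S)) K := φ.toAlgebra
  let _ : Algebra (S.presheaf.stalk s) K := ((algebraMap R K).comp (algebraMap (S.presheaf.stalk s) R)).toAlgebra
  have ht1 : IsScalarTower (S.presheaf.stalk s) R K := IsScalarTower.of_algebraMap_eq fun _ => rfl
  have ht2 : IsScalarTower (S.presheaf.stalk s) (S.residueField (genericPoint S)) K :=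
    IsScalarTower.of_algebraMap_eq fun a => (IsFractionRing.lift_algebraMap hinj' a).symm
  have hpo : Algebra.IsPushout (S.presheaf.stalk s) (S.residueField (genericPoint S)) R K := inferInstance
  have h1 := CommRingCat.isPushout_iff_isPushout.mpr hpo
  have h2 := h1.op.map Scheme.Spec
  refine ⟨Spec.map (CommRingCat.ofHom φ), ?_⟩
  have h3 : S.fromSpecResidueField (genericPoint S) =
      Spec.map (CommRingCat.ofHom (algebraMap (S.presheaf.stalk s) (S.residueField (genericPoint S)))) ≫
        S.fromSpecStalk s := by
    have h4 : CommRingCat.ofHom (algebraMap (S.presheaf.stalk s) (S.residueField (genericPoint S))) =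
      S.presheaf.stalkSpecializes (genericPoint_specializes s) ≫ S.residue (genericPoint S) := rfl
    rw [h4, Spec.map_comp, Category.assoc, Scheme.SpecMap_stalkSpecializes_fromSpecStalk]
    rfl
  have hsq : IsPullback (Spec.map (CommRingCat.ofHom φ)) (Spec.map (CommRingCat.ofHom (algebraMap R K)))
      (Spec.map (CommRingCat.ofHom (algebraMap (S.presheaf.stalk s) (S.residueField (genericPoint S)))))
      (Spec.map (CommRingCat.ofHom (algebraMap (S.presheaf.stalk s) R))) := h2.flip
  have hw : Spec.map (CommRingCat.ofHom φ) ≫ S.fromSpecResidueField (genericPoint S) =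
      Spec.map (CommRingCat.ofHom (algebraMap R K)) ≫ Hens2.specOf S s R := by
    rw [h3, reassoc_of% hsq.w]
  refine ⟨⟨hw⟩, ⟨PullbackCone.IsLimit.mk _ (fun c => hsq.lift c.fst c.snd ?_) ?_ ?_ ?_⟩⟩
  · rw [← cancel_mono (S.fromSpecStalk s), Category.assoc, Category.assoc, ← h3]
    exact c.condition
  · intro c
    exact hsq.lift_fst _ _ _
  · intro c
    exact hsq.lift_snd _ _ _
  · intro c m h5 h6
    refine hsq.hom_ext ?_ ?_
    · rw [hsq.lift_fst]; exact h5
    · rw [hsq.lift_snd]; exact h6

end Groth.Agent.GrpSch.K269.RedGen
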