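import Groth.Agent.Sga3C.SchemImage
import Groth.Agent.S9361
import Groth.Prelude.Def_Red

/-!
# The schematic closure of a closed subgroup of a fibre over a flat monomorphism

`g : T ⟶ S` a flat quasi-compact schematically dominant monomorphism (for example the generic point of an integral
scheme), `A` an `S`-group scheme, `N ⟶ A_T` a closed subgroup.

* `exists_closure` : the schematic closure of a closed subscheme `N` of `E_T` in `E`; its restriction to `T` is `N`.
* `exists_grpObj` : if the closure of a subgroup is flat over `S` then it is a subgroup.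
-/

set_option autoImplicit false
universe u
open CategoryTheory CategoryTheory.Limits AlgebraicGeometry MonObj MonoidalCategory
  CartesianMonoidalCategory GrpObj

namespace Groth.Agent.GrpSch.K269.RedClos

open Groth.Agent.Sga3C.SchemImage Groth.Agent.S9361

variable {S T : Scheme.{u}} (g : T ⟶ S)

theorem isIso_of_left {X Y : Over S} (f : X ⟶ Y) (h : IsIso f.left) : IsIso f := by
  have : IsIso ((Over.forget _).map f) := h
  exact isIso_of_reflects_iso _ (Over.forget _)

theorem exists_closure [Mono g] [Flat g] [QuasiCompact g] (E : Over S) (N : Over T)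
    (j : N ⟶ (Over.pullback g).obj E) [IsClosedImmersion j.left] :
    ∃ (K : Over S) (i : K ⟶ E) (t : N.left ⟶ K.left) (e : (Over.pullback g).obj K ≅ N),
      IsClosedImmersion i.left ∧ QuasiCompact t ∧ IsSchemeTheoreticallyDominant t ∧
      t ≫ i.left = j.left ≫ pullback.fst E.hom g ∧ (Over.pullback g).map i = e.hom ≫ j := by
  let J : N.left ⟶ E.left := j.left ≫ pullback.fst E.hom g
  have hj2 : j.left ≫ pullback.snd E.hom g = N.hom := Over.w j
  have hJ : J ≫ E.hom = N.hom ≫ g := by
    rw [Category.assoc, pullback.condition, reassoc_of% hj2]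
  have hlift : pullback.lift J N.hom hJ = j.left := by
    apply pullback.hom_ext
    · rw [pullback.lift_fst]
    · rw [pullback.lift_snd]
      exact hj2.symm
  have hcl : IsClosedImmersion (pullback.lift J N.hom hJ) := by rw [hlift]; infer_instance
  have hJq : QuasiCompact J := by
    change QuasiCompact (j.left ≫ pullback.fst E.hom g)
    infer_instance
  have hpb := isPullback_image g E.hom N.hom J hJ
  let K : Over S := Over.mk (J.imageι ≫ E.hom)
  let i : K ⟶ E := Over.homMk J.imageι rfl
  have h1 : IsPullback J.toImage N.hom K.hom g := hpb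
  let e₀ : ((Over.pullback g).obj K).left ≅ N.left := h1.isoPullback.symm
  let e : (Over.pullback g).obj K ≅ N := Over.isoMk e₀ (by
    exact h1.isoPullback_inv_snd)
  refine ⟨K, i, J.toImage, e, inferInstanceAs (IsClosedImmersion J.imageι),
    inferInstanceAs (QuasiCompact J.toImage), dominant_toImage J, Scheme.Hom.toImage_imageι J, ?_⟩
  ext1
  apply pullback.hom_ext
  · have h2 : ((Over.pullback g).map i).left ≫ pullback.fst E.hom g = pullback.fst K.hom g ≫ i.left :=
      pullback.lift_fst _ _ _
    refine h2.trans ?_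
    have h3 : (e.hom ≫ j).left ≫ pullback.fst E.hom g = h1.isoPullback.inv ≫ J := by
      rw [Over.comp_left, Category.assoc]
      rfl
    refine Eq.trans ?_ h3.symm
    rw [← h1.isoPullback_inv_fst, Category.assoc]
    change h1.isoPullback.inv ≫ J.toImage ≫ J.imageι = _
    rw [Scheme.Hom.toImage_imageι]
  · have h2 : ((Over.pullback g).map i).left ≫ pullback.snd E.hom g = pullback.snd K.hom g :=
      pullback.lift_snd _ _ _
    refine h2.trans ?_
    have h3 : (e.hom ≫ j).left ≫ pullback.snd E.hom g = h1.isoPullback.inv ≫ N.hom := by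
      rw [Over.comp_left, Category.assoc, hj2]
      rfl
    refine Eq.trans ?_ h3.symm
    exact h1.isoPullback_inv_snd.symm

/-- A morphism from a flat scheme factors through a closed subscheme as soon as it does so over `T`. -/
theorem exists_lift_of_bc [QuasiCompact g] [IsSchemeTheoreticallyDominant g] {Z X Y : Over S} [Flat Z.hom]
    (q : Z ⟶ Y) (i : X ⟶ Y) [IsClosedImmersion i.left] (r : (Over.pullback g).obj Z ⟶ (Over.pullback g).obj X)
    (h : r ≫ (Over.pullback g).map i = (Over.pullback g).map q) : ∃ l : Z ⟶ X, l ≫ i = q := by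
  obtain ⟨l, hl⟩ := exists_lift (pullback.fst Z.hom g) q.left i.left (r.left ≫ pullback.fst X.hom g) (by
    have h1 : ((Over.pullback g).map i).left ≫ pullback.fst Y.hom g = pullback.fst X.hom g ≫ i.left :=
      pullback.lift_fst _ _ _
    have h2 : ((Over.pullback g).map q).left ≫ pullback.fst Y.hom g = pullback.fst Z.hom g ≫ q.left :=
      pullback.lift_fst _ _ _
    rw [Category.assoc, ← h1, ← h2, ← Category.assoc, ← Over.comp_left, h])
  refine ⟨Over.homMk l ?_, ?_⟩
  · rw [← Over.w i, reassoc_of% hl, Over.w q]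
  · ext1
    exact hl

open Functor in
/-- If the closure of a subgroup is flat over `S` then it is a subgroup. -/
theorem exists_grpObj [QuasiCompact g] [IsSchemeTheoreticallyDominant g] {A K : Over S} [GrpObj A]
    [Flat K.hom] (i : K ⟶ A) [IsClosedImmersion i.left] (N : Over T) [GrpObj N]
    (j : N ⟶ Red.bc g A) [IsMonHom j] (e : (Over.pullback g).obj K ≅ N)
    (h : (Over.pullback g).map i = e.hom ≫ j) : ∃ _ : GrpObj K, IsMonHom i := by
  have him : Mono i := (Over.forget _).mono_of_mono_map (inferInstanceAs (Mono i.left))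
  have hj : j = e.inv ≫ (Over.pullback g).map i := by rw [h, Iso.inv_hom_id_assoc]
  have hone : ∃ x : 𝟙_ (Over S) ⟶ K, x ≫ i = η[A] := by
    have : Flat (𝟙_ (Over S)).hom := inferInstanceAs (Flat (𝟙 S))
    refine exists_lift_of_bc g η[A] i (OplaxMonoidal.η (Over.pullback g) ≫ η[N] ≫ e.inv) ?_
    rw [Category.assoc, Category.assoc, ← hj, IsMonHom.one_hom]
    change OplaxMonoidal.η (Over.pullback g) ≫ LaxMonoidal.ε (Over.pullback g) ≫
      (Over.pullback g).map η[A] = _
    rw [← Category.assoc, Functor.Monoidal.η_ε, Category.id_comp]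
  have hmul : ∃ m : K ⊗ K ⟶ K, m ≫ i = (i ⊗ₘ i) ≫ μ[A] := by
    have : Flat (K ⊗ K : Over S).hom := by
      rw [Over.tensorObj_hom]
      infer_instance
    refine exists_lift_of_bc g ((i ⊗ₘ i) ≫ μ[A]) i (OplaxMonoidal.δ (Over.pullback g) K K ≫
      (e.hom ⊗ₘ e.hom) ≫ μ[N] ≫ e.inv) ?_
    rw [Category.assoc, Category.assoc, Category.assoc, ← hj, IsMonHom.mul_hom,
      tensorHom_comp_tensorHom_assoc, ← h]
    change OplaxMonoidal.δ (Over.pullback g) K K ≫ ((Over.pullback g).map i ⊗ₘ (Over.pullback g).map i) ≫
      LaxMonoidal.μ (Over.pullback g) A A ≫ (Over.pullback g).map μ[A] = _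
    rw [LaxMonoidal.μ_natural_assoc, Functor.Monoidal.δ_μ_assoc, ← Functor.map_comp]
  have hinv : ∃ w : K ⟶ K, w ≫ i = i ≫ ι[A] := by
    refine exists_lift_of_bc g (i ≫ ι[A]) i (e.hom ≫ ι[N] ≫ e.inv) ?_
    rw [Category.assoc, Category.assoc, ← hj, Functor.map_comp, h, Category.assoc, GrpObj.inv_hom j]
    rfl
  exact Sga3C.SubGrp.exists_grpObj_of_mono i hmul hone hinv

end Groth.Agent.GrpSch.K269.RedClos
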