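import Groth.Agent.GrpSch.K269.RedFlat
import Groth.Agent.GrpSch.K269.RedClos

/-!
# Closures of finite subgroups of the generic fibre: reduction to local flat closures

`exists_flat_closure`: `g : T ⟶ S` a flat quasi-compact schematically dominant monomorphism, `A` an `S`-group,
`e : E ⟶ A` closed, `N ⟶ E_T` closed, a subgroup of `A_T`. Assume that for every `s : S` there is a flat base change
`S' ⟶ S` with a point `s'` over `s`, a closed and open part `F` of `E_{S'}` containing its fibre at `s'` and a closed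
subscheme `H` of `F`, flat over `S'`, which is `F ∩ N` over `T ×_S S'`. Then `N` extends to a closed subgroup scheme of
`A`, flat over `S` and contained in `E`.
-/

set_option autoImplicit false
universe u
open CategoryTheory CategoryTheory.Limits AlgebraicGeometry MonObj MonoidalCategory
  CartesianMonoidalCategory GrpObj

namespace Groth.Agent.GrpSch.K269.RedMain

open Groth.Agent.Sga3C.SchemImage RedFlat RedClos

variable {S T : Scheme.{u}} (g : T ⟶ S)

/-- Local data at `s`: after a flat base change `f : S' ⟶ S` with a point `s'` over `s`, an open and closed part `F`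
of `E_{S'}` containing the fibre at `s'`, and `H` closed in `F`, flat over `S'`, equal to `F ∩ N` over `T ×_S S'`. -/
def LocClos (E : Over S) (N : Over T) (j : N ⟶ (Over.pullback g).obj E) (s : S) : Prop :=
  ∃ (S' T' : Scheme.{u}) (f : S' ⟶ S) (c : T' ⟶ T) (g' : T' ⟶ S') (F H : Over S')
    (jF : F ⟶ (Over.pullback f).obj E) (iH : H ⟶ F) (s' : S'),
    Flat f ∧ QuasiCompact g' ∧ IsSchemeTheoreticallyDominant g' ∧ IsPullback c g' g f ∧
    IsClosedImmersion jF.left ∧ IsOpenImmersion jF.left ∧ IsClosedImmersion iH.left ∧ Flat H.hom ∧ f s' = s ∧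
    (∀ x : ((Over.pullback f).obj E).left, ((Over.pullback f).obj E).hom x = s' → x ∈ Set.range jF.left) ∧
    ∀ (P : Scheme.{u}) (x : P ⟶ F.left) (p : P ⟶ T'), p ≫ g' = x ≫ F.hom →
      ((∃ h : P ⟶ H.left, h ≫ iH.left = x) ↔
        ∃ z : P ⟶ N.left, z ≫ j.left ≫ pullback.fst E.hom g = x ≫ jF.left ≫ pullback.fst E.hom f)

theorem flatAt_closure (E : Over S) (N : Over T) (j : N ⟶ (Over.pullback g).obj E)
    (K : Over S) (i : K ⟶ E) (t : N.left ⟶ K.left) [IsClosedImmersion i.left] [QuasiCompact t]
    [IsSchemeTheoreticallyDominant t] (ht : t ≫ i.left = j.left ≫ pullback.fst E.hom g)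
    (z₀ : K.left) (hloc : LocClos g E N j (K.hom z₀)) : (K.hom.stalkMap z₀).hom.Flat := by
  obtain ⟨S', T', f, c, g', F, H, jF, iH, s', h1, h2, h3, h4, h5, h6, h7, h8, h9, h10, h11⟩ := hloc
  have hK : i.left ≫ E.hom = K.hom := Over.w i
  obtain ⟨z, hz1, hz2⟩ := Scheme.Pullback.exists_preimage_pullback (f := i.left ≫ E.hom) (g := f) z₀ s' (by
    rw [hK, h9])
  let k' : pullback (i.left ≫ E.hom) f ⟶ pullback E.hom f :=
    pullback.lift (pullback.fst _ _ ≫ i.left) (pullback.snd _ _) (by
      rw [Category.assoc, pullback.condition])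
  have hk1 : k' ≫ pullback.fst E.hom f = pullback.fst _ _ ≫ i.left := pullback.lift_fst _ _ _
  have hk2 : k' ≫ pullback.snd E.hom f = pullback.snd _ _ := pullback.lift_snd _ _ _
  have hjF : jF.left ≫ pullback.snd E.hom f = F.hom := Over.w jF
  have hiH : iH.left ≫ F.hom = H.hom := Over.w iH
  have hci : IsClosedImmersion (show F.left ⟶ pullback E.hom f from jF.left) := h5
  have hoi : IsOpenImmersion (show F.left ⟶ pullback E.hom f from jF.left) := h6
  have hj2 : j.left ≫ pullback.snd E.hom g = N.hom := Over.w j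
  have hτ : t ≫ i.left ≫ E.hom = N.hom ≫ g := by
    rw [reassoc_of% ht, pullback.condition, reassoc_of% hj2]
  have hrange : z ∈ Set.range (pullback.fst k' (show F.left ⟶ pullback E.hom f from jF.left)) := by
    obtain ⟨y, hy⟩ := h10 (k' z) (by
      change pullback.snd E.hom f (k' z) = s'
      rw [← Scheme.Hom.comp_apply, hk2, hz2])
    obtain ⟨v, hv, -⟩ := Scheme.Pullback.exists_preimage_pullback (f := k')
      (g := (show F.left ⟶ pullback E.hom f from jF.left)) z y hy.symm
    exact ⟨v, hv⟩
  have key := flatAt E.hom i.left t N.hom g hτ f c g' h4 (show F.left ⟶ pullback E.hom f from jF.left)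
    iH.left (by rw [hjF, hiH]; exact h8) k' hk1 hk2 inferInstance (by
      intro P x p hp
      rw [hjF] at hp
      rw [h11 P x p hp]
      constructor
      · rintro ⟨z', hz'⟩
        exact ⟨z', by rw [ht]; exact hz'⟩
      · rintro ⟨z', hz'⟩
        exact ⟨z', by rw [← ht]; exact hz'⟩) z hrange
  rw [hz1, hK] at key
  exact key

/-- The closed subscheme generated by `N` lies in every closed subscheme which contains `N`. -/
theorem exists_closure_le {A E K : Over S} (e : E ⟶ A) [IsClosedImmersion e.left] (N : Over T)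
    (j : N ⟶ (Over.pullback g).obj A) (jE : N ⟶ (Over.pullback g).obj E)
    (hjE : jE ≫ (Over.pullback g).map e = j) (i : K ⟶ A) [IsClosedImmersion i.left] (t : N.left ⟶ K.left)
    [IsSchemeTheoreticallyDominant t] (ht : t ≫ i.left = j.left ≫ pullback.fst A.hom g) :
    ∃ k : K ⟶ E, k ≫ e = i ∧ IsClosedImmersion k.left ∧ t ≫ k.left = jE.left ≫ pullback.fst E.hom g := by
  have h1 : ((Over.pullback g).map e).left ≫ pullback.fst A.hom g = pullback.fst E.hom g ≫ e.left :=
    pullback.lift_fst _ _ _
  have h2 : (jE.left ≫ pullback.fst E.hom g) ≫ e.left = t ≫ i.left := by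
    rw [ht, Category.assoc, ← h1, ← hjE, Over.comp_left, Category.assoc]
  obtain ⟨l, hl⟩ := exists_lift t i.left e.left (jE.left ≫ pullback.fst E.hom g) h2
  have hk : IsClosedImmersion l := by
    have : IsClosedImmersion (l ≫ e.left) := by rw [hl]; infer_instance
    exact IsClosedImmersion.of_comp_isClosedImmersion l e.left
  refine ⟨Over.homMk l (by rw [← Over.w e, reassoc_of% hl, Over.w i]), ?_, hk, ?_⟩
  · ext1
    exact hl
  · rw [← cancel_mono e.left, h2, Category.assoc]
    congr 1

theorem exists_flat_closure [Mono g] [Flat g] [QuasiCompact g] [IsSchemeTheoreticallyDominant g]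
    {A : Over S} [GrpObj A] (N : Over T) [GrpObj N] (j : N ⟶ Red.bc g A) [IsMonHom j]
    [IsClosedImmersion j.left]
    (hloc : ∀ s : S, ∃ (E : Over S) (e : E ⟶ A) (jE : N ⟶ (Over.pullback g).obj E), IsClosedImmersion e.left ∧
      jE ≫ (Over.pullback g).map e = j ∧ LocClos g E N jE s) :
    ∃ (K : Over S) (_ : GrpObj K) (i : K ⟶ A) (φ : Red.bc g K ≅ N), IsMonHom i ∧
      IsClosedImmersion i.left ∧ Flat K.hom ∧ (Over.pullback g).map i = φ.hom ≫ j ∧
      ∀ (E : Over S) (e : E ⟶ A) (jE : N ⟶ (Over.pullback g).obj E), IsClosedImmersion e.left →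
        jE ≫ (Over.pullback g).map e = j → ∃ k : K ⟶ E, k ≫ e = i ∧ IsClosedImmersion k.left := by
  obtain ⟨K, i, t, φ, h1, h2, h3, h4, h5⟩ := exists_closure g A N j
  have hflat : Flat K.hom := by
    refine Flat.of_stalkMap _ fun z₀ => ?_
    obtain ⟨E, e, jE, he, hjE, hE⟩ := hloc (K.hom z₀)
    obtain ⟨k, hk1, hk2, hk3⟩ := exists_closure_le g e N j jE hjE i t h4
    exact flatAt_closure g E N jE K k t hk3 z₀ hE
  obtain ⟨hG, hm⟩ := exists_grpObj g i N j φ h5
  refine ⟨K, hG, i, φ, hm, h1, hflat, h5, fun E e jE he hjE => ?_⟩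
  obtain ⟨k, hk1, hk2, -⟩ := exists_closure_le g e N j jE hjE i t h4
  exact ⟨k, hk1, hk2⟩

end Groth.Agent.GrpSch.K269.RedMain
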