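import Groth.Agent.GrpSch.K269.RedKL
import Groth.Agent.GrpSch.K269.RedMain
import Groth.Agent.Sga3B.BcPts

/-!
# Iterated base change along a cartesian square
-/

set_option autoImplicit false
universe u
open CategoryTheory CategoryTheory.Limits MonoidalCategory CartesianMonoidalCategory MonObj GrpObj AlgebraicGeometry

namespace Groth.Agent.GrpSch.K269.RedSq

open RedKL RedMain Groth.Agent.Sga3B.BcPts

variable {S S' T T' : Scheme.{u}} {f : S' ⟶ S} {g : T ⟶ S} {c : T' ⟶ T} {g' : T' ⟶ S'}

/-- The projection of iterated base changes. -/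
noncomputable def qq (h : c ≫ g = g' ≫ f) (A : Over S) :
    (Red.bc g' (Red.bc f A)).left ⟶ (Red.bc g A).left :=
  pullback.lift (pullback.fst (pullback.snd A.hom f) g' ≫ pullback.fst A.hom f)
    (pullback.snd (pullback.snd A.hom f) g' ≫ c) (by
      rw [Category.assoc, pullback.condition, ← Category.assoc, pullback.condition, Category.assoc,
        Category.assoc, h])

lemma qq_fst (h : c ≫ g = g' ≫ f) (A : Over S) :
    qq h A ≫ pullback.fst A.hom g = pullback.fst (pullback.snd A.hom f) g' ≫ pullback.fst A.hom f :=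
  pullback.lift_fst _ _ _

lemma qq_snd (h : c ≫ g = g' ≫ f) (A : Over S) :
    qq h A ≫ (Red.bc g A).hom = (Red.bc g' (Red.bc f A)).hom ≫ c :=
  pullback.lift_snd _ _ _

theorem isPullback_qq (h : IsPullback c g' g f) (A : Over S) :
    IsPullback (qq h.w A) (Red.bc g' (Red.bc f A)).hom (Red.bc g A).hom c := by
  have h1 : IsPullback (pullback.fst A.hom g) (Red.bc g A).hom A.hom g := IsPullback.of_hasPullback _ _
  have h2 : IsPullback (pullback.fst A.hom f) (Red.bc f A).hom A.hom f := IsPullback.of_hasPullback _ _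
  have h3 : IsPullback (pullback.fst (pullback.snd A.hom f) g') (Red.bc g' (Red.bc f A)).hom
    (pullback.snd A.hom f) g' := IsPullback.of_hasPullback _ _
  have h4 := h3.paste_horiz h2
  refine IsPullback.of_right ?_ (qq_snd h.w A) h1
  rw [qq_fst, h.w]
  exact h4

theorem dq_mul (h : IsPullback c g' g f) (A : Over S) [GrpObj A] {W : Over T'}
    (a b : W ⟶ Red.bc g' (Red.bc f A)) :
    dq c (qq h.w A) (qq_snd h.w A) (a * b) =
      dq c (qq h.w A) (qq_snd h.w A) a * dq c (qq h.w A) (qq_snd h.w A) b := by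
  let pt : (W ⟶ Red.bc g' (Red.bc f A)) → ((Over.map f).obj ((Over.map g').obj W) ⟶ A) :=
    fun a => (bcEquiv f _ A).symm ((bcEquiv g' W (Red.bc f A)).symm a)
  have hpt : ∀ a b, pt (a * b) = pt a * pt b := by
    intro a b
    have h1 : (bcEquiv g' W (Red.bc f A)).symm (a * b) =
      (bcEquiv g' W (Red.bc f A)).symm a * (bcEquiv g' W (Red.bc f A)).symm b :=
      (bcMulEquiv g' W (Red.bc f A)).symm.map_mul a b
    change (bcEquiv f _ A).symm ((bcEquiv g' W (Red.bc f A)).symm (a * b)) = _
    rw [h1]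
    exact (bcMulEquiv f _ A).symm.map_mul _ _
  let ω : (Over.map g).obj (dn c W) ⟶ (Over.map f).obj ((Over.map g').obj W) :=
    Over.homMk (𝟙 W.left) (by
      change 𝟙 W.left ≫ (W.hom ≫ g') ≫ f = (W.hom ≫ c) ≫ g
      rw [Category.id_comp, Category.assoc, Category.assoc, h.w])
  have key : ∀ a, (bcEquiv g (dn c W) A).symm (dq c (qq h.w A) (qq_snd h.w A) a) = ω ≫ pt a := by
    intro a
    ext1
    change (a.left ≫ qq h.w A) ≫ pullback.fst A.hom g = 𝟙 _ ≫ (a.left ≫ pullback.fst (pullback.snd A.hom f) g') ≫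
      pullback.fst A.hom f
    rw [Category.assoc, qq_fst, Category.id_comp, Category.assoc]
  apply (bcEquiv g (dn c W) A).symm.injective
  have h2 : (bcEquiv g (dn c W) A).symm (dq c (qq h.w A) (qq_snd h.w A) a * dq c (qq h.w A) (qq_snd h.w A) b) =
    (bcEquiv g (dn c W) A).symm (dq c (qq h.w A) (qq_snd h.w A) a) *
      (bcEquiv g (dn c W) A).symm (dq c (qq h.w A) (qq_snd h.w A) b) :=
    (bcMulEquiv g (dn c W) A).symm.map_mul _ _
  rw [h2, key, key, key, hpt, MonObj.comp_mul]

theorem locClos_of (hsq : IsPullback c g' g f) [Mono g] [Flat f] [QuasiCompact g'] [IsSchemeTheoreticallyDominant g']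
    {A E : Over S} (e : E ⟶ A) [Mono e.left] {N : Over T} (jE : N ⟶ (Over.pullback g).obj E)
    (F H : Over S') (jF : F ⟶ (Over.pullback f).obj E) (iH : H ⟶ F) (hj1 : IsClosedImmersion jF.left)
    (hj2 : IsOpenImmersion jF.left) (hi1 : IsClosedImmersion iH.left) (hH : Flat H.hom) (s' : S') (s : S)
    (hs : f s' = s)
    (hfib : ∀ x : ((Over.pullback f).obj E).left, ((Over.pullback f).obj E).hom x = s' → x ∈ Set.range jF.left)
    {K' : Over T'} (i' : K' ⟶ Red.bc g' (Red.bc f A))
    (hfac : ∀ {W : Over T'} (x : W ⟶ Red.bc g' (Red.bc f A)), (∃ y, y ≫ i' = x) ↔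
      ∃ y : dn c W ⟶ N, y ≫ (jE ≫ (Over.pullback g).map e) = dq c (qq hsq.w A) (qq_snd hsq.w A) x)
    (hFE : ∀ {W : Over T'} (x : W ⟶ Red.bc g' F), (∃ y, y ≫ (Over.pullback g').map iH = x) ↔
      ∃ y, y ≫ i' = x ≫ (Over.pullback g').map (jF ≫ (Over.pullback f).map e)) :
    LocClos g E N jE s := by
  refine ⟨S', T', f, c, g', F, H, jF, iH, s', inferInstance, inferInstance, inferInstance, hsq, hj1, hj2, hi1, hH,
    hs, hfib, fun P x p hp => ?_⟩
  let W : Over T' := Over.mk p
  let xx : W ⟶ Red.bc g' F := Over.homMk (pullback.lift x p hp.symm) (pullback.lift_snd _ _ _)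
  have hxx : xx.left ≫ pullback.fst F.hom g' = x := pullback.lift_fst _ _ _
  have h1 : (∃ h : P ⟶ H.left, h ≫ iH.left = x) ↔ ∃ y, y ≫ (Over.pullback g').map iH = xx := by
    have hm : ((Over.pullback g').map iH).left ≫ pullback.fst F.hom g' = pullback.fst H.hom g' ≫ iH.left :=
      pullback.lift_fst _ _ _
    have hm2 : ((Over.pullback g').map iH).left ≫ pullback.snd F.hom g' = pullback.snd H.hom g' :=
      Over.w ((Over.pullback g').map iH)
    constructor
    · rintro ⟨h, hh⟩
      refine ⟨Over.homMk (pullback.lift h p (by rw [hp, ← hh, Category.assoc, Over.w iH]))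
        (pullback.lift_snd _ _ _), ?_⟩
      ext1
      refine pullback.hom_ext ?_ ?_
      · rw [Over.comp_left, Category.assoc, hm, hxx]
        change pullback.lift h p _ ≫ pullback.fst H.hom g' ≫ iH.left = x
        rw [pullback.lift_fst_assoc, hh]
      · rw [Over.comp_left, Category.assoc, hm2]
        change pullback.lift h p _ ≫ pullback.snd H.hom g' = pullback.lift x p _ ≫ pullback.snd F.hom g'
        rw [pullback.lift_snd, pullback.lift_snd]
    · rintro ⟨y, hy⟩
      refine ⟨y.left ≫ pullback.fst H.hom g', ?_⟩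
      rw [← hxx, ← hy, Over.comp_left, Category.assoc, Category.assoc, hm]
  rw [h1, hFE, hfac]
  have hm : ((Over.pullback g').map (jF ≫ (Over.pullback f).map e)).left ≫ pullback.fst (pullback.snd A.hom f) g' =
      pullback.fst F.hom g' ≫ jF.left ≫ ((Over.pullback f).map e).left := pullback.lift_fst _ _ _
  have hm2 : ((Over.pullback f).map e).left ≫ pullback.fst A.hom f = pullback.fst E.hom f ≫ e.left :=
    pullback.lift_fst _ _ _
  have hm3 : ((Over.pullback g).map e).left ≫ pullback.fst A.hom g = pullback.fst E.hom g ≫ e.left :=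
    pullback.lift_fst _ _ _
  have h2 : (dq c (qq hsq.w A) (qq_snd hsq.w A)
      (xx ≫ (Over.pullback g').map (jF ≫ (Over.pullback f).map e))).left ≫ pullback.fst A.hom g =
      x ≫ jF.left ≫ pullback.fst E.hom f ≫ e.left := by
    rw [dq_left, Over.comp_left, Category.assoc, Category.assoc, qq_fst, reassoc_of% hm, reassoc_of% hxx, hm2]
  constructor
  · rintro ⟨y, hy⟩
    refine ⟨y.left, ?_⟩
    rw [← cancel_mono e.left]
    have h3 := congrArg (fun a => a.left ≫ pullback.fst A.hom g) hy
    simp only [Over.comp_left, Category.assoc] at h3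
    rw [hm3] at h3
    simp only [Category.assoc]
    rw [h3]
    exact h2
  · rintro ⟨z, hz⟩
    have h3 : z ≫ jE.left ≫ ((Over.pullback g).map e).left =
      (dq c (qq hsq.w A) (qq_snd hsq.w A) (xx ≫ (Over.pullback g').map (jF ≫ (Over.pullback f).map e))).left := by
      have hmf : Mono (pullback.fst A.hom g) := inferInstance
      rw [← cancel_mono (pullback.fst A.hom g), h2, Category.assoc, Category.assoc, hm3]
      have h5 := congrArg (fun a => a ≫ e.left) hz
      simpa only [Category.assoc] using h5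
    refine ⟨Over.homMk z ?_, ?_⟩
    · have h6 : z ≫ N.hom = (z ≫ jE.left ≫ ((Over.pullback g).map e).left) ≫ (Red.bc g A).hom := by
        rw [Category.assoc, Category.assoc, Over.w ((Over.pullback g).map e), Over.w jE]
      rw [h6, h3]
      exact Over.w (dq c (qq hsq.w A) (qq_snd hsq.w A)
        (xx ≫ (Over.pullback g').map (jF ≫ (Over.pullback f).map e)))
    · ext1
      exact h3

end Groth.Agent.GrpSch.K269.RedSq
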