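import Groth.Agent.GrpSch.K269.RedLoc
import Groth.Agent.GrpSch.K269.RedSq
import Groth.Agent.SGA7.K567.SemiAb
import Groth.Agent.S2516
import Groth.Agent.S0537
import Groth.Agent.S2748
import Groth.Agent.S0540
import Groth.Agent.S0539
import Groth.Agent.Flat2E.GenericFibre
import Groth.Agent.GrpSch.K269.RedGen
import Groth.Agent.GrpSch.K267.LamSurj
import Groth.Agent.GrpSch.K267.DeligneSch
import Groth.Agent.AbDual.K732.PrincPol

/-!
# Reduction of the extension of `K(L)` to the local statement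

`exists_KL`: `K(L)` as a finite commutative group over a field.
-/

set_option autoImplicit false
universe u
open CategoryTheory CategoryTheory.Limits MonoidalCategory CartesianMonoidalCategory MonObj GrpObj AlgebraicGeometry

namespace Groth.Agent.GrpSch.K269.RedFin

open Groth.Agent.Sga3B.KerGrp Groth.Agent.Sga7.H760.KerBc K267.TorsFin K270.MB RedCoset RedKL RedLoc RedMain RedGen RedSq
open Groth.Agent.Grpsch.PicGrp

theorem exists_KL {k : Type u} [Field k] {X Xt : Over (Spec (CommRingCat.of k))} [GrpObj X] [IsCommMonObj X]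
    [GrpObj Xt] [IsProper X.hom] [Smooth X.hom] [GeometricallyConnected X.hom] {φ : AgPol.DualMap X Xt}
    (hD : AbDual.IsDualAV Scheme.fppfPrecoverage X Xt φ) {L : X.left.Modules} (hL : PicF.IsInvertible L)
    {lam : X ⟶ Xt} (hlam : AgPol.IsLambda X Xt φ L lam)
    (hfin : ∀ (N : Over (Spec (CommRingCat.of k))) (j : N ⟶ X), AlgGrp.IsKernel j lam → IsFinite N.hom) :
    ∃ (Kl : Over (Spec (CommRingCat.of k))) (_ : GrpObj Kl) (i : Kl ⟶ X), IsMonHom i ∧
      IsClosedImmersion i.left ∧ IsFinite Kl.hom ∧ ThetaGrp.IsKL X L i ∧ AlgGrp.IsKernel i lam := by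
  have hlam' := K267.LamSurj.lam_eq hL hlam
  have hlam2 : lam = K732.Lam.lam φ (mk L hL) := hlam'
  subst hlam2
  have hm : IsMonHom (K732.Lam.lam φ (mk L hL)) := K732.Lam.isMonHom_lam hD _
  obtain ⟨hG, hi⟩ := exists_grpObj (K732.Lam.lam φ (mk L hL))
  have hk := isKernel_kerι (K732.Lam.lam φ (mk L hL))
  have hf := hfin _ _ hk
  have hmono : Mono (kerι (K732.Lam.lam φ (mk L hL))).left := inferInstance
  have hfin' : IsFinite (kerι (K732.Lam.lam φ (mk L hL))).left := by
    have : IsFinite ((kerι (K732.Lam.lam φ (mk L hL))).left ≫ X.hom) := by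
      rw [Over.w]
      exact hf
    exact IsFinite.of_comp _ X.hom
  have hcl : IsClosedImmersion (kerι (K732.Lam.lam φ (mk L hL))).left :=
    (IsClosedImmersion.iff_isFinite_and_mono _).2 ⟨hfin', hmono⟩
  refine ⟨_, hG, kerι _, hi, hcl, hf, ⟨hcl, fun T z ↦ ?_⟩, hk⟩
  rw [← K732.PrincPol.comp_lam_eq_one_iff hD hL]
  rw [isKernel_iff] at hk
  constructor
  · intro h
    exact (hk.2 T z h).exists
  · rintro ⟨y, rfl⟩
    rw [Category.assoc, hk.1, MonObj.comp_one]

/-- `K(L)` as a finite subgroup killed by a positive integer. -/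
theorem exists_KL_pow {k : Type u} [Field k] {X Xt : Over (Spec (CommRingCat.of k))} [GrpObj X] [IsCommMonObj X]
    [GrpObj Xt] (hp : IsProper X.hom) (hs : Smooth X.hom) (hconn : ConnectedSpace X.left) {φ : AgPol.DualMap X Xt}
    (hD : AbDual.IsDualAV Scheme.fppfPrecoverage X Xt φ) {L : X.left.Modules} (hL : PicF.IsInvertible L)
    {lam : X ⟶ Xt} (hlam : AgPol.IsLambda X Xt φ L lam)
    (hfin : ∀ (N : Over (Spec (CommRingCat.of k))) (j : N ⟶ X), AlgGrp.IsKernel j lam → IsFinite N.hom) :
    GeometricallyConnected X.hom ∧ ∃ (Kl : Over (Spec (CommRingCat.of k))) (_ : GrpObj Kl) (i : Kl ⟶ X) (n : ℕ),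
      0 < n ∧ i ^ n = 1 ∧ IsMonHom i ∧ IsClosedImmersion i.left ∧ IsFinite Kl.hom ∧ ThetaGrp.IsKL X L i ∧
      AlgGrp.IsKernel i lam := by
  have hgc : GeometricallyConnected X.hom := by
    have hg : GrpObj (Over.mk X.hom) := (inferInstance : GrpObj X)
    have h2 : GeometricallyIrreducible X.hom := Sga3C.GrpIrr.geometricallyIrreducible_of_connectedSpace _
    refine ⟨fun K' _ y Z g1 g2 h => ?_⟩
    have h3 : IrreducibleSpace Z := h2.geometrically_irreducibleSpace y g1 g2 h
    infer_instance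
  refine ⟨hgc, ?_⟩
  obtain ⟨Kl, hG, i, hm, hcl, hf, hKL, hk⟩ := exists_KL hD hL hlam hfin
  have him : Mono i := (Over.forget _).mono_of_mono_map (inferInstanceAs (Mono i.left))
  have hcomm : IsCommMonObj Kl := Groth.Agent.Sga7.H758.AlgClosed.isCommMonObj_of_mono i
  have hflat : Flat Kl.hom := inferInstance
  have hlfp : LocallyOfFinitePresentation Kl.hom := inferInstance
  let s₀ : ↥(Spec (CommRingCat.of k)) := IsLocalRing.closedPoint k
  refine ⟨Kl, hG, i, Kl.hom.finrank s₀, ?_, ?_, hm, hcl, hf, hKL, hk⟩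
  · have h1 := Scheme.Hom.one_le_finrank_map Kl.hom ((η[Kl] : 𝟙_ (Over (Spec (CommRingCat.of k))) ⟶ Kl).left s₀)
    have h2 : Kl.hom ((η[Kl] : 𝟙_ (Over (Spec (CommRingCat.of k))) ⟶ Kl).left s₀) = s₀ :=
      Subsingleton.elim (α := PrimeSpectrum k) _ _
    rw [h2] at h1
    exact h1
  · have h3 : (𝟙 Kl) ^ (Kl.hom.finrank s₀) = 1 := K267.DeligneSch.id_pow_eq_one Kl _ (fun s => by
      rw [show s = s₀ from Subsingleton.elim (α := PrimeSpectrum k) _ _])
    have h4 := congrArg (fun a => a ≫ i) h3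
    simp only [MonObj.pow_comp, MonObj.one_comp, Category.id_comp] at h4
    exact h4

/-- Lifts to the base change of `A[n]`. -/
theorem exists_lift_ker {S S' : Scheme.{u}} (f : S' ⟶ S) (A : Over S) [GrpObj A] (n : ℕ) {T : Over S'}
    (x : T ⟶ Red.bc f A) (hx : x ^ n = 1) :
    ∃ y : T ⟶ (Over.pullback f).obj (kerObj ((𝟙 A : A ⟶ A) ^ n)), y ≫ (Over.pullback f).map (kerι _) = x := by
  have hk := isKernel_bc f (isKernel_kerι ((𝟙 A : A ⟶ A) ^ n))
  rw [isKernel_iff] at hk
  refine (hk.2 T x ?_).exists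
  rw [K567.SemiAb.map_one_pow, comp_one_pow, hx]

theorem exists_jF {R : Type u} [CommRing R] [IsLocalRing R] {S : Scheme.{u}} (f : Spec (CommRingCat.of R) ⟶ S)
    (A : Over S) [GrpObj A] [IsSeparated A.hom] {n : ℕ} {F : Over (Spec (CommRingCat.of R))}
    (φ : F ⟶ Red.bc f A) (hF : IsTors (Red.bc f A) n φ) :
    ∃ jF : F ⟶ (Over.pullback f).obj (kerObj ((𝟙 A : A ⟶ A) ^ n)),
      jF ≫ (Over.pullback f).map (kerι _) = φ ∧ IsClosedImmersion jF.left ∧ IsOpenImmersion jF.left ∧
      ∀ x : ((Over.pullback f).obj (kerObj ((𝟙 A : A ⟶ A) ^ n))).left,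
        ((Over.pullback f).obj (kerObj ((𝟙 A : A ⟶ A) ^ n))).hom x = IsLocalRing.closedPoint R →
          x ∈ Set.range jF.left := by
  let e : kerObj ((𝟙 A : A ⟶ A) ^ n) ⟶ A := kerι _
  let e' : (Over.pullback f).obj (kerObj ((𝟙 A : A ⟶ A) ^ n)) ⟶ Red.bc f A := (Over.pullback f).map e
  obtain ⟨jF, hjF⟩ := exists_lift_ker f A n φ hF.pow
  have hcl := hF.cl
  have he' : IsClosedImmersion e'.left :=
    MorphismProperty.of_isPullback (P := @IsClosedImmersion)
      (Groth.Agent.Sga3C.ActBase.isPullback_map_left f e).flip inferInstance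
  have hme' : Mono e' := (Over.forget _).mono_of_mono_map (inferInstanceAs (Mono e'.left))
  have hjF' : jF ≫ e' = φ := hjF
  have h1 : jF.left ≫ e'.left = φ.left := by rw [← Over.comp_left, hjF']
  refine ⟨jF, hjF, ?_, ?_, ?_⟩
  · have : IsClosedImmersion (jF.left ≫ e'.left) := by rw [h1]; infer_instance
    exact IsClosedImmersion.of_comp_isClosedImmersion jF.left e'.left
  · have hpow : e' ^ n = 1 := by
      have hk := isKernel_bc f (isKernel_kerι ((𝟙 A : A ⟶ A) ^ n))
      rw [isKernel_iff, K567.SemiAb.map_one_pow, comp_one_pow] at hk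
      exact hk.1
    obtain ⟨θ, hθ⟩ := exists_lift ((𝟙 (Red.bc f A) : Red.bc f A ⟶ Red.bc f A) ^ n) e'
      (by rw [comp_one_pow, hpow])
    have h2 : IsOpenImmersion (jF ≫ θ).left := hF.op (jF ≫ θ) (by rw [Category.assoc, hθ, hjF'])
    have hmθ : Mono θ := mono_of_mono_fac hθ
    have hmθ' : Mono θ.left := inferInstance
    rw [Over.comp_left] at h2
    exact isOpenImmersion_of_comp_mono jF.left θ.left
  · intro x hx
    let X := (Over.pullback f).obj (kerObj ((𝟙 A : A ⟶ A) ^ n))
    let W : Over (Spec (CommRingCat.of R)) := Over.mk (X.left.fromSpecResidueField x ≫ X.hom)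
    let t : W ⟶ X := Over.homMk (X.left.fromSpecResidueField x) rfl
    have ht : ∀ w : W.left, t.left w = x := by
      intro w
      have : t.left w ∈ Set.range (X.left.fromSpecResidueField x) := ⟨w, rfl⟩
      rw [Scheme.range_fromSpecResidueField] at this
      exact this
    have hpow : (t ≫ e') ^ n = 1 := by
      have hk := isKernel_bc f (isKernel_kerι ((𝟙 A : A ⟶ A) ^ n))
      rw [isKernel_iff, K567.SemiAb.map_one_pow, comp_one_pow] at hk
      rw [← MonObj.comp_pow]
      change t ≫ ((Over.pullback f).map (kerι ((𝟙 A : A ⟶ A) ^ n)) ^ n) = 1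
      rw [hk.1, MonObj.comp_one]
    obtain ⟨y, hy⟩ := hF.lift_closed (t ≫ e') (fun w => by
      have h3 : W.hom w = X.hom (t.left w) := by
        rw [← Scheme.Hom.comp_apply, Over.w t]
      rw [h3, ht]
      exact hx) hpow
    have hy2 : y ≫ jF = t := by
      rw [← cancel_mono e', Category.assoc, hjF', hy]
    let w0 : W.left := IsLocalRing.closedPoint (X.left.residueField x)
    refine ⟨y.left w0, ?_⟩
    rw [← Scheme.Hom.comp_apply, ← Over.comp_left, hy2, ht]

theorem isSchemeTheoreticallyDominant_gen (R : Type u) [CommRing R] [IsDomain R] :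
    IsSchemeTheoreticallyDominant (gen R) := by
  have h2 : IsDominant (gen R) := by
    constructor
    change DenseRange (PrimeSpectrum.comap (algebraMap R (FractionRing R)))
    rw [PrimeSpectrum.denseRange_comap_iff_ker_le_nilRadical,
      (RingHom.injective_iff_ker_eq_bot _).mp (IsFractionRing.injective R (FractionRing R))]
    exact bot_le
  exact IsSchemeTheoreticallyDominant.of_isDominant _

theorem exists_local (hC : NodeCoset.{u}) (hLoc : NodeLocal.{u}) {S : Scheme.{u}} [IsIntegral S]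
    [IsLocallyNoetherian S] (hSn : Pi1.IsNormalScheme S)
    (A : Over S) [GrpObj A] [IsCommMonObj A] [Smooth A.hom] [IsSeparated A.hom] [QuasiCompact A.hom]
    (hA : SGA7.FibresUnipotentRankZero A)
    (hprop : IsProper (Red.bc (S.fromSpecResidueField (genericPoint S)) A).hom)
    (hgc : GeometricallyConnected (Red.bc (S.fromSpecResidueField (genericPoint S)) A).hom)
    (L : ((Red.bc (S.fromSpecResidueField (genericPoint S)) A).left).Modules) (hL : PicF.IsInvertible L)
    (Kl : Over (Spec (S.residueField (genericPoint S)))) [GrpObj Kl]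
    (i : Kl ⟶ Red.bc (S.fromSpecResidueField (genericPoint S)) A) [IsMonHom i] [IsClosedImmersion i.left]
    (hfin : IsFinite Kl.hom) (hKL : ThetaGrp.IsKL _ L i) (n : ℕ) (hn : 0 < n) (hin : i ^ n = 1) (s : S) :
    ∃ (E : Over S) (e : E ⟶ A) (jE : Kl ⟶ (Over.pullback (S.fromSpecResidueField (genericPoint S))).obj E),
      IsClosedImmersion e.left ∧ jE ≫ (Over.pullback (S.fromSpecResidueField (genericPoint S))).map e = i ∧
      LocClos (S.fromSpecResidueField (genericPoint S)) E Kl jE s := by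
  obtain ⟨R, _, _, _, _, hsh⟩ := S0537.result (S.presheaf.stalk s)
  have a1 : IsDomain (S.presheaf.stalk s) := (hSn s).1
  have a2 : IsIntegrallyClosed (S.presheaf.stalk s) := (hSn s).2
  obtain ⟨a3, a4⟩ := (S2748.result (S.presheaf.stalk s) R).2 ⟨a1, a2⟩
  have a5 : IsNoetherianRing R := (S0540.result (S.presheaf.stalk s) R).1 inferInstance
  have a6 : HenselianLocalRing R := hsh.henselian
  have a7 : IsSepClosed (IsLocalRing.ResidueField R) := hsh.isSepClosure.sep_closed
  have a8 : Module.FaithfullyFlat (S.presheaf.stalk s) R := S0539.result _ R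
  obtain ⟨c, hsq⟩ := isPullback_gen s R (FractionRing R)
  have hf : Flat (Hens2.specOf S s R) := by
    have h1 : Flat (Spec.map (CommRingCat.ofHom (algebraMap (S.presheaf.stalk s) R))) := by
      rw [Flat.SpecMap_iff]
      exact RingHom.flat_algebraMap_iff.2 inferInstance
    infer_instance
  have hcp : Hens2.specOf S s R (IsLocalRing.closedPoint R) = s := by
    have h1 : Spec.map (CommRingCat.ofHom (algebraMap (S.presheaf.stalk s) R)) (IsLocalRing.closedPoint R) =
        IsLocalRing.closedPoint (S.presheaf.stalk s) :=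
      IsLocalRing.comap_closedPoint (algebraMap (S.presheaf.stalk s) R)
    change S.fromSpecStalk s (Spec.map (CommRingCat.ofHom (algebraMap (S.presheaf.stalk s) R))
      (IsLocalRing.closedPoint R)) = s
    rw [h1]
    exact Scheme.fromSpecStalk_closedPoint
  have hgd := isSchemeTheoreticallyDominant_gen R
  obtain ⟨Kl', hG', i', hm', hcl', ⟨r, hr⟩, hfac⟩ := exists_sub c (qq hsq.w A) (isPullback_qq hsq A)
    (fun a b => dq_mul hsq A a b) i
  have hKL' := @isKL_of_isPullback (S.residueField (genericPoint S)) (FractionRing R) _ _ c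
    (Red.bc (S.fromSpecResidueField (genericPoint S)) A)
    (inferInstanceAs (GrpObj (Red.bc (S.fromSpecResidueField (genericPoint S)) A)))
    (Red.bc (gen R) (Red.bc (Hens2.specOf S s R) A)) _ (qq hsq.w A) (isPullback_qq hsq A)
    (fun a b => dq_mul hsq A a b) L hL Kl i hKL Kl' i' hcl' hfac
  have hL' : PicF.IsInvertible ((Scheme.Modules.pullback (qq hsq.w A)).obj L) :=
    Groth.Agent.Fdesc.LocGen.isInvertible_pullback _ hL
  have hfin' : IsFinite Kl'.hom := MorphismProperty.of_isPullback (P := @IsFinite) hr hfin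
  have b1 : IsCommMonObj (Red.bc (Hens2.specOf S s R) A) :=
    inferInstanceAs (IsCommMonObj ((Over.pullback (Hens2.specOf S s R)).obj A))
  have b2 : Smooth (Red.bc (Hens2.specOf S s R) A).hom :=
    inferInstanceAs (Smooth (pullback.snd A.hom (Hens2.specOf S s R)))
  have b3 : IsSeparated (Red.bc (Hens2.specOf S s R) A).hom :=
    inferInstanceAs (IsSeparated (pullback.snd A.hom (Hens2.specOf S s R)))
  have b4 : QuasiCompact (Red.bc (Hens2.specOf S s R) A).hom :=
    inferInstanceAs (QuasiCompact (pullback.snd A.hom (Hens2.specOf S s R)))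
  have b5 : SGA7.FibresUnipotentRankZero (Red.bc (Hens2.specOf S s R) A) := K267.SemiPow.rankZero_bc _ A hA
  have b6 : IsProper (Red.bc (gen R) (Red.bc (Hens2.specOf S s R) A)).hom :=
    MorphismProperty.of_isPullback (P := @IsProper) (isPullback_qq hsq A) hprop
  have b7 : ConnectedSpace (Red.bc (gen R) (Red.bc (Hens2.specOf S s R) A)).left :=
    GeometricallyConnected.geometrically_connectedSpace c _ _ (isPullback_qq hsq A)
  obtain ⟨n₁, F, hFG, φ, hn₁, hdvd, hφm, hφ, H, hHG, iH, hiH, hHf, hFE⟩ := local_main hC hLoc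
    (Red.bc (Hens2.specOf S s R) A) b5 b6 b7 _ hL' Kl' i' ⟨hm', hcl'⟩ hfin' hKL' n hn
  obtain ⟨jE, hjE⟩ := exists_lift_ker (S.fromSpecResidueField (genericPoint S)) A n₁ i (by
    obtain ⟨m, rfl⟩ := hdvd
    rw [pow_mul, hin, one_pow])
  obtain ⟨jF, hjF, hj1, hj2, hj3⟩ := exists_jF (Hens2.specOf S s R) A φ hφ
  refine ⟨kerObj ((𝟙 A : A ⟶ A) ^ n₁), kerι _, jE, inferInstance, hjE, ?_⟩
  refine locClos_of hsq (kerι ((𝟙 A : A ⟶ A) ^ n₁)) jE F H jF iH hj1 hj2 hiH.closed hHf
    (IsLocalRing.closedPoint R) s hcp hj3 i' ?_ ?_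
  · intro W x
    rw [hjE]
    exact hfac x
  · intro W x
    rw [hjF]
    exact hFE x

/-- `K(L)` extends to a flat quasi-finite closed subgroup. -/
theorem main (hC : NodeCoset.{u}) (hLoc : NodeLocal.{u}) {S : Scheme.{u}} [IsIntegral S] [IsLocallyNoetherian S]
    (hSn : Pi1.IsNormalScheme S)
    (A : Over S) [GrpObj A] [IsCommMonObj A] [Smooth A.hom] [IsSeparated A.hom] [QuasiCompact A.hom]
    (hA : SGA7.FibresUnipotentRankZero A)
    (hprop : IsProper (Red.bc (S.fromSpecResidueField (genericPoint S)) A).hom)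
    (hconn : ConnectedSpace ↥((Red.bc (S.fromSpecResidueField (genericPoint S)) A).left))
    (At : Over (Spec (S.residueField (genericPoint S)))) [GrpObj At]
    (φ : AgPol.DualMap (Red.bc (S.fromSpecResidueField (genericPoint S)) A) At)
    (hdual : AbDual.IsDualAV Scheme.fppfPrecoverage (Red.bc (S.fromSpecResidueField (genericPoint S)) A) At φ)
    (L : ((Red.bc (S.fromSpecResidueField (genericPoint S)) A).left).Modules) (hL : PicF.IsInvertible L)
    (lam : Red.bc (S.fromSpecResidueField (genericPoint S)) A ⟶ At)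
    (hlam : AgPol.IsLambda (Red.bc (S.fromSpecResidueField (genericPoint S)) A) At φ L lam)
    (hfin : ∀ (N : Over (Spec (S.residueField (genericPoint S))))
      (j : N ⟶ Red.bc (S.fromSpecResidueField (genericPoint S)) A), AlgGrp.IsKernel j lam → IsFinite N.hom) :
    ∃ (K : Over S) (_ : GrpObj K) (i : K ⟶ A), IsMonHom i ∧ IsClosedImmersion i.left ∧
      Flat K.hom ∧ LocallyQuasiFinite K.hom ∧
      AlgGrp.IsKernel ((Over.pullback (S.fromSpecResidueField (genericPoint S))).map i) lam := by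
  have h1 : Smooth (Red.bc (S.fromSpecResidueField (genericPoint S)) A).hom :=
    inferInstanceAs (Smooth (pullback.snd A.hom _))
  have h2 : IsCommMonObj (Red.bc (S.fromSpecResidueField (genericPoint S)) A) :=
    inferInstanceAs (IsCommMonObj ((Over.pullback (S.fromSpecResidueField (genericPoint S))).obj A))
  obtain ⟨hgc, Kl, hG, i, n, hn, hin, hm, hcl, hf, hKL, hk⟩ :=
    @exists_KL_pow (S.residueField (genericPoint S)) _ (Red.bc (S.fromSpecResidueField (genericPoint S)) A) At
      (inferInstanceAs (GrpObj (Red.bc (S.fromSpecResidueField (genericPoint S)) A))) h2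
      (inferInstanceAs (GrpObj At)) hprop h1 hconn φ hdual L hL lam hlam hfin
  have h3 : Mono (S.fromSpecResidueField (genericPoint S)) := inferInstance
  have h4 : Flat (S.fromSpecResidueField (genericPoint S)) :=
    Flat2E.GenericFibre.flat_fromSpecResidueField_genericPoint S
  have h5 : QuasiCompact (S.fromSpecResidueField (genericPoint S)) := S2516.quasiCompact_of_field _
  have h6 : IsSchemeTheoreticallyDominant (S.fromSpecResidueField (genericPoint S)) :=
    S2516.dominant_fromSpecResidueField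
  obtain ⟨K, hKG, i₀, ψ, hιm, hιc, hKf, hmap, hle⟩ := exists_flat_closure (S.fromSpecResidueField (genericPoint S))
    Kl i (fun s => exists_local hC hLoc hSn A hA hprop hgc L hL Kl i hf hKL n hn hin s)
  refine ⟨K, hKG, i₀, hιm, hιc, hKf, ?_, ?_⟩
  · obtain ⟨jE, hjE⟩ := exists_lift_ker (S.fromSpecResidueField (genericPoint S)) A n i hin
    obtain ⟨k, hk1, hk2⟩ := hle _ (kerι ((𝟙 A : A ⟶ A) ^ n)) jE inferInstance hjE
    obtain ⟨-, i2⟩ := K267.SemiPow.flat_lqf_pow A hA n hn
    have i3 : LocallyQuasiFinite (kerObj ((𝟙 A : A ⟶ A) ^ n)).hom := by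
      have h7 : IsPullback (kerι ((𝟙 A : A ⟶ A) ^ n)).left (toUnit (kerObj ((𝟙 A : A ⟶ A) ^ n))).left
        ((𝟙 A : A ⟶ A) ^ n).left η[A].left := IsPullback.map (Over.forget _) (isPullback_ker _)
      have h8 : LocallyQuasiFinite (toUnit (kerObj ((𝟙 A : A ⟶ A) ^ n))).left :=
        MorphismProperty.of_isPullback (P := @LocallyQuasiFinite) h7 i2
      rw [Over.toUnit_left] at h8
      exact h8
    rw [← Over.w k]
    infer_instance
  · rw [hmap]
    have hk' : AlgGrp.IsKernel (S := Spec (S.residueField (genericPoint S))) i lam := hk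
    rw [isKernel_iff] at hk' ⊢
    refine ⟨by rw [Category.assoc, hk'.1, MonObj.comp_one], fun W x hx => ?_⟩
    obtain ⟨y, hy, hy'⟩ := hk'.2 W x hx
    refine ⟨y ≫ ψ.inv, ?_, fun z hz => ?_⟩
    · change (y ≫ ψ.inv) ≫ ψ.hom ≫ i = x
      rw [Category.assoc, Iso.inv_hom_id_assoc, hy]
    · have h9 := hy' (z ≫ ψ.hom) (by
        change (z ≫ ψ.hom) ≫ i = x
        rw [Category.assoc]
        exact hz)
      rw [← h9, Category.assoc, Iso.hom_inv_id, Category.comp_id]

end Groth.Agent.GrpSch.K269.RedFin
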