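import Groth.Agent.GrpSch.K270.MB.Shape3
import Groth.Agent.GrpSch.K269.RedFin
import Groth.Agent.GrpSch.K982.Nodes

/-!
# S14306 from the local statement `K270.MB.NodeLocal`
-/

set_option autoImplicit false
set_option linter.unusedVariables false
universe u
open CategoryTheory CategoryTheory.Limits MonoidalCategory CartesianMonoidalCategory MonObj AlgebraicGeometry

noncomputable section

namespace K269.RedBridge

open K270.MB

theorem nodeLocal (h : K270.MB.NodeLocal.{u}) : Groth.Agent.GrpSch.K269.RedLoc.NodeLocal.{u} := by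
  intro R _ _ _ _ _ _ p hp hpm A _ _ h1 h2 h3 h4 h5 h6 L hL Kl _ j hj hfin hKL
  obtain ⟨m₁, hm⟩ := h R p hp hpm A h1 h2 h3 h4 h5 h6 L hL Kl j hj.mon hKL hfin
  exact ⟨m₁, fun m hm' F _ f hF => hm m hm' F f hF⟩

/-- S14306 from the local statement. -/
theorem main (h : K270.MB.NodeLocal.{u}) {S : Scheme.{u}} [IsIntegral S] [IsLocallyNoetherian S]
    (hSn : Pi1.IsNormalScheme S)
    (A : Over S) [GrpObj A] [IsCommMonObj A] [Smooth A.hom] [IsSeparated A.hom] [QuasiCompact A.hom]
    (hA : SGA7.FibresUnipotentRankZero A)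
    (hprop : IsProper (Red.bc (S.fromSpecResidueField (genericPoint S)) A).hom)
    (hconn : ConnectedSpace ↥((Red.bc (S.fromSpecResidueField (genericPoint S)) A).left))
    (At : Over (Spec (S.residueField (genericPoint S)))) [GrpObj At]
    (φ : AgPol.DualMap (Red.bc (S.fromSpecResidueField (genericPoint S)) A) At)
    (hdual : AbDual.IsDualAV Scheme.fppfPrecoverage (Red.bc (S.fromSpecResidueField (genericPoint S)) A) At φ)
    (L : ((Red.bc (S.fromSpecResidueField (genericPoint S)) A).left).Modules) (hL : PicF.IsInvertible L)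
    (lam : Red.bc (S.fromSpecResidueField (genericPoint S)) A ⟶ At)
    (hlam : AgPol.IsLambda (Red.bc (S.fromSpecResidueField (genericPoint S)) A) At φ L lam)
    (hfin : ∀ (N : Over (Spec (S.residueField (genericPoint S))))
      (j : N ⟶ Red.bc (S.fromSpecResidueField (genericPoint S)) A), AlgGrp.IsKernel j lam → IsFinite N.hom) :
    ∃ (K : Over S) (_ : GrpObj K) (i : K ⟶ A), IsMonHom i ∧ IsClosedImmersion i.left ∧
      Flat K.hom ∧ LocallyQuasiFinite K.hom ∧
      AlgGrp.IsKernel ((Over.pullback (S.fromSpecResidueField (genericPoint S))).map i) lam :=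
  Groth.Agent.GrpSch.K269.RedFin.main K982.Nodes.nodeCoset (nodeLocal h) hSn A hA hprop hconn At φ hdual L hL lam hlam hfin

end K269.RedBridge
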