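import Groth.Agent.GrpSch.K267.TorsFin
import Groth.Agent.Sga7.H751.PowEtale
import Groth.Agent.Sga7.H783.GmSub
import Groth.Agent.Sga7.H738.GaBc

/-!
# The finite part of the `q`-torsion of the neutral component is open in that of the `n`-torsion

`A` a semi-stable group over a local ring, `A₀ ⟶ A` an open subgroup, `n = q * n'` with `n'` invertible.
-/

set_option autoImplicit false
universe u
open CategoryTheory CategoryTheory.Limits MonoidalCategory CartesianMonoidalCategory MonObj GrpObj AlgebraicGeometry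

namespace Groth.Agent.GrpSch.K269.RedCoset

open Groth.Agent.Sga3B.KerGrp

theorem isOpenImmersion_of_comp_mono {X Y Z : Scheme.{u}} (k : X ⟶ Y) (m : Y ⟶ Z) [Mono m]
    [IsOpenImmersion (k ≫ m)] : IsOpenImmersion k := by
  have h : IsPullback k (𝟙 X) m (k ≫ m) := by
    refine ⟨⟨by rw [Category.id_comp]⟩, ⟨PullbackCone.IsLimit.mk _ (fun s => s.snd) ?_ ?_ ?_⟩⟩
    · intro s
      rw [← cancel_mono m, Category.assoc, s.condition]
    · intro s; simp
    · intro s m h1 h2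
      simpa using h2
  exact MorphismProperty.of_isPullback h.flip inferInstance

theorem isPullback_of_exists {C : Type*} [Category C] {P X Y Z : C} (e : P ⟶ X) (k : P ⟶ Y) (a : X ⟶ Z)
    (b : Y ⟶ Z) [Mono a] [Mono k] (w : e ≫ a = k ≫ b)
    (H : ∀ {T : C} (x : T ⟶ X) (y : T ⟶ Y), x ≫ a = y ≫ b → ∃ t : T ⟶ P, t ≫ k = y) :
    IsPullback e k a b := by
  refine ⟨⟨w⟩, ⟨PullbackCone.IsLimit.mk _ (fun s => (H s.fst s.snd s.condition).choose) ?_ ?_ ?_⟩⟩
  · intro s
    rw [← cancel_mono a, Category.assoc, w, ← Category.assoc, (H s.fst s.snd s.condition).choose_spec,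
      s.condition]
  · intro s
    exact (H s.fst s.snd s.condition).choose_spec
  · intro s m h1 h2
    rw [← cancel_mono k, h2, (H s.fst s.snd s.condition).choose_spec]

variable {S : Scheme.{u}}

/-- Subgroups of groups whose fibres have unipotent rank zero. -/
theorem rankZero_of_mono {U G : Over S} [GrpObj U] [GrpObj G] [LocallyOfFiniteType G.hom] (u : U ⟶ G)
    [IsMonHom u] [Mono u] (h : SGA7.FibresUnipotentRankZero G) : SGA7.FibresUnipotentRankZero U := by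
  intro s j hj hj'
  have h1 : IsMonHom ((Over.pullback (Red.geomPt s)).map u) := inferInstance
  have h2 : Mono ((Over.pullback (Red.geomPt s)).map u) := inferInstance
  have h5 : LocallyOfFiniteType (Red.geomFibre s G).hom :=
    inferInstanceAs (LocallyOfFiniteType (pullback.snd G.hom (Red.geomPt s)))
  have hjm : Mono j := (Over.forget _).mono_of_mono_map (inferInstanceAs (Mono j.left))
  have hsm : Smooth (Red.Ga (Spec (CommRingCat.of (AlgebraicClosure (S.residueField s))))).hom :=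
    Groth.Agent.Sga7.H738.GaBc.smooth_ga
  have hqc : QuasiCompact (Red.Ga (Spec (CommRingCat.of (AlgebraicClosure (S.residueField s))))).hom :=
    inferInstance
  exact h s (j ≫ (Over.pullback (Red.geomPt s)).map u) inferInstance
    (Groth.Agent.Sga7.H783.GmSub.isClosedImmersion_of_mono (j ≫ (Over.pullback (Red.geomPt s)).map u))

/-- The unit section of a group which is étale (as a scheme) is an open immersion. -/
theorem isOpenImmersion_unit {E : Over S} (e : 𝟙_ (Over S) ⟶ E) [Etale E.hom] : IsOpenImmersion e.left := by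
  have h1 : e.left ≫ E.hom = 𝟙 S := Over.w e
  have h2 : Etale (e.left ≫ E.hom) := by rw [h1]; exact inferInstanceAs (Etale (𝟙 S))
  have h3 : Etale e.left := Etale.of_comp e.left E.hom
  have h4 : Mono (e.left ≫ E.hom) := by rw [h1]; exact inferInstanceAs (Mono (𝟙 S))
  have h5 : Mono e.left := mono_of_mono e.left E.hom
  exact IsOpenImmersion.of_flat_of_mono e.left

theorem open_incl (A A₀ : Over S) [GrpObj A] [GrpObj A₀] [IsCommMonObj A] (u : A₀ ⟶ A) [IsMonHom u]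
    [IsOpenImmersion u.left] [Flat A.hom] [LocallyOfFinitePresentation A.hom] (q n' : ℕ)
    (hn' : ∀ s : S, (n' : S.residueField s) ≠ 0)
    (ε : kerObj ((𝟙 A₀ : A₀ ⟶ A₀) ^ q) ⟶ kerObj ((𝟙 A : A ⟶ A) ^ (q * n')))
    (hε : ε ≫ kerι _ = kerι _ ≫ u) : IsOpenImmersion ε.left := by
  have hmu : Mono u := (Over.forget _).mono_of_mono_map (inferInstanceAs (Mono u.left))
  have hpow : ∀ {X T : Over S} [GrpObj X] (x : T ⟶ X) (m : ℕ), x ≫ ((𝟙 X : X ⟶ X) ^ m) = x ^ m := fun x m => by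
    rw [MonObj.comp_pow, Category.comp_id]
  -- `A₀[q]` is open in `A[q]`
  obtain ⟨e1, he1⟩ := exists_lift ((𝟙 A : A ⟶ A) ^ q) (kerι ((𝟙 A₀ : A₀ ⟶ A₀) ^ q) ≫ u) (by
    have h1 : u ≫ ((𝟙 A : A ⟶ A) ^ q) = ((𝟙 A₀ : A₀ ⟶ A₀) ^ q) ≫ u := by
      rw [hpow, MonObj.pow_comp, Category.id_comp]
    rw [Category.assoc, h1, ← Category.assoc, kerι_comp, MonObj.one_comp])
  have hpk : ∀ {X : Over S} [GrpObj X] (m : ℕ), (kerι ((𝟙 X : X ⟶ X) ^ m)) ^ m = 1 := fun {X} _ m => by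
    exact (hpow (kerι ((𝟙 X : X ⟶ X) ^ m)) m).symm.trans (kerι_comp _)
  have hsq1 : IsPullback e1 (kerι _) (kerι _) u := by
    refine isPullback_of_exists _ _ _ _ he1 fun {T} x y h => exists_lift _ y ?_
    rw [hpow, ← cancel_mono u, MonObj.pow_comp, ← h, MonObj.one_comp, ← MonObj.comp_pow, hpk, MonObj.comp_one]
  have ho1 : IsOpenImmersion e1.left := by
    have h := hsq1.map (Over.forget S)
    have h2 : IsPullback e1.left (kerι _).left (kerι _).left u.left := h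
    exact MorphismProperty.of_isPullback (P := @IsOpenImmersion) h2.flip inferInstance
  -- `A[q]` is open in `A[q n']`
  obtain ⟨e2, he2⟩ := exists_lift ((𝟙 A : A ⟶ A) ^ (q * n')) (kerι ((𝟙 A : A ⟶ A) ^ q)) (by
    have h2 : kerι ((𝟙 A : A ⟶ A) ^ q) ≫ ((𝟙 A : A ⟶ A) ^ q) = 1 := kerι_comp _
    rw [hpow] at h2
    rw [hpow, pow_mul, h2, one_pow])
  obtain ⟨ψ, hψ⟩ := exists_lift ((𝟙 A : A ⟶ A) ^ n') ((kerι ((𝟙 A : A ⟶ A) ^ (q * n'))) ^ q) (by
    have h2 : kerι ((𝟙 A : A ⟶ A) ^ (q * n')) ≫ ((𝟙 A : A ⟶ A) ^ (q * n')) = 1 := kerι_comp _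
    rw [hpow] at h2
    rw [hpow, ← pow_mul, h2])
  have hm' : IsMonHom ((𝟙 A : A ⟶ A) ^ n') := K267.SemiPow.isMonHom_pow A n'
  obtain ⟨_, hmon'⟩ := exists_grpObj ((𝟙 A : A ⟶ A) ^ n')
  have het : Etale (kerObj ((𝟙 A : A ⟶ A) ^ n')).hom := by
    have h1 : Etale ((𝟙 A : A ⟶ A) ^ n').left := Groth.Agent.Sga7.H751.PowEtale.etale_pow A n' hn'
    exact inferInstanceAs (Etale (pullback.snd ((𝟙 A : A ⟶ A) ^ n').left (η[A] : 𝟙_ (Over S) ⟶ A).left))
  have hou : IsOpenImmersion (η[kerObj ((𝟙 A : A ⟶ A) ^ n')] : 𝟙_ (Over S) ⟶ _).left := isOpenImmersion_unit _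
  have hone : ∀ {T : Over S} (x : T ⟶ kerObj ((𝟙 A : A ⟶ A) ^ (q * n'))) (t : T ⟶ 𝟙_ (Over S)),
      t ≫ η = x ≫ ψ ↔ (x ≫ kerι _) ^ q = 1 := by
    intro T x t
    rw [← cancel_mono (kerι ((𝟙 A : A ⟶ A) ^ n')), Category.assoc, Category.assoc, hψ, MonObj.comp_pow,
      IsMonHom.one_hom, eq_comm]
    have : t = toUnit T := toUnit_unique _ _
    rw [this]
    rfl
  have hme2 : Mono e2 := by
    have : Mono (e2 ≫ kerι ((𝟙 A : A ⟶ A) ^ (q * n'))) := by rw [he2]; infer_instance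
    exact mono_of_mono e2 (kerι ((𝟙 A : A ⟶ A) ^ (q * n')))
  have hmη : Mono (η[kerObj ((𝟙 A : A ⟶ A) ^ n')] : 𝟙_ (Over S) ⟶ _) :=
    ⟨fun _ _ _ => toUnit_unique _ _⟩
  have hsq2 : IsPullback (toUnit _) e2 η[kerObj ((𝟙 A : A ⟶ A) ^ n')] ψ := by
    refine isPullback_of_exists _ _ _ _ ?_ fun {T} x y h => ?_
    · rw [hone, he2, hpk]
    · rw [hone] at h
      obtain ⟨t, ht⟩ := exists_lift ((𝟙 A : A ⟶ A) ^ q) (y ≫ kerι _) (by rw [hpow, h])
      refine ⟨t, ?_⟩
      rw [← cancel_mono (kerι ((𝟙 A : A ⟶ A) ^ (q * n'))), Category.assoc, he2, ht]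
  have ho2 : IsOpenImmersion e2.left := by
    have h := hsq2.map (Over.forget S)
    have h2 : IsPullback (toUnit (kerObj ((𝟙 A : A ⟶ A) ^ q))).left e2.left
      (η[kerObj ((𝟙 A : A ⟶ A) ^ n')] : 𝟙_ (Over S) ⟶ _).left ψ.left := h
    exact MorphismProperty.of_isPullback (P := @IsOpenImmersion) h2 inferInstance
  have h6 : ε = e1 ≫ e2 := by
    rw [← cancel_mono (kerι _), hε, Category.assoc, he2, he1]
  rw [h6, Over.comp_left]
  infer_instance

end Groth.Agent.GrpSch.K269.RedCoset
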