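import Groth.Agent.Sga3C.SchemImage
import Groth.Agent.S1386

/-!
# Flatness of a schematic closure can be tested after a flat base change, on an open part

`flatAt`: let `Z ⊂ Y` be a closed subscheme over `S`, `t : X ⟶ Z` schematically dominant with `X` over a part `T` of
`S`; let `S' ⟶ S` be flat, `T' = T ×_S S'`, `F ⊂ Y' = Y ×_S S'` closed such that `Z' ∩ F` is open in `Z'`, and `H ⊂ F`
closed, flat over `S'` with `H ∩ T' = F ∩ X'` (in terms of points). Then `Z` is flat over `S` at all points which are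
images of points of `Z' ∩ F`.
-/

set_option autoImplicit false
universe u
open CategoryTheory CategoryTheory.Limits AlgebraicGeometry

namespace Groth.Agent.GrpSch.K269.RedFlat

open Groth.Agent.Sga3C.SchemImage

/-- Two closed subschemes each of which contains a dominant subobject lying in the other one are equal. -/
theorem exists_iso {X₁ X₂ Z W Y : Scheme.{u}} (i : Z ⟶ Y) (j : W ⟶ Y) [IsClosedImmersion i]
    [IsClosedImmersion j] (a : X₁ ⟶ Z) [IsSchemeTheoreticallyDominant a] (b : X₂ ⟶ W)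
    [IsSchemeTheoreticallyDominant b] (a' : X₁ ⟶ W) (ha : a' ≫ j = a ≫ i) (b' : X₂ ⟶ Z)
    (hb : b' ≫ i = b ≫ j) : ∃ e : Z ≅ W, e.hom ≫ j = i := by
  obtain ⟨l, hl⟩ := exists_lift a i j a' ha
  obtain ⟨m, hm⟩ := exists_lift b j i b' hb
  refine ⟨⟨l, m, ?_, ?_⟩, hl⟩
  · rw [← cancel_mono i, Category.assoc, hm, hl, Category.id_comp]
  · rw [← cancel_mono j, Category.assoc, hl, hm, Category.id_comp]

theorem flatAt {Y S S' Z X T T' F H : Scheme.{u}} (y : Y ⟶ S) (k : Z ⟶ Y) [IsClosedImmersion k]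
    (t : X ⟶ Z) [QuasiCompact t] [IsSchemeTheoreticallyDominant t]
    (τ : X ⟶ T) (g : T ⟶ S) (hτ : t ≫ k ≫ y = τ ≫ g)
    (f : S' ⟶ S) [Flat f] (c : T' ⟶ T) (g' : T' ⟶ S') [QuasiCompact g']
    [IsSchemeTheoreticallyDominant g'] (hsq : IsPullback c g' g f)
    (j : F ⟶ pullback y f) [IsClosedImmersion j] (i : H ⟶ F) [IsClosedImmersion i]
    (hH : Flat (i ≫ j ≫ pullback.snd y f))
    (k' : pullback (k ≫ y) f ⟶ pullback y f) (hk1 : k' ≫ pullback.fst y f = pullback.fst (k ≫ y) f ≫ k)
    (hk2 : k' ≫ pullback.snd y f = pullback.snd (k ≫ y) f)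
    (hopen : IsOpenImmersion (pullback.fst k' j))
    (hfac : ∀ (P : Scheme.{u}) (x : P ⟶ F) (p : P ⟶ T'), p ≫ g' = x ≫ j ≫ pullback.snd y f →
      ((∃ h : P ⟶ H, h ≫ i = x) ↔ ∃ z : P ⟶ X, z ≫ t ≫ k = x ≫ j ≫ pullback.fst y f))
    (z : ↥(pullback (k ≫ y) f)) (hz : z ∈ Set.range (pullback.fst k' j)) :
    ((k ≫ y).stalkMap (pullback.fst (k ≫ y) f z)).hom.Flat := by
  have hk' : IsClosedImmersion k' := by
    have h1 : IsPullback k' (pullback.fst (k ≫ y) f) (pullback.fst y f) k := by
      refine IsPullback.of_right (h₁₂ := pullback.snd y f) (h₂₂ := y) (v₁₃ := f) ?_ hk1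
        (IsPullback.of_hasPullback y f).flip
      rw [hk2]
      exact (IsPullback.of_hasPullback (k ≫ y) f).flip
    exact MorphismProperty.of_isPullback h1.flip inferInstance
  -- the intersection `W` of `Z'` and `F`
  let W := pullback k' j
  let w : W ⟶ pullback y f := pullback.fst k' j ≫ k'
  have hwj : w = pullback.snd k' j ≫ j := pullback.condition
  have hw : IsClosedImmersion w := by
    rw [hwj]
    infer_instance
  -- `X' = X ×_S S'` is dominant in `Z'`
  let t' : pullback (t ≫ k ≫ y) f ⟶ pullback (k ≫ y) f :=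
    pullback.lift (pullback.fst _ _ ≫ t) (pullback.snd _ _) (by
      rw [Category.assoc, pullback.condition])
  have ht1 : t' ≫ pullback.fst (k ≫ y) f = pullback.fst _ _ ≫ t := pullback.lift_fst _ _ _
  have ht2 : t' ≫ pullback.snd (k ≫ y) f = pullback.snd _ _ := pullback.lift_snd _ _ _
  have htsq : IsPullback t' (pullback.fst (t ≫ k ≫ y) f) (pullback.fst (k ≫ y) f) t := by
    refine IsPullback.of_right (h₁₂ := pullback.snd (k ≫ y) f) (h₂₂ := k ≫ y) (v₁₃ := f) ?_ ht1
      (IsPullback.of_hasPullback (k ≫ y) f).flip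
    rw [ht2]
    exact (IsPullback.of_hasPullback (t ≫ k ≫ y) f).flip
  have htd : IsSchemeTheoreticallyDominant t' := .of_isPullback htsq.flip
  have htq : QuasiCompact t' := MorphismProperty.of_isPullback htsq.flip inferInstance
  have hd1 : IsSchemeTheoreticallyDominant (pullback.snd t' (pullback.fst k' j)) := inferInstance
  -- the generic fibre of `H` is dominant in `H`
  have hd2 : IsSchemeTheoreticallyDominant (pullback.snd g' (i ≫ j ≫ pullback.snd y f)) := inferInstance
  -- first inclusion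
  have hwj' : pullback.fst k' j ≫ k' = pullback.snd k' j ≫ j := pullback.condition
  have hc1 : pullback.fst t' (pullback.fst k' j) ≫ t' =
      pullback.snd t' (pullback.fst k' j) ≫ pullback.fst k' j := pullback.condition
  obtain ⟨a', ha'⟩ := (hfac _ (pullback.snd t' (pullback.fst k' j) ≫ pullback.snd k' j)
    (hsq.lift (pullback.fst t' (pullback.fst k' j) ≫ pullback.fst _ _ ≫ τ)
      (pullback.fst t' (pullback.fst k' j) ≫ pullback.snd _ _) (by
        rw [Category.assoc, Category.assoc, Category.assoc, ← hτ, pullback.condition]))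
    (by
      rw [hsq.lift_snd, Category.assoc, ← reassoc_of% hwj', hk2, ← ht2, reassoc_of% hc1])).2
      ⟨pullback.fst _ _ ≫ pullback.fst _ _, by
        rw [Category.assoc, Category.assoc, ← reassoc_of% hwj', hk1, ← reassoc_of% ht1, reassoc_of% hc1]⟩
  -- second inclusion
  obtain ⟨z', hz'⟩ := (hfac (pullback g' (i ≫ j ≫ pullback.snd y f)) (pullback.snd _ _ ≫ i)
    (pullback.fst _ _) (by rw [pullback.condition, Category.assoc])).1 ⟨pullback.snd _ _, rfl⟩
  let b₀ : pullback g' (i ≫ j ≫ pullback.snd y f) ⟶ pullback (k ≫ y) f :=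
    pullback.lift (z' ≫ t) (pullback.snd _ _ ≫ i ≫ j ≫ pullback.snd y f) (by
      rw [Category.assoc, reassoc_of% hz']
      simp only [Category.assoc, pullback.condition])
  have hb₀ : b₀ ≫ k' = (pullback.snd _ _ ≫ i) ≫ j := by
    apply pullback.hom_ext
    · rw [Category.assoc, hk1, pullback.lift_fst_assoc, Category.assoc, hz']
      simp only [Category.assoc]
    · rw [Category.assoc, hk2, pullback.lift_snd]
      simp only [Category.assoc]
  let b' : pullback g' (i ≫ j ≫ pullback.snd y f) ⟶ W := pullback.lift b₀ (pullback.snd _ _ ≫ i) hb₀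
  obtain ⟨e, he⟩ := exists_iso w (i ≫ j) (pullback.snd t' (pullback.fst k' j))
    (pullback.snd g' (i ≫ j ≫ pullback.snd y f)) a' (by
      rw [reassoc_of% ha', hwj]) b' (by
      rw [hwj, pullback.lift_snd_assoc, Category.assoc])
  obtain ⟨v, rfl⟩ := hz
  have hWflat : Flat (pullback.fst k' j ≫ pullback.snd (k ≫ y) f) := by
    have h1 : pullback.fst k' j ≫ pullback.snd (k ≫ y) f = e.hom ≫ i ≫ j ≫ pullback.snd y f := by
      rw [← hk2, reassoc_of% he]
      simp only [w, Category.assoc]
    rw [h1]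
    infer_instance
  have h2 : ((pullback.snd (k ≫ y) f).stalkMap (pullback.fst k' j v)).hom.Flat :=
    Groth.Agent.S1386.flat_of_flat_comp (pullback.fst k' j) (pullback.snd (k ≫ y) f) v
      (Flat.stalkMap _ v) (Flat.stalkMap _ v)
  have h3 : ((pullback.fst (k ≫ y) f ≫ k ≫ y).stalkMap (pullback.fst k' j v)).hom.Flat := by
    have h4 : ((pullback.snd (k ≫ y) f ≫ f).stalkMap (pullback.fst k' j v)).hom.Flat := by
      rw [Scheme.Hom.stalkMap_comp]
      exact RingHom.Flat.comp (Flat.stalkMap f _) h2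
    rw [pullback.condition]
    exact h4
  exact Groth.Agent.S1386.flat_of_flat_comp (pullback.fst (k ≫ y) f) (k ≫ y) _ h3
    (Flat.stalkMap _ _)

end Groth.Agent.GrpSch.K269.RedFlat
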