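import Groth.Agent.AbVar.K529.KL
import Groth.Agent.Sga3C.SubGrp

/-!
# Base change of `K(L)`

`isKL_of_isPullback`: `K(L)` commutes with extension of the base field, in terms of an arbitrary base change `q` of
the group `X`.
-/

set_option autoImplicit false
universe u
open CategoryTheory CategoryTheory.Limits AlgebraicGeometry MonObj MonoidalCategory
  CartesianMonoidalCategory

namespace Groth.Agent.GrpSch.K269.RedKL

open K529.KL Groth.Agent.Grpsch.PicGrp

section

variable {S S' : Scheme.{u}} (c : S' ⟶ S) {X : Over S} {X' : Over S'} (q : X'.left ⟶ X.left)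
  (hq : q ≫ X.hom = X'.hom ≫ c)

/-- An `S'`-scheme regarded over `S`. -/
abbrev dn (c : S' ⟶ S) (T : Over S') : Over S := Over.mk (T.hom ≫ c)

/-- The point of `X` attached to a point of its base change `X'`. -/
noncomputable def dq {T : Over S'} (a : T ⟶ X') : dn c T ⟶ X :=
  Over.homMk (a.left ≫ q) (by
    change (a.left ≫ q) ≫ X.hom = T.hom ≫ c
    rw [Category.assoc, hq, ← Category.assoc, Over.w a])

lemma dq_left {T : Over S'} (a : T ⟶ X') : (dq c q hq a).left = a.left ≫ q := rfl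

/-- A morphism over `S'` regarded over `S`. -/
noncomputable def dm (c : S' ⟶ S) {T T' : Over S'} (g : T ⟶ T') : dn c T ⟶ dn c T' :=
  Over.homMk g.left (by
    change g.left ≫ T'.hom ≫ c = T.hom ≫ c
    rw [← Category.assoc, Over.w g])

lemma dm_left {T T' : Over S'} (g : T ⟶ T') : (dm c g).left = g.left := rfl

lemma dq_comp {T T' : Over S'} (g : T ⟶ T') (a : T' ⟶ X') : dq c q hq (g ≫ a) = dm c g ≫ dq c q hq a := by
  ext1
  rw [Over.comp_left, dq_left, dq_left, dm_left, Over.comp_left, Category.assoc]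

end

/-- The base change of a closed subgroup, in terms of an arbitrary base change of the group. -/
theorem exists_sub {S S' : Scheme.{u}} (c : S' ⟶ S) {X : Over S} {X' : Over S'} [GrpObj X] [GrpObj X']
    (q : X'.left ⟶ X.left) (hq : IsPullback q X'.hom X.hom c)
    (hmul : ∀ {T : Over S'} (a b : T ⟶ X'), dq c q hq.w (a * b) = dq c q hq.w a * dq c q hq.w b)
    {K : Over S} [GrpObj K] (i : K ⟶ X) [IsMonHom i] [IsClosedImmersion i.left] :
    ∃ (K' : Over S') (_ : GrpObj K') (i' : K' ⟶ X'), IsMonHom i' ∧ IsClosedImmersion i'.left ∧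
      (∃ r : K'.left ⟶ K.left, IsPullback r K'.hom K.hom c) ∧
      ∀ {T : Over S'} (x : T ⟶ X'), (∃ y, y ≫ i' = x) ↔ ∃ y : dn c T ⟶ K, y ≫ i = dq c q hq.w x := by
  have him : Mono i := (Over.forget _).mono_of_mono_map (inferInstanceAs (Mono i.left))
  let K' : Over S' := Over.mk (pullback.snd i.left q ≫ X'.hom)
  let i' : K' ⟶ X' := Over.homMk (pullback.snd i.left q) rfl
  have hcl : IsClosedImmersion i'.left := inferInstanceAs (IsClosedImmersion (pullback.snd i.left q))
  have him' : Mono i' := (Over.forget _).mono_of_mono_map (inferInstanceAs (Mono i'.left))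
  have hfac : ∀ {T : Over S'} (x : T ⟶ X'), (∃ y, y ≫ i' = x) ↔ ∃ y : dn c T ⟶ K, y ≫ i = dq c q hq.w x := by
    intro T x
    constructor
    · rintro ⟨y, rfl⟩
      refine ⟨Over.homMk (y.left ≫ pullback.fst i.left q) ?_, ?_⟩
      · have h1 : (y.left ≫ pullback.fst i.left q) ≫ i.left = (y ≫ i').left ≫ q := by
          rw [Category.assoc, pullback.condition]
          rfl
        rw [← Over.w i, ← Category.assoc, h1, Category.assoc, hq.w, ← Category.assoc, Over.w (y ≫ i')]
        rfl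
      · ext1
        rw [Over.comp_left, dq_left]
        change (y.left ≫ pullback.fst i.left q) ≫ i.left = _
        rw [Category.assoc, pullback.condition]
        rfl
    · rintro ⟨y, hy⟩
      have h1 : y.left ≫ i.left = x.left ≫ q := congrArg (fun f => f.left) hy
      refine ⟨Over.homMk (pullback.lift y.left x.left h1) ?_, ?_⟩
      · change pullback.lift y.left x.left h1 ≫ pullback.snd i.left q ≫ X'.hom = T.hom
        rw [pullback.lift_snd_assoc, Over.w x]
      · ext1
        exact pullback.lift_snd _ _ _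
  have hpts : ∀ {T : Over S'} (x : T ⟶ X') (y : dn c T ⟶ K), y ≫ i = dq c q hq.w x → ∃ z, z ≫ i' = x :=
    fun x y h => (hfac x).2 ⟨y, h⟩
  have hone : ∀ {T : Over S'}, dq c q hq.w (1 : T ⟶ X') = 1 := by
    intro T
    have h := hmul (1 : T ⟶ X') 1
    rw [_root_.one_mul] at h
    exact mul_eq_left.1 h.symm
  have hinv : ∀ {T : Over S'} (a : T ⟶ X'), dq c q hq.w a⁻¹ = (dq c q hq.w a)⁻¹ := by
    intro T a
    rw [eq_inv_iff_mul_eq_one, ← hmul, inv_mul_cancel, hone]
  obtain ⟨y0, hy0⟩ := (hfac i').1 ⟨𝟙 _, Category.id_comp _⟩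
  obtain ⟨hG, hm⟩ := Sga3C.SubGrp.exists_grpObj_of_mono i' (by
      obtain ⟨y1, hy1⟩ := (hfac (fst K' K' ≫ i')).1 ⟨_, rfl⟩
      obtain ⟨y2, hy2⟩ := (hfac (snd K' K' ≫ i')).1 ⟨_, rfl⟩
      have h2 : (i' ⊗ₘ i') ≫ μ[X'] = (fst K' K' ≫ i') * (snd K' K' ≫ i') := by
        rw [Hom.mul_def]
        congr 1
      rw [h2]
      exact hpts _ (y1 * y2) (by rw [MonObj.mul_comp, hy1, hy2, hmul])) (by
      refine hpts _ 1 ?_
      rw [one_eq_one, hone, MonObj.one_comp]) (by
      have h3 : i' ≫ ι[X'] = i'⁻¹ := (Hom.inv_def _).symm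
      rw [h3]
      exact hpts _ y0⁻¹ (by rw [GrpObj.inv_comp, hy0, hinv]))
  refine ⟨K', hG, i', hm, hcl, ⟨pullback.fst i.left q, ?_⟩, hfac⟩
  have h4 := (IsPullback.of_hasPullback i.left q).paste_vert hq
  rw [Over.w i] at h4
  exact h4

theorem isKL_of_isPullback {k k' : Type u} [Field k] [Field k']
    (c : Spec (CommRingCat.of k') ⟶ Spec (CommRingCat.of k)) {X : Over (Spec (CommRingCat.of k))} [GrpObj X]
    {X' : Over (Spec (CommRingCat.of k'))} [GrpObj X'] (q : X'.left ⟶ X.left)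
    (hq : IsPullback q X'.hom X.hom c)
    (hmul : ∀ {T : Over (Spec (CommRingCat.of k'))} (a b : T ⟶ X'),
      dq c q hq.w (a * b) = dq c q hq.w a * dq c q hq.w b)
    {L : X.left.Modules} (hL : PicF.IsInvertible L) {K : Over (Spec (CommRingCat.of k))} {i : K ⟶ X}
    (hK : ThetaGrp.IsKL X L i) {K' : Over (Spec (CommRingCat.of k'))} (i' : K' ⟶ X')
    (hcl : IsClosedImmersion i'.left)
    (hfac : ∀ {T : Over (Spec (CommRingCat.of k'))} (x : T ⟶ X'), (∃ y, y ≫ i' = x) ↔
      ∃ y : dn c T ⟶ K, y ≫ i = dq c q hq.w x) :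
    ThetaGrp.IsKL X' ((Scheme.Modules.pullback q).obj L) i' := by
  have hL' : PicF.IsInvertible ((Scheme.Modules.pullback q).obj L) :=
    Groth.Agent.Fdesc.LocGen.isInvertible_pullback q hL
  refine ⟨hcl, fun T z => ?_⟩
  rw [isMumfordTriv_iff hL', hfac, exists_factor_iff hL hK]
  have hc' : mk ((Scheme.Modules.pullback q).obj L) hL' = pull q (mk L hL) := (pull_mk q hL).symm
  rw [hc']
  have hpl : ∀ {W : Over (Spec (CommRingCat.of k'))} (a : W ⟶ X'),
      pl a (pull q (mk L hL)) = pl (dq c q hq.w a) (mk L hL) := by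
    intro W a
    change pull a.left (pull q (mk L hL)) = pull (a.left ≫ q) (mk L hL)
    rw [pull_comp]
  constructor
  · intro h
    -- `W = X × dn T`
    let W : Over (Spec (CommRingCat.of k)) := X ⊗ dn c T
    let W' : Over (Spec (CommRingCat.of k')) := Over.mk ((snd X (dn c T)).left ≫ T.hom)
    have hWw : (snd X (dn c T)).left ≫ T.hom ≫ c = W.hom := Over.w (snd X (dn c T))
    have hfw : (fst X (dn c T)).left ≫ X.hom = W.hom := Over.w (fst X (dn c T))
    let x' : W' ⟶ X' := Over.homMk (hq.lift (fst X (dn c T)).left ((snd X (dn c T)).left ≫ T.hom) (by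
      rw [Category.assoc, hWw, hfw])) (hq.lift_snd _ _ _)
    have hx' : x'.left ≫ q = (fst X (dn c T)).left := hq.lift_fst _ _ _
    let g' : W' ⟶ T := Over.homMk (snd X (dn c T)).left rfl
    let ω : W ⟶ dn c W' := Over.homMk (𝟙 W.left) (by
      change 𝟙 W.left ≫ ((snd X (dn c T)).left ≫ T.hom) ≫ c = W.hom
      rw [Category.id_comp, Category.assoc, hWw])
    have h1 := congrArg (pl (lift x' g')) h
    rw [map_mul, ← pl_comp, ← pl_comp, ← pl_comp, MonObj.comp_mul, lift_fst, ← Category.assoc,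
      lift_snd, hpl, hpl, hpl, hmul] at h1
    have h2 : ω ≫ dq c q hq.w x' = fst X (dn c T) := by
      ext1
      rw [Over.comp_left, dq_left, hx']
      exact Category.id_comp _
    have h3 : ω ≫ dq c q hq.w (g' ≫ z) = snd X (dn c T) ≫ dq c q hq.w z := by
      ext1
      rw [dq_comp, Over.comp_left, Over.comp_left, Over.comp_left, dm_left]
      exact Category.id_comp _
    have h4 := congrArg (pl ω) h1
    rw [map_mul, ← pl_comp, ← pl_comp, ← pl_comp, MonObj.comp_mul, h2, h3] at h4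
    exact h4
  · intro h
    have h1 := congrArg (pl (lift (dq c q hq.w (fst X' T)) (dm c (snd X' T)))) h
    rw [map_mul, ← pl_comp, ← pl_comp, ← pl_comp, MonObj.comp_mul, lift_fst, ← Category.assoc,
      lift_snd] at h1
    rw [hpl, hpl, hpl, hmul, dq_comp]
    exact h1

theorem isKL_of_iso {k : Type u} [Field k] {X X' : Over (Spec (CommRingCat.of k))} [GrpObj X] [GrpObj X']
    (e : X' ⟶ X) [IsIso e] [IsMonHom e] {L : X.left.Modules} (hL : PicF.IsInvertible L)
    {K : Over (Spec (CommRingCat.of k))} {i : K ⟶ X} (hK : ThetaGrp.IsKL X L i) :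
    ThetaGrp.IsKL X' ((Scheme.Modules.pullback e.left).obj L) (i ≫ inv e) := by
  have he : IsIso e.left := inferInstanceAs (IsIso ((Over.forget _).map e))
  have hcl := hK.closed
  have hq : IsPullback e.left X'.hom X.hom (𝟙 (Spec (CommRingCat.of k))) :=
    IsPullback.of_horiz_isIso ⟨by rw [Category.comp_id, Over.w e]⟩
  have hdq : ∀ {T : Over (Spec (CommRingCat.of k))} (a : T ⟶ X'),
      (dq (𝟙 _) e.left hq.w a).left = (a ≫ e).left := fun a => rfl
  have key : ∀ {T : Over (Spec (CommRingCat.of k))}, ∃ ω : dn (𝟙 (Spec (CommRingCat.of k))) T ⟶ T,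
      ω.left = 𝟙 T.left ∧ ∀ (a : T ⟶ X'), dq (𝟙 _) e.left hq.w a = ω ≫ a ≫ e := by
    intro T
    refine ⟨Over.homMk (𝟙 T.left) (by
      change 𝟙 T.left ≫ T.hom = T.hom ≫ 𝟙 _
      rw [Category.id_comp, Category.comp_id]), rfl, fun a => ?_⟩
    ext1
    rw [hdq, Over.comp_left]
    exact (Category.id_comp _).symm
  refine isKL_of_isPullback (𝟙 _) e.left hq ?_ hL hK (i ≫ inv e) ?_ ?_
  · intro T a b
    obtain ⟨ω, -, hω⟩ := key (T := T)
    rw [hω, hω, hω, MonObj.mul_comp, MonObj.comp_mul]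
  · rw [Over.comp_left]
    have : IsIso (inv e).left := inferInstanceAs (IsIso ((Over.forget _).map (inv e)))
    infer_instance
  · intro T x
    obtain ⟨ω, hω1, hω⟩ := key (T := T)
    rw [hω]
    have hωi : IsIso ω := by
      have : IsIso ((Over.forget _).map ω) := by
        change IsIso ω.left
        rw [hω1]
        exact inferInstanceAs (IsIso (𝟙 T.left))
      exact isIso_of_reflects_iso ω (Over.forget _)
    constructor
    · rintro ⟨y, rfl⟩
      exact ⟨ω ≫ y, by simp⟩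
    · rintro ⟨y, hy⟩
      refine ⟨inv ω ≫ y, ?_⟩
      rw [Category.assoc, reassoc_of% hy, IsIso.inv_hom_id_assoc, IsIso.hom_inv_id, Category.comp_id]

/-- The preimage of a closed subgroup. -/
theorem exists_preimage {S : Scheme.{u}} {G X K : Over S} [GrpObj G] [GrpObj X] [GrpObj K] (φ : G ⟶ X)
    [IsMonHom φ] (j : K ⟶ X) [IsMonHom j] [IsClosedImmersion j.left] :
    ∃ (K' : Over S) (_ : GrpObj K') (j' : K' ⟶ G), IsMonHom j' ∧ IsClosedImmersion j'.left ∧
      ∀ {T : Over S} (x : T ⟶ G), (∃ y, y ≫ j' = x) ↔ ∃ y : T ⟶ K, y ≫ j = x ≫ φ := by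
  let K' : Over S := Over.mk (pullback.snd j.left φ.left ≫ G.hom)
  let j' : K' ⟶ G := Over.homMk (pullback.snd j.left φ.left) rfl
  have hcl : IsClosedImmersion j'.left := inferInstanceAs (IsClosedImmersion (pullback.snd j.left φ.left))
  have him' : Mono j' := (Over.forget _).mono_of_mono_map (inferInstanceAs (Mono j'.left))
  have hfac : ∀ {T : Over S} (x : T ⟶ G), (∃ y, y ≫ j' = x) ↔ ∃ y : T ⟶ K, y ≫ j = x ≫ φ := by
    intro T x
    constructor
    · rintro ⟨y, rfl⟩
      have h1 : (y.left ≫ pullback.fst j.left φ.left) ≫ j.left = ((y ≫ j') ≫ φ).left := by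
        rw [Category.assoc, pullback.condition]
        rfl
      refine ⟨Over.homMk (y.left ≫ pullback.fst j.left φ.left) ?_, ?_⟩
      · rw [← Over.w j, ← Category.assoc, h1, Over.w ((y ≫ j') ≫ φ)]
      · ext1
        exact h1
    · rintro ⟨y, hy⟩
      have h1 : y.left ≫ j.left = x.left ≫ φ.left := congrArg (fun f => f.left) hy
      refine ⟨Over.homMk (pullback.lift y.left x.left h1) ?_, ?_⟩
      · change pullback.lift y.left x.left h1 ≫ pullback.snd j.left φ.left ≫ G.hom = T.hom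
        rw [pullback.lift_snd_assoc, Over.w x]
      · ext1
        exact pullback.lift_snd _ _ _
  obtain ⟨y0, hy0⟩ := (hfac j').1 ⟨𝟙 _, Category.id_comp _⟩
  obtain ⟨hG, hm⟩ := Sga3C.SubGrp.exists_grpObj_of_mono j' (by
      obtain ⟨y1, hy1⟩ := (hfac (fst K' K' ≫ j')).1 ⟨_, rfl⟩
      obtain ⟨y2, hy2⟩ := (hfac (snd K' K' ≫ j')).1 ⟨_, rfl⟩
      have h2 : (j' ⊗ₘ j') ≫ μ[G] = (fst K' K' ≫ j') * (snd K' K' ≫ j') := by
        rw [Hom.mul_def]
        congr 1
      rw [h2]
      exact (hfac _).2 ⟨y1 * y2, by rw [MonObj.mul_comp, hy1, hy2, MonObj.mul_comp]⟩) (by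
      refine (hfac _).2 ⟨1, ?_⟩
      rw [one_eq_one, MonObj.one_comp, MonObj.one_comp]) (by
      have h3 : j' ≫ ι[G] = j'⁻¹ := (Hom.inv_def _).symm
      rw [h3]
      exact (hfac _).2 ⟨y0⁻¹, by rw [GrpObj.inv_comp, hy0, GrpObj.inv_comp]⟩)
  exact ⟨K', hG, j', hm, hcl, hfac⟩

end Groth.Agent.GrpSch.K269.RedKL
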