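import Groth.Agent.GrpSch.K269.RedCoset
import Groth.Agent.GrpSch.K269.RedKL
import Groth.Agent.GrpSch.K270.MB.Shape
import Groth.Agent.Red.K217.IdComp2
import Groth.Agent.Sga7.H758.AlgClosed

/-!
# From the connected case to the full torsion, over a strictly henselian base

`NodeLocal`: the local statement (closure of `K(L)` in the finite part of the `p^m`-torsion, connected fibres).
`local_main`: `NodeCoset` and `NodeLocal` give the flat closure in the finite part of `A[n]` for a semi-stable group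
`A` with arbitrary fibres.
-/

set_option autoImplicit false
universe u
open CategoryTheory CategoryTheory.Limits MonoidalCategory CartesianMonoidalCategory MonObj GrpObj AlgebraicGeometry

namespace Groth.Agent.GrpSch.K269.RedLoc

open Groth.Agent.Sga3B.KerGrp K267.TorsFin K267.FinPart K270.MB RedCoset RedKL
open Groth.Agent.Sga3.H778.NeutralPts

/-- The local statement. -/
def NodeLocal : Prop :=
  ∀ (R : Type u) [CommRing R] [IsDomain R] [IsNoetherianRing R] [IsIntegrallyClosed R] [HenselianLocalRing R]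
    [IsSepClosed (IsLocalRing.ResidueField R)] (p : ℕ) (_ : p.Prime) (_ : (p : R) ∈ IsLocalRing.maximalIdeal R)
    (A : Over (Spec (CommRingCat.of R))) [GrpObj A] [IsCommMonObj A] (_ : Smooth A.hom) (_ : IsSeparated A.hom)
    (_ : QuasiCompact A.hom) (_ : GeometricallyConnected A.hom) (_ : SGA7.FibresUnipotentRankZero A)
    (_ : IsProper (Red.bc (gen R) A).hom)
    (L : (Red.bc (gen R) A).left.Modules) (_ : PicF.IsInvertible L)
    (Kl : Over (Spec (CommRingCat.of (FractionRing R)))) [GrpObj Kl] (j : Kl ⟶ Red.bc (gen R) A) (_ : IsClSub j)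
    (_ : IsFinite Kl.hom) (_ : ThetaGrp.IsKL (Red.bc (gen R) A) L j),
    ∃ m₀ : ℕ, ∀ m, m₀ ≤ m → ∀ (F : Over (Spec (CommRingCat.of R))) [GrpObj F] (f : F ⟶ A)
      (_ : K270.MB.IsFinPart R A (p ^ m) f),
      FlatExt R F (fun x => Fac j (x ≫ (Over.pullback (gen R)).map f))

section neutral

variable {S T : Scheme.{u}}

theorem isIso_bc_neutral (g : T ⟶ S) (η' : S) (hg : Set.range g = {η'}) (A A₀ : Over S) [GrpObj A]
    (v : A₀ ⟶ A) [IsOpenImmersion v.left] (hr : Set.range v.left = SGA3x.neutralSet A)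
    (hconn : ConnectedSpace (Red.bc g A).left) : IsIso ((Over.pullback g).map v) := by
  have hsq := Groth.Agent.Sga3C.ActBase.isPullback_map_left g v
  have h1 : IsOpenImmersion ((Over.pullback g).map v).left :=
    MorphismProperty.of_isPullback (P := @IsOpenImmersion) hsq.flip inferInstance
  have h2 : Surjective ((Over.pullback g).map v).left := by
    refine ⟨fun y => ?_⟩
    have hfib : ∀ y : (Red.bc g A).left, A.hom (pullback.fst A.hom g y) = η' := by
      intro y
      have h3 : A.hom (pullback.fst A.hom g y) = g (pullback.snd A.hom g y) := by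
        rw [← Scheme.Hom.comp_apply, pullback.condition, Scheme.Hom.comp_apply]
      have h4 : g (pullback.snd A.hom g y) ∈ Set.range g := ⟨_, rfl⟩
      rw [hg] at h4
      rw [h3]
      exact h4
    have hmem : pullback.fst A.hom g y ∈ SGA3x.neutralSet A := by
      rw [neutralSet_eq]
      change _ ∈ connectedComponentIn _ _
      rw [hfib y]
      have hpre : _root_.IsPreconnected (Set.range (pullback.fst A.hom g)) := by
        rw [← Set.image_univ]
        have hcs : PreconnectedSpace (Red.bc g A).left := inferInstance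
        exact hcs.isPreconnected_univ.image _ (pullback.fst A.hom g).continuous.continuousOn
      refine hpre.subset_connectedComponentIn ?_ ?_ ⟨y, rfl⟩
      · rw [Scheme.Pullback.range_fst]
        change A.hom (unitSec A η') ∈ Set.range g
        rw [hom_unitSec, hg]
        rfl
      · rintro _ ⟨z, rfl⟩
        exact hfib z
    rw [← hr] at hmem
    obtain ⟨a, ha⟩ := hmem
    obtain ⟨z, hz1, -⟩ := Scheme.exists_preimage_of_isPullback hsq y a ha.symm
    exact ⟨z, hz1⟩
  have h3 : IsIso ((Over.pullback g).map v).left :=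
    (isIso_iff_isOpenImmersion_and_surjective _).mpr ⟨h1, h2⟩
  have : IsIso ((Over.forget _).map ((Over.pullback g).map v)) := h3
  exact isIso_of_reflects_iso _ (Over.forget _)

end neutral

variable {R : Type u} [CommRing R]

theorem isFinPart_of_isTors [IsLocalRing R] {A F : Over (Spec (CommRingCat.of R))} [GrpObj A] [GrpObj F] {N : ℕ} {f : F ⟶ A}
    [IsMonHom f] (hf : IsTors A N f) : K270.MB.IsFinPart R A N f where
  mon := inferInstance
  closed := hf.cl
  finite := hf.fin
  flat := hf.flat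
  pow := hf.pow
  opn {T} x hx hr := by
    obtain ⟨k, hk⟩ := exists_lift ((𝟙 A : A ⟶ A) ^ N) f (by rw [comp_one_pow, hf.pow])
    obtain ⟨y, hy⟩ := exists_lift ((𝟙 A : A ⟶ A) ^ N) x (by rw [comp_one_pow, hx])
    have hko := hf.op k hk
    have hrange : Set.range y.left ⊆ Set.range k.left := by
      rintro _ ⟨t, rfl⟩
      obtain ⟨z, hz⟩ := hr t
      refine ⟨z, ?_⟩
      have hmι : Mono (kerι ((𝟙 A : A ⟶ A) ^ N)).left := inferInstance
      have hinj : Function.Injective (kerι ((𝟙 A : A ⟶ A) ^ N)).left := Scheme.Hom.injective _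
      apply hinj
      have h1 : (k ≫ kerι ((𝟙 A : A ⟶ A) ^ N)).left z = (y ≫ kerι ((𝟙 A : A ⟶ A) ^ N)).left t := by
        rw [hk, hy, hz]
      rw [Over.comp_left, Over.comp_left] at h1
      exact h1
    refine ⟨Over.homMk (IsOpenImmersion.lift k.left y.left hrange) ?_, ?_⟩
    · rw [← Over.w k, ← Category.assoc, IsOpenImmersion.lift_fac, Over.w y]
    · ext1
      rw [Over.comp_left, ← hk, Over.comp_left, ← Category.assoc]
      change (IsOpenImmersion.lift k.left y.left hrange ≫ k.left) ≫ _ = _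
      rw [IsOpenImmersion.lift_fac, ← Over.comp_left, hy]
  cl {T} x hx ht := hf.lift_closed x (fun t => ht t) hx

theorem flatExt_congr [IsDomain R] {G : Over (Spec (CommRingCat.of R))} [GrpObj G]
    {Q Q' : ∀ {T : Over (Spec (CommRingCat.of (FractionRing R)))}, (T ⟶ Red.bc (gen R) G) → Prop}
    (h : ∀ {T : Over (Spec (CommRingCat.of (FractionRing R)))} (x : T ⟶ Red.bc (gen R) G), Q x ↔ Q' x)
    (hQ : FlatExt R G Q) : FlatExt R G Q' := by
  obtain ⟨H, hH, i, h1, h2, h3⟩ := hQ
  exact ⟨H, hH, i, h1, h2, fun x => (h3 x).trans (h x)⟩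

/-- The finite part of the `q`-torsion of an open subgroup is open and closed in the finite part of the
`q n'`-torsion. -/
theorem coset_incl [IsLocalRing R] {A A₀ F F₀ : Over (Spec (CommRingCat.of R))} [GrpObj A] [GrpObj A₀] [GrpObj F]
    [GrpObj F₀] [IsCommMonObj A] [Flat A.hom] [LocallyOfFinitePresentation A.hom] [IsSeparated A.hom]
    (v : A₀ ⟶ A) [IsMonHom v] [IsOpenImmersion v.left] (q n' : ℕ)
    (hn' : ∀ s : Spec (CommRingCat.of R), (n' : (Spec (CommRingCat.of R)).residueField s) ≠ 0)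
    {f : F ⟶ A} [IsMonHom f] (hf : IsTors A (q * n') f) {f₀ : F₀ ⟶ A₀} [IsMonHom f₀] (hf₀ : IsTors A₀ q f₀) :
    ∃ i : F₀ ⟶ F, i ≫ f = f₀ ≫ v ∧ IsClSub i ∧ IsOpenImmersion i.left := by
  have hmf := hf.mono
  have hmf₀ := hf₀.mono
  have hmv : Mono v := (Over.forget _).mono_of_mono_map (inferInstanceAs (Mono v.left))
  have hcl := hf.cl
  have hfin := hf.fin
  have hfin₀ := hf₀.fin
  obtain ⟨i, hi⟩ := hf.lift (f₀ ≫ v) hf₀.clo (by
    rw [pow_mul, ← MonObj.pow_comp, hf₀.pow, MonObj.one_comp, one_pow])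
  have hmi : IsMonHom i := by
    have : IsMonHom (i ≫ f) := by rw [hi]; infer_instance
    exact Groth.Agent.Sga3C.SubGrp.isMonHom_of_comp_mono i f
  have hmoni : Mono i := by
    have : Mono (i ≫ f) := by rw [hi]; infer_instance
    exact mono_of_mono i f
  have hlm : Mono i.left := inferInstance
  have hif : IsFinite i.left := by
    have h1 : IsFinite (i.left ≫ F.hom) := by rw [Over.w i]; exact hfin₀
    exact IsFinite.of_comp i.left F.hom
  have hcli : IsClosedImmersion i.left := by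
    rw [IsClosedImmersion.iff_isFinite_and_mono]
    exact ⟨hif, hlm⟩
  refine ⟨i, hi, ⟨hmi, hcli⟩, ?_⟩
  obtain ⟨k, hk⟩ := exists_lift ((𝟙 A : A ⟶ A) ^ (q * n')) f (by rw [comp_one_pow, hf.pow])
  obtain ⟨k₀, hk₀⟩ := exists_lift ((𝟙 A₀ : A₀ ⟶ A₀) ^ q) f₀ (by rw [comp_one_pow, hf₀.pow])
  have ho := hf.op k hk
  have ho₀ := hf₀.op k₀ hk₀
  obtain ⟨ε, hε⟩ := exists_lift ((𝟙 A : A ⟶ A) ^ (q * n')) (kerι ((𝟙 A₀ : A₀ ⟶ A₀) ^ q) ≫ v) (by
    have h1 : (kerι ((𝟙 A₀ : A₀ ⟶ A₀) ^ q)) ^ q = 1 := by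
      rw [← comp_one_pow (kerι ((𝟙 A₀ : A₀ ⟶ A₀) ^ q)) q]
      exact kerι_comp _
    rw [comp_one_pow, pow_mul, ← MonObj.pow_comp, h1, MonObj.one_comp, one_pow])
  have hεo := open_incl A A₀ v q n' hn' ε hε
  have h2 : i ≫ k = k₀ ≫ ε := by
    rw [← cancel_mono (kerι ((𝟙 A : A ⟶ A) ^ (q * n'))), Category.assoc, hk, hi, Category.assoc, hε,
      reassoc_of% hk₀]
  have h3 : IsOpenImmersion (i.left ≫ k.left) := by
    rw [← Over.comp_left, h2, Over.comp_left]
    infer_instance
  exact isOpenImmersion_of_comp_mono i.left k.left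

theorem natCast_residueField_ne_zero (n : ℕ) (hn : IsUnit (n : R)) (s : Spec (CommRingCat.of R)) :
    (n : (Spec (CommRingCat.of R)).residueField s) ≠ 0 := by
  let ψ : R →+* (Spec (CommRingCat.of R)).residueField s :=
    ((Scheme.ΓSpecIso (CommRingCat.of R)).inv ≫ (Spec (CommRingCat.of R)).presheaf.germ ⊤ s trivial ≫
      (Spec (CommRingCat.of R)).residue s).hom
  have h := hn.map ψ
  rw [map_natCast] at h
  exact h.ne_zero

theorem isUnit_natCast_of_not_dvd [IsLocalRing R] {p : ℕ} [CharP (IsLocalRing.ResidueField R) p] {n : ℕ}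
    (h : ¬ p ∣ n) : IsUnit (n : R) := by
  rw [← IsLocalRing.residue_ne_zero_iff_isUnit, map_natCast]
  intro h1
  exact h ((CharP.cast_eq_zero_iff (IsLocalRing.ResidueField R) p n).1 h1)

section core

variable [IsDomain R] [IsNoetherianRing R] [IsIntegrallyClosed R] [HenselianLocalRing R]
  [IsSepClosed (IsLocalRing.ResidueField R)]

theorem core (hC : NodeCoset.{u}) {A A₀ F F₀ : Over (Spec (CommRingCat.of R))} [GrpObj A] [GrpObj A₀] [GrpObj F]
    [GrpObj F₀] [IsCommMonObj A] [Flat A.hom] [LocallyOfFinitePresentation A.hom] [IsSeparated A.hom]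
    (v : A₀ ⟶ A) [IsMonHom v] [IsOpenImmersion v.left] (q n' : ℕ)
    (hn' : ∀ s : Spec (CommRingCat.of R), (n' : (Spec (CommRingCat.of R)).residueField s) ≠ 0)
    {f : F ⟶ A} [IsMonHom f] (hf : IsTors A (q * n') f) {f₀ : F₀ ⟶ A₀} [IsMonHom f₀] (hf₀ : IsTors A₀ q f₀)
    (Kl : Over (Spec (CommRingCat.of (FractionRing R)))) [GrpObj Kl] (j : Kl ⟶ Red.bc (gen R) A) (hj : IsClSub j)
    (hFE : FlatExt R F₀ (fun x => Fac j (x ≫ (Over.pullback (gen R)).map (f₀ ≫ v)))) :
    FlatExt R F (fun x => Fac j (x ≫ (Over.pullback (gen R)).map f)) := by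
  obtain ⟨i, hi, hcs, hop⟩ := coset_incl v q n' hn' hf hf₀
  have h1 := hj.mon
  have h2 := hj.closed
  have h3 := hf.mono
  have h4 : IsCommMonObj F := Groth.Agent.Sga7.H758.AlgClosed.isCommMonObj_of_mono f
  have h5 : IsMonHom ((Over.pullback (gen R)).map f : Red.bc (gen R) F ⟶ Red.bc (gen R) A) :=
    inferInstanceAs (IsMonHom ((Over.pullback (gen R)).map f))
  obtain ⟨H, hH, jH, hjm, hjc, hjf⟩ := exists_preimage
    ((Over.pullback (gen R)).map f : Red.bc (gen R) F ⟶ Red.bc (gen R) A) j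
  refine flatExt_congr hjf (hC R F F₀ i hf.fin hf.flat hcs hop H jH ⟨hjm, hjc⟩ (flatExt_congr ?_ hFE))
  intro T x
  change _ ↔ ∃ y, y ≫ jH = x ≫ (Over.pullback (gen R)).map i
  rw [hjf, Category.assoc, ← Functor.map_comp, hi]
  rfl

theorem local_main (hC : NodeCoset.{u}) (hL : NodeLocal.{u}) (A : Over (Spec (CommRingCat.of R))) [GrpObj A]
    [IsCommMonObj A] [Smooth A.hom] [IsSeparated A.hom] [QuasiCompact A.hom] (hA : SGA7.FibresUnipotentRankZero A)
    (hprop : IsProper (Red.bc (gen R) A).hom) (hconn : ConnectedSpace (Red.bc (gen R) A).left)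
    (L : (Red.bc (gen R) A).left.Modules) (hLi : PicF.IsInvertible L)
    (Kl : Over (Spec (CommRingCat.of (FractionRing R)))) [GrpObj Kl] (j : Kl ⟶ Red.bc (gen R) A) (hj : IsClSub j)
    (hfin : IsFinite Kl.hom) (hKL : ThetaGrp.IsKL (Red.bc (gen R) A) L j) (n : ℕ) (hn : 0 < n) :
    ∃ (n₁ : ℕ) (F : Over (Spec (CommRingCat.of R))) (_ : GrpObj F) (f : F ⟶ A), 0 < n₁ ∧ n ∣ n₁ ∧ IsMonHom f ∧
      IsTors A n₁ f ∧ FlatExt R F (fun x => Fac j (x ≫ (Over.pullback (gen R)).map f)) := by
  obtain ⟨A₀, hG₀, v, hvm, hvo, hvr, hsm₀, hqc₀, hsep₀, hgi₀, -, -⟩ := K217.IdComp2.exists_neutral A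
  have hmv : Mono v := (Over.forget _).mono_of_mono_map (inferInstanceAs (Mono v.left))
  have hcomm₀ : IsCommMonObj A₀ := Groth.Agent.Sga7.H758.AlgClosed.isCommMonObj_of_mono v
  have hrz₀ : SGA7.FibresUnipotentRankZero A₀ := rankZero_of_mono v hA
  have hgc₀ : GeometricallyConnected A₀.hom := by
    refine ⟨fun K _ y Y fst snd hpb => ?_⟩
    have := GeometricallyIrreducible.geometrically_irreducibleSpace (f := A₀.hom) y fst snd hpb
    infer_instance
  have hgen : Set.range (gen R) = {gen R (IsLocalRing.closedPoint (FractionRing R))} := by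
    ext x
    constructor
    · rintro ⟨y, rfl⟩
      have : y = IsLocalRing.closedPoint (FractionRing R) := Subsingleton.elim (α := PrimeSpectrum _) _ _
      rw [this]
      rfl
    · rintro rfl
      exact ⟨_, rfl⟩
  have hiso : IsIso ((Over.pullback (gen R)).map v) := isIso_bc_neutral (gen R) _ hgen A A₀ v hvr hconn
  obtain ⟨q, n', hq, hn0, hdvd, hu, hFE⟩ : ∃ q n' : ℕ, 0 < q ∧ 0 < n' ∧ n ∣ q * n' ∧ IsUnit (n' : R) ∧
      ∀ (F₀ : Over (Spec (CommRingCat.of R))) [GrpObj F₀] (f₀ : F₀ ⟶ A₀) [IsMonHom f₀], IsTors A₀ q f₀ →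
        FlatExt R F₀ (fun x => Fac j (x ≫ (Over.pullback (gen R)).map (f₀ ≫ v))) := by
    obtain ⟨p, hp⟩ := CharP.exists (IsLocalRing.ResidueField R)
    rcases CharP.char_is_prime_or_zero (IsLocalRing.ResidueField R) p with hpp | rfl
    · -- residue characteristic `p`
      have hpR : (p : R) ∈ IsLocalRing.maximalIdeal R := by
        rw [← IsLocalRing.residue_eq_zero_iff, map_natCast]
        exact CharP.cast_eq_zero _ p
      let e : Red.bc (gen R) A₀ ⟶ Red.bc (gen R) A := (Over.pullback (gen R)).map v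
      have hem : IsMonHom e := inferInstanceAs (IsMonHom ((Over.pullback (gen R)).map v))
      have hei : IsIso e := hiso
      have hel : IsIso e.left := inferInstanceAs (IsIso ((Over.forget _).map e))
      have hprop₀ : IsProper (Red.bc (gen R) A₀).hom := by
        rw [← Over.w e]
        infer_instance
      have hj1 := hj.mon
      have hj2 := hj.closed
      have hinvl : IsIso (inv e).left := inferInstanceAs (IsIso ((Over.forget _).map (inv e)))
      have hinvm : IsMonHom (inv e) := by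
        have : IsMonHom (inv e ≫ e) := by rw [IsIso.inv_hom_id]; infer_instance
        exact Groth.Agent.Sga3C.SubGrp.isMonHom_of_comp_mono (inv e) e
      have hjs : IsClSub (j ≫ inv e) := ⟨inferInstance, by rw [Over.comp_left]; infer_instance⟩
      obtain ⟨m₀, hm₀⟩ := hL R p hpp hpR A₀ hsm₀ hsep₀ hqc₀ hgc₀ hrz₀ hprop₀
        ((Scheme.Modules.pullback e.left).obj L) (Groth.Agent.Fdesc.LocGen.isInvertible_pullback _ hLi) Kl
        (j ≫ inv e) hjs hfin (isKL_of_iso e hLi hKL)
      obtain ⟨m, n', hn', heq⟩ := Nat.exists_eq_pow_mul_and_not_dvd (n := n * p ^ m₀)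
        (Nat.mul_ne_zero hn.ne' (pow_ne_zero _ hpp.ne_zero)) p hpp.ne_one
      have hm : m₀ ≤ m := by
        have h1 : p ^ m₀ ∣ p ^ m * n' := by rw [← heq]; exact Dvd.intro_left _ rfl
        have h2 : p ^ m₀ ∣ p ^ m := (Nat.Coprime.pow_left m₀ ((Nat.Prime.coprime_iff_not_dvd hpp).2 hn')).dvd_of_dvd_mul_right h1
        exact (Nat.pow_dvd_pow_iff_le_right hpp.one_lt).1 h2
      have hn'0 : 0 < n' := by
        rcases Nat.eq_zero_or_pos n' with rfl | h
        · exact absurd (dvd_zero p) hn'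
        · exact h
      refine ⟨p ^ m, n', pow_pos hpp.pos m, hn'0, ?_, isUnit_natCast_of_not_dvd hn', ?_⟩
      · rw [← heq]
        exact Dvd.intro _ rfl
      · intro F₀ _ f₀ _ hf₀
        refine flatExt_congr ?_ (hm₀ m hm F₀ f₀ (isFinPart_of_isTors hf₀))
        intro T x
        rw [Functor.map_comp, ← Category.assoc]
        change (∃ y, y ≫ j ≫ inv e = _) ↔ ∃ y, y ≫ j = _ ≫ e
        constructor
        · rintro ⟨y, hy⟩
          exact ⟨y, by rw [← hy, Category.assoc, Category.assoc, IsIso.inv_hom_id, Category.comp_id]⟩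
        · rintro ⟨y, hy⟩
          exact ⟨y, by rw [← Category.assoc, hy, Category.assoc, IsIso.hom_inv_id, Category.comp_id]⟩
    · -- residue characteristic `0`
      have hj1 := hj.mon
      refine ⟨1, n, one_pos, hn, (Nat.one_mul n).symm ▸ dvd_rfl, ?_, ?_⟩
      · refine isUnit_natCast_of_not_dvd (p := 0) ?_
        rw [Nat.zero_dvd]
        exact hn.ne'
      · intro F₀ _ f₀ _ hf₀
        have h1 := hf₀.pow
        rw [pow_one] at h1
        refine ⟨F₀, inferInstance, 𝟙 F₀, ⟨inferInstance, inferInstanceAs (IsClosedImmersion (𝟙 F₀.left))⟩,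
          hf₀.flat, fun {T} x => ⟨fun _ => ?_, fun _ => ?_⟩⟩
        · refine ⟨1, ?_⟩
          have hmul : ∀ a b : F₀ ⟶ A, (Over.pullback (gen R)).map (a * b) =
            ((Over.pullback (gen R)).map a : Red.bc (gen R) F₀ ⟶ Red.bc (gen R) A) *
              (Over.pullback (gen R)).map b := fun a b => Functor.map_mul _ _ _
          have h3 : ((Over.pullback (gen R)).map (1 : F₀ ⟶ A) : Red.bc (gen R) F₀ ⟶ Red.bc (gen R) A) = 1 := by
            have h := hmul 1 1
            rw [_root_.one_mul] at h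
            exact mul_eq_left.1 h.symm
          rw [MonObj.one_comp, h1, MonObj.one_comp]
          change 1 = x ≫ ((Over.pullback (gen R)).map (1 : F₀ ⟶ A) : Red.bc (gen R) F₀ ⟶ Red.bc (gen R) A)
          rw [h3, MonObj.comp_one]
        · exact ⟨x, by rw [CategoryTheory.Functor.map_id, Category.comp_id]⟩
  obtain ⟨F, hF, f, hfm, hf⟩ := exists_isTors A hA (q * n') (Nat.mul_pos hq hn0)
  obtain ⟨F₀, hF₀, f₀, hfm₀, hf₀⟩ := exists_isTors A₀ hrz₀ q hq
  exact ⟨q * n', F, hF, f, Nat.mul_pos hq hn0, hdvd, hfm, hf, core hC v q n'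
    (natCast_residueField_ne_zero n' hu) hf hf₀ Kl j hj (hFE F₀ f₀ hf₀)⟩

end core

end Groth.Agent.GrpSch.K269.RedLoc
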