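import Groth.Agent.AbVar.K530.ConstGrp
import Groth.Agent.AbVar.K530.OpenSub
import Groth.Agent.Sga3.H828.SubgrpObj
import Groth.Agent.Sga1.SigmaFinite
import Groth.Agent.Sga7.H758.EndRing
import Groth.Agent.GrpSch.K267.DeligneSch

/-!
# Open subgroups of a constant group scheme glued from partial sections

Data: `A` a group over `S`, `M` a finite commutative group, for each `m : M` a closed subscheme `z m : Z m ⟶ A` which
is open in `S` (a section over an open subset, with closed image), compatible with the group laws. Then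
`H = ∐ Z m` is an open subgroup of the constant group `M_S` with a finite homomorphism to `A`.
-/

set_option autoImplicit false
universe u
open CategoryTheory MonoidalCategory CartesianMonoidalCategory MonObj GrpObj AlgebraicGeometry Limits Opposite

namespace K269.SecGlue

open K530.ConstGrp

variable {S : Scheme.{u}} {M : Type u} {A : Over S} (Z : M → Over S)
  (z : ∀ m, Z m ⟶ A)

/-- The disjoint union. -/
noncomputable def H : Over S := Over.mk (Sigma.desc (fun m => (Z m).hom))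

/-- The inclusions. -/
noncomputable def r (m : M) : Z m ⟶ H Z := Over.homMk (Sigma.ι (fun m => (Z m).left) m) (Sigma.ι_desc _ _)

/-- The morphism to the constant group. -/
noncomputable def j : H Z ⟶ cst S M := Over.homMk (Sigma.desc (fun m => (Z m).hom ≫ inj S m)) (by
  refine Sigma.hom_ext _ _ fun m => ?_
  change Sigma.ι (fun m => (Z m).left) m ≫ Sigma.desc (fun m => (Z m).hom ≫ inj S m) ≫ (cst S M).hom =
    Sigma.ι (fun m => (Z m).left) m ≫ Sigma.desc (fun m => (Z m).hom)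
  rw [Sigma.ι_desc_assoc, Sigma.ι_desc, Category.assoc, inj_hom, Category.comp_id])

variable {Z}

/-- The morphism to `A`. -/
noncomputable def φ : H Z ⟶ A := Over.homMk (Sigma.desc (fun m => (z m).left)) (by
  refine Sigma.hom_ext _ _ fun m => ?_
  change Sigma.ι (fun m => (Z m).left) m ≫ Sigma.desc (fun m => (z m).left) ≫ A.hom =
    Sigma.ι (fun m => (Z m).left) m ≫ Sigma.desc (fun m => (Z m).hom)
  rw [Sigma.ι_desc_assoc, Sigma.ι_desc, Over.w])

theorem r_φ (m : M) : r Z m ≫ φ z = z m := by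
  ext1
  exact Sigma.ι_desc _ _

theorem r_j (m : M) : r Z m ≫ j Z = toUnit _ ≫ sec S m := by
  ext1
  exact Sigma.ι_desc _ _

theorem isFinite_φ [Finite M] [∀ m, IsClosedImmersion (z m).left] : IsFinite (φ z).left := by
  have : ∀ m, IsFinite (z m).left := fun m => inferInstance
  exact Groth.Agent.Sga1.SigmaFinite.isFinite_sigmaDesc (fun m => (z m).left)

variable (Z) in
theorem isOpenImmersion_j [∀ m, IsOpenImmersion (Z m).hom] : IsOpenImmersion (j Z).left := by
  refine isOpenImmersion_sigmaDesc (fun m => (Z m).left) (fun m => (Z m).hom ≫ inj S m) ?_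
  intro m n hmn
  rw [Function.onFun, Set.disjoint_left]
  rintro _ ⟨x, rfl⟩ ⟨y, hy⟩
  apply hmn
  change ((Z n).hom ≫ inj S n) y = ((Z m).hom ≫ inj S m) x at hy
  have h1 := congrArg (idx S M) hy
  rw [Scheme.Hom.comp_apply, Scheme.Hom.comp_apply, idx_inj, idx_inj] at h1
  exact h1.symm

/-- Local decomposition of the points of `H`. -/
theorem exists_local {X : Over S} (x : X ⟶ H Z) (p : X.left) : ∃ (V : X.left.Opens) (m : M) (x' : opn X V ⟶ Z m),
    p ∈ V ∧ x' ≫ r Z m = opnι X V ≫ x := by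
  obtain ⟨m, y, hy⟩ : ∃ (m : M) (y : (Z m).left), (Sigma.ι (fun m => (Z m).left) m) y = x.left p :=
    (sigmaOpenCover (fun m => (Z m).left)).exists_eq (x.left p)
  have ho : IsOpenImmersion (r Z m).left := inferInstanceAs (IsOpenImmersion (Sigma.ι (fun m => (Z m).left) m))
  let V : X.left.Opens := x.left ⁻¹ᵁ (r Z m).left.opensRange
  have hV : Set.range (opnι X V ≫ x).left ⊆ Set.range (r Z m).left := by
    rintro _ ⟨t, rfl⟩
    exact t.2
  obtain ⟨x', hx'⟩ := K530.OpenSub.exists_lift_open (r Z m) (opnι X V ≫ x) hV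
  exact ⟨V, m, x', ⟨y, hy⟩, hx'⟩

/-- Points of the constant group lying locally in `H` come from `H`. -/
theorem exists_lift [∀ m, IsOpenImmersion (Z m).hom] {X : Over S} (x : X ⟶ cst S M)
    (h : ∀ p : X.left, ∃ (V : X.left.Opens) (t : opn X V ⟶ H Z), p ∈ V ∧ t ≫ j Z = opnι X V ≫ x) :
    ∃ t : X ⟶ H Z, t ≫ j Z = x := by
  have := isOpenImmersion_j Z
  refine K530.OpenSub.exists_lift_open (j Z) x ?_
  rintro _ ⟨p, rfl⟩
  obtain ⟨V, t, hp, ht⟩ := h p
  refine ⟨t.left ⟨p, hp⟩, ?_⟩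
  rw [← Scheme.Hom.comp_apply, ← Over.comp_left, ht, Over.comp_left, Scheme.Hom.comp_apply]
  rfl

/-- Restriction to a smaller open. -/
noncomputable def res {X : Over S} {V W : X.left.Opens} (h : V ≤ W) : opn X V ⟶ opn X W :=
  Over.homMk (X.left.homOfLE h) (by simp)

theorem res_opnι {X : Over S} {V W : X.left.Opens} (h : V ≤ W) : res h ≫ opnι X W = opnι X V := by
  ext1
  exact X.left.homOfLE_ι h

/-- Common local decomposition of two points. -/
theorem exists_local₂ {X : Over S} (x y : X ⟶ H Z) (p : X.left) : ∃ (V : X.left.Opens) (m n : M)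
    (x' : opn X V ⟶ Z m) (y' : opn X V ⟶ Z n),
    p ∈ V ∧ x' ≫ r Z m = opnι X V ≫ x ∧ y' ≫ r Z n = opnι X V ≫ y := by
  obtain ⟨V, m, x', hp, hx⟩ := exists_local x p
  obtain ⟨W, n, y', hp', hy⟩ := exists_local y p
  refine ⟨V ⊓ W, m, n, res inf_le_left ≫ x', res inf_le_right ≫ y', ⟨hp, hp'⟩, ?_, ?_⟩
  · rw [Category.assoc, hx, ← Category.assoc, res_opnι]
  · rw [Category.assoc, hy, ← Category.assoc, res_opnι]

theorem unit_sec {X Y : Over S} (f : X ⟶ Y) (m : M) : f ≫ toUnit _ ≫ sec S m = toUnit _ ≫ sec S m := by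
  rw [← Category.assoc, toUnit_unique (f ≫ toUnit _) (toUnit _)]

/-- The main construction. -/
theorem main [CommGroup M] [GrpObj A] [Finite M] [∀ m, IsClosedImmersion (z m).left] [∀ m, IsOpenImmersion (Z m).hom]
    (hone : ∃ e : 𝟙_ (Over S) ⟶ Z 1, e ≫ z 1 = 1)
    (hinv : ∀ (m : M) (X : Over S) (x : X ⟶ Z m), ∃ w : X ⟶ Z m⁻¹, w ≫ z m⁻¹ = (x ≫ z m)⁻¹)
    (hmul : ∀ (m n : M) (X : Over S) (x : X ⟶ Z m) (y : X ⟶ Z n), ∃ w : X ⟶ Z (m * n),
      w ≫ z (m * n) = (x ≫ z m) * (y ≫ z n)) :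
    ∃ (H : Over S) (_ : GrpObj H) (_ : IsCommMonObj H) (j : H ⟶ cst S M) (φ : H ⟶ A) (r : ∀ m, Z m ⟶ H),
      IsMonHom j ∧ IsOpenImmersion j.left ∧ IsMonHom φ ∧ IsFinite φ.left ∧
      ∀ m, r m ≫ φ = z m ∧ r m ≫ j = toUnit _ ≫ sec S m := by
  have hj := isOpenImmersion_j Z
  have hjm : Mono (j Z) := by
    have : Mono (j Z).left := inferInstance
    exact Over.mono_of_mono_left _
  have secmul : ∀ (X : Over S) (m n : M), (toUnit X ≫ sec S m) * (toUnit X ≫ sec S n) = toUnit X ≫ sec S (m * n) := by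
    intro X m n
    rw [sec_mul, MonObj.comp_mul]
  have secone : ∀ (X : Over S), toUnit X ≫ sec S (1 : M) = 1 := by
    intro X
    rw [sec_one, MonObj.comp_one]
  have secinv : ∀ (X : Over S) (m : M), toUnit X ≫ sec S m⁻¹ = (toUnit X ≫ sec S m)⁻¹ := by
    intro X m
    rw [eq_inv_iff_mul_eq_one, secmul, inv_mul_cancel, secone]
  let P : ∀ X : Over S, Subgroup (X ⟶ cst S M) := fun X =>
    { carrier := {x | ∃ t : X ⟶ H Z, t ≫ j Z = x}
      mul_mem' := by
        rintro _ _ ⟨x, rfl⟩ ⟨y, rfl⟩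
        refine exists_lift _ fun p => ?_
        obtain ⟨V, m, n, x', y', hp, hx, hy⟩ := exists_local₂ x y p
        obtain ⟨w, hw⟩ := hmul m n _ x' y'
        refine ⟨V, w ≫ r Z _, hp, ?_⟩
        rw [Category.assoc, r_j, unit_sec, MonObj.comp_mul, ← Category.assoc, ← hx, ← Category.assoc, ← hy,
          Category.assoc, Category.assoc, r_j, r_j, unit_sec, unit_sec, secmul]
      one_mem' := by
        obtain ⟨e, he⟩ := hone
        refine ⟨toUnit X ≫ e ≫ r Z 1, ?_⟩
        rw [Category.assoc, Category.assoc, r_j, unit_sec, unit_sec, secone]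
      inv_mem' := by
        rintro _ ⟨x, rfl⟩
        refine exists_lift _ fun p => ?_
        obtain ⟨V, m, x', hp, hx⟩ := exists_local x p
        obtain ⟨w, hw⟩ := hinv m _ x'
        refine ⟨V, w ≫ r Z _, hp, ?_⟩
        rw [Category.assoc, r_j, unit_sec, GrpObj.comp_inv, ← Category.assoc, ← hx, Category.assoc, r_j, unit_sec,
          secinv] }
  obtain ⟨gH, hjh⟩ := Groth.Agent.Sga3.H828.SubgrpObj.exists_grpObj P (by
    rintro X Y f _ ⟨t, rfl⟩
    exact ⟨f ≫ t, Category.assoc _ _ _⟩) (j Z) (fun X x => Iff.rfl)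
  have hcomm : IsCommMonObj (H Z) := K267.DeligneSch.isCommMonObj_of_iso (j Z)
  refine ⟨H Z, gH, hcomm, j Z, φ z, r Z, hjh, hj, ?_, isFinite_φ z, fun m => ⟨r_φ z m, r_j m⟩⟩
  refine Groth.Agent.Sga7.H758.EndRing.isMonHom_of_mul _ fun {X} x y => ?_
  ext1
  refine ext_local fun p => ?_
  obtain ⟨V, m, n, x', y', hp, hx, hy⟩ := exists_local₂ x y p
  obtain ⟨w, hw⟩ := hmul m n _ x' y'
  refine ⟨V, hp, ?_⟩
  have key : opnι X V ≫ (x * y) = w ≫ r Z _ := by
    rw [← cancel_mono (j Z), Category.assoc, Category.assoc, MonObj.mul_comp, MonObj.comp_mul, ← Category.assoc, ← hx,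
      ← Category.assoc, ← hy, Category.assoc, Category.assoc, r_j, r_j, unit_sec, unit_sec, secmul, r_j, unit_sec]
  have key2 : opnι X V ≫ (x * y) ≫ φ z = opnι X V ≫ ((x ≫ φ z) * (y ≫ φ z)) := by
    rw [← Category.assoc, key, Category.assoc, r_φ, hw, MonObj.comp_mul, ← Category.assoc, ← hx,
      ← Category.assoc, ← hy, Category.assoc, Category.assoc, r_φ, r_φ]
  exact congrArg CommaMorphism.left key2

end K269.SecGlue
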