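import Groth.Prelude.Def_GmPts
import Groth.Agent.GrpSch.K269.PrimePair
import Groth.Agent.GrpSch.K269.FinSec
import Groth.Agent.GIT.K690.GeomQuot
import Groth.Agent.GIT.K690.Torsor
import Groth.Agent.SGA7.K565.ExtTools
import Groth.Agent.Sga3B.AffPts
import Groth.Agent.Sga3B.TorusAlgClosed
import Groth.Agent.SGA1.K151.TorsFpqc
import Groth.Agent.Etbase.FpqcDescent

/-!
# Central extensions of a finite group scheme over an algebraically closed field by the multiplicative group

* `exists_sec`: such an extension has a section (as schemes);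
* the cocycle `cc` and the commutator pairing `ee`.
-/

set_option autoImplicit false

universe u

open CategoryTheory CategoryTheory.Limits MonoidalCategory CartesianMonoidalCategory MonObj GrpObj AlgebraicGeometry

namespace K269.ThetaSec

open K565.ExtTools

section general

variable {S : Scheme.{u}} {G K M : Over S} [GrpObj G] [GrpObj K] [GrpObj M] {u : M ⟶ G} {v : G ⟶ K}
  (hex : NonAbH1.IsExactSeq Scheme.fppfPrecoverage u v)
  (hc : ∀ (T : Over S) (g : T ⟶ G) (t : T ⟶ M), g * (t ≫ u) = (t ≫ u) * g)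

include hex hc in
theorem isPullback_act [IsMonHom u] : IsPullback ((NonAbH1.trivialAction G).restrict u).act (snd M G) v v := by
  have hv := hex.2.1
  have hact : ∀ (T : Over S) (g : T ⟶ M) (x : T ⟶ G), lift g x ≫ ((NonAbH1.trivialAction G).restrict u).act =
      (g ≫ u) * x := by
    intro T g x
    change lift g x ≫ (u ▷ G) ≫ μ[G] = _
    rw [lift_whiskerRight_assoc, Hom.mul_def]
  rw [K690.Torsor.isPullback_act_iff]
  constructor
  · have h1 := hact (M ⊗ G) (fst M G) (snd M G)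
    rw [lift_fst_snd, Category.id_comp] at h1
    rw [h1, MonObj.mul_comp, Category.assoc, uv_one hex, _root_.one_mul]
  · intro T x x' hxx'
    obtain ⟨g, hg⟩ := exists_diff hex x' x hxx'.symm
    refine ⟨g, ?_, ?_⟩
    · beta_reduce
      rw [hact, ← hc, hg]
    · intro g' hg'
      have h1 : (g' ≫ u) * x' = x := by rw [← hact]; exact hg'
      rw [← hc, hg] at h1
      exact u_inj hex (mul_left_cancel h1)

end general

section sec

variable {k : Type u} [Field k] [IsAlgClosed k] {G K : Over (Spec (CommRingCat.of k))} [GrpObj G] [GrpObj K]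
  {u : Red.Gm (Spec (CommRingCat.of k)) ⟶ G} {v : G ⟶ K} (hex : NonAbH1.IsExactSeq Scheme.fppfPrecoverage u v)
  (hc : ∀ (T : Over (Spec (CommRingCat.of k))) (g : T ⟶ G) (t : T ⟶ Red.Gm (Spec (CommRingCat.of k))),
    g * (t ≫ u) = (t ≫ u) * g)

set_option backward.isDefEq.respectTransparency.types false in
theorem smooth_gm (S : Scheme.{u}) : Smooth (Red.Gm S).hom := by
  have h1 : Smooth (Red.diag (ULift.{u} ℤ) ℤ).hom := Groth.Agent.Sga3B.TorusAlgClosed.diag_smooth ℤ
  exact MorphismProperty.pullback_snd _ _ h1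

set_option backward.isDefEq.respectTransparency.types false in
theorem isAffineHom_gm (S : Scheme.{u}) : IsAffineHom (Red.Gm S).hom := by
  have h1 : IsAffineHom (Red.diag (ULift.{u} ℤ) ℤ).hom := Groth.Agent.Sga3B.TorusAlgClosed.diag_isAffineHom ℤ
  exact MorphismProperty.pullback_snd _ _ h1

include hex hc in
theorem exists_sec {B : Type u} [CommRing B] [Algebra k B] [Module.Finite k B] (e : K.left ≅ Spec (CommRingCat.of B)) :
    ∃ s : K ⟶ G, s ≫ v = 𝟙 K := by
  have hu := hex.1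
  have hcart := isPullback_act hex hc
  have hloc : NonAbH1.IsLocallyTrivialFor Scheme.fpqcPrecoverage (Over.mk v.left : Over K.left) := by
    obtain ⟨R, hR, h⟩ := hex.2.2.2.2
    exact ⟨R, Scheme.fppfPrecoverage_le_fpqcPrecoverage _ hR, h⟩
  have h1 : Smooth v.left := K690.GeomQuot.prop_of_torsor @Smooth hcart hloc (smooth_gm _)
  have h2 : IsAffineHom v.left := K690.GeomQuot.prop_of_torsor @IsAffineHom hcart hloc (isAffineHom_gm _)
  have h3 : Surjective v.left := K151.TorsFpqc.surjective_of_isLocallyTrivialFor hloc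
  obtain ⟨s, hs⟩ := FinSec.exists_section k v.left e
  refine ⟨Over.homMk s ?_, ?_⟩
  · rw [← Over.w v, ← Category.assoc, hs, Category.id_comp]
  · ext1
    exact hs

end sec

theorem grp_aux {Γ : Type*} [Group Γ] (sx sy a b z : Γ) (ca : ∀ g, a * g = g * a) (cb : ∀ g, b * g = g * b)
    (h : sx * sy = sy * sx * z) : sx * a * (sy * b) = sy * b * (sx * a) * z := by
  have e1 : sx * a * (sy * b) = sx * (a * sy) * b := by group
  have e2 : sy * b * (sx * a) * z = sy * (b * sx) * (a * z) := by group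
  rw [e1, e2, ca, cb, ca z]
  have e3 : sx * (sy * a) * b = sx * sy * (a * b) := by group
  have e4 : sy * (sx * b) * (z * a) = sy * sx * (b * (z * a)) := by group
  rw [e3, e4, h, ← ca z, ← _root_.mul_assoc b, cb a, _root_.mul_assoc a b z, cb z, ← _root_.mul_assoc a, ca z]
  group

section pairing

variable {S : Scheme.{u}} {G K M : Over S} [GrpObj G] [GrpObj K] [GrpObj M] {u : M ⟶ G} {v : G ⟶ K}
  (hex : NonAbH1.IsExactSeq Scheme.fppfPrecoverage u v)
  (hM : ∀ (T : Over S) (a b : T ⟶ M), a * b = b * a)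
  (hc : ∀ (T : Over S) (g : T ⟶ G) (t : T ⟶ M), g * (t ≫ u) = (t ≫ u) * g)
  {s : K ⟶ G} (hs : s ≫ v = 𝟙 K)

include hex hs in
theorem exists_cc {T : Over S} (x y : T ⟶ K) :
    ∃ t : T ⟶ M, (x ≫ s) * (y ≫ s) = ((x * y) ≫ s) * (t ≫ u) := by
  have hv := hex.2.1
  refine exists_diff hex _ _ ?_
  rw [MonObj.mul_comp (x ≫ s) (y ≫ s) v, Category.assoc, Category.assoc, Category.assoc, hs, Category.comp_id,
    Category.comp_id, Category.comp_id]

/-- the cocycle of a section -/
noncomputable def cc {T : Over S} (x y : T ⟶ K) : T ⟶ M := (exists_cc hex hs x y).choose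

theorem cc_spec {T : Over S} (x y : T ⟶ K) :
    (x ≫ s) * (y ≫ s) = ((x * y) ≫ s) * (cc hex hs x y ≫ u) := (exists_cc hex hs x y).choose_spec

theorem comp_cc {T T' : Over S} (f : T' ⟶ T) (x y : T ⟶ K) :
    f ≫ cc hex hs x y = cc hex hs (f ≫ x) (f ≫ y) := by
  apply u_inj hex
  apply mul_left_cancel (a := ((f ≫ x) * (f ≫ y)) ≫ s)
  have h1 := congrArg (fun w => f ≫ w) (cc_spec hex hs x y)
  beta_reduce at h1
  rw [MonObj.comp_mul, MonObj.comp_mul, ← Category.assoc, ← Category.assoc, ← Category.assoc, ← Category.assoc,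
    MonObj.comp_mul] at h1
  rw [← h1, cc_spec hex hs (f ≫ x) (f ≫ y)]

/-- the commutator pairing -/
noncomputable def ee {T : Over S} (x y : T ⟶ K) : T ⟶ M := cc hex hs x y * (cc hex hs y x)⁻¹

theorem comp_ee {T T' : Over S} (f : T' ⟶ T) (x y : T ⟶ K) :
    f ≫ ee hex hs x y = ee hex hs (f ≫ x) (f ≫ y) := by
  rw [ee, MonObj.comp_mul, GrpObj.comp_inv, comp_cc, comp_cc, ee]

theorem ee_mul_cc {T : Over S} (x y : T ⟶ K) : ee hex hs x y * cc hex hs y x = cc hex hs x y := by
  rw [ee, inv_mul_cancel_right]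

theorem ee_mul_ee {T : Over S} (x y : T ⟶ K) : ee hex hs x y * ee hex hs y x = 1 := by
  rw [ee, ee]; group

variable [IsCommMonObj K]

include hM hc in
theorem comm_eq {T : Over S} (X Y : T ⟶ G) :
    X * Y = Y * X * (ee hex hs (X ≫ v) (Y ≫ v) ≫ u) := by
  have hu := hex.1
  have hv := hex.2.1
  obtain ⟨a, ha⟩ := exists_diff hex ((X ≫ v) ≫ s) X (by
    rw [Category.assoc, hs, Category.comp_id])
  obtain ⟨b, hb⟩ := exists_diff hex ((Y ≫ v) ≫ s) Y (by
    rw [Category.assoc, hs, Category.comp_id])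
  have h1 := cc_spec hex hs (X ≫ v) (Y ≫ v)
  have h2 := cc_spec hex hs (Y ≫ v) (X ≫ v)
  rw [mul_comm (Y ≫ v)] at h2
  have h3 : (((X ≫ v) ≫ s) * ((Y ≫ v) ≫ s)) =
      ((Y ≫ v) ≫ s) * ((X ≫ v) ≫ s) * (ee hex hs (X ≫ v) (Y ≫ v) ≫ u) := by
    rw [h1, h2, _root_.mul_assoc, ← MonObj.mul_comp _ _ u, hM T (cc hex hs (Y ≫ v) (X ≫ v)), ee_mul_cc]
  rw [ha, hb]
  have h4 : (((X ≫ v) ≫ s) * (a ≫ u)) ≫ v = X ≫ v := by rw [← ha]
  have h5 : (((Y ≫ v) ≫ s) * (b ≫ u)) ≫ v = Y ≫ v := by rw [← hb]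
  rw [h4, h5]
  exact grp_aux _ _ _ _ _ (fun g => (hc T g a).symm) (fun g => (hc T g b).symm) h3

include hM hc in
theorem ee_eq_of {T : Over S} (X Y : T ⟶ G) (z : T ⟶ M) (h : X * Y = Y * X * (z ≫ u)) :
    ee hex hs (X ≫ v) (Y ≫ v) = z := by
  apply u_inj hex
  rw [comm_eq hex hM hc hs X Y] at h
  exact mul_left_cancel h

include hM hc in
theorem ee_mul_left {T : Over S} (x x' y : T ⟶ K) :
    ee hex hs (x * x') y = ee hex hs x y * ee hex hs x' y := by
  have hu := hex.1
  have hv := hex.2.1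
  have e1 : ∀ x : T ⟶ K, (x ≫ s) ≫ v = x := fun x => by rw [Category.assoc, hs, Category.comp_id]
  have h := ee_eq_of hex hM hc hs ((x ≫ s) * (x' ≫ s)) (y ≫ s) (ee hex hs x y * ee hex hs x' y) (by
    have h1 := comm_eq hex hM hc hs (x ≫ s) (y ≫ s)
    have h2 := comm_eq hex hM hc hs (x' ≫ s) (y ≫ s)
    rw [e1, e1] at h1 h2
    rw [_root_.mul_assoc, h2, ← _root_.mul_assoc, ← _root_.mul_assoc, h1, MonObj.mul_comp]
    have h3 := hc T (x' ≫ s) (ee hex hs x y)
    rw [_root_.mul_assoc (y ≫ s * x ≫ s), ← h3]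
    group)
  rw [MonObj.mul_comp, e1, e1, e1] at h
  exact h

include hM hc in
theorem ee_mul_right {T : Over S} (x y y' : T ⟶ K) :
    ee hex hs x (y * y') = ee hex hs x y * ee hex hs x y' := by
  have h1 : ∀ y, ee hex hs x y = (ee hex hs y x)⁻¹ := fun y => eq_inv_of_mul_eq_one_left (ee_mul_ee hex hs x y)
  rw [h1 (y * y'), ee_mul_left hex hM hc hs, _root_.mul_inv_rev, hM T, ← h1, ← h1]

end pairing

section final

open Groth.Agent.Books.AffBridge Groth.Agent.Sga3B.AffPts TensorProduct WithConv K269.PrimePair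

variable {k : Type u} [Field k]

/-- The function of a point of the multiplicative group. -/
noncomputable def fn {T : Over (Spec (CommRingCat.of k))} (t : T ⟶ Red.Gm (Spec (CommRingCat.of k))) : Fn T :=
  Red.gmFn t

theorem fn_mul {T : Over (Spec (CommRingCat.of k))} (t t' : T ⟶ Red.Gm (Spec (CommRingCat.of k))) :
    fn (t * t') = fn t * fn t' := GmPts.gmFn_mul t t'

theorem fn_one {T : Over (Spec (CommRingCat.of k))} :
    fn (1 : T ⟶ Red.Gm (Spec (CommRingCat.of k))) = 1 := GmPts.gmFn_one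

theorem isUnit_fn {T : Over (Spec (CommRingCat.of k))} (t : T ⟶ Red.Gm (Spec (CommRingCat.of k))) :
    IsUnit (fn t) := GmPts.isUnit_gmFn t

theorem fn_inj {T : Over (Spec (CommRingCat.of k))} {t t' : T ⟶ Red.Gm (Spec (CommRingCat.of k))}
    (h : fn t = fn t') : t = t' := GmPts.gmFn_injective h

theorem fn_comp {T T' : Over (Spec (CommRingCat.of k))} (g : T' ⟶ T) (t : T ⟶ Red.Gm (Spec (CommRingCat.of k))) :
    fn (g ≫ t) = fnMap g (fn t) := GmPts.gmFn_comp g t

theorem fnSpec_fnMap {A R : Type u} [CommRing A] [Algebra k A] [CommRing R] [Algebra k R] (φ : A →ₐ[k] R)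
    (z : Fn (SpecOver k A)) : fnSpec (R := k) R (fnMap (specMap k φ) z) = φ (fnSpec (R := k) A z) := by
  exact (congr(CommRingCat.Hom.hom $(Scheme.ΓSpecIso_naturality (CommRingCat.ofHom (φ : A →+* R))) z))

variable {G K : Over (Spec (CommRingCat.of k))} [GrpObj G] [GrpObj K]
  {u : Red.Gm (Spec (CommRingCat.of k)) ⟶ G} {v : G ⟶ K} (hex : NonAbH1.IsExactSeq Scheme.fppfPrecoverage u v)
  (hc : ∀ (T : Over (Spec (CommRingCat.of k))) (g : T ⟶ G) (t : T ⟶ Red.Gm (Spec (CommRingCat.of k))),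
    g * (t ≫ u) = (t ≫ u) * g)
  {s : K ⟶ G} (hs : s ≫ v = 𝟙 K) {B : Type u} [CommRing B] [HopfAlgebra k B] (q : K ≅ SpecOver k B)

/-- first universal point -/
noncomputable abbrev x₀ : SpecOver k (B ⊗[k] B) ⟶ K :=
  specMap k (Algebra.TensorProduct.includeLeft : B →ₐ[k] B ⊗[k] B) ≫ q.inv

/-- second universal point -/
noncomputable abbrev y₀ : SpecOver k (B ⊗[k] B) ⟶ K :=
  specMap k (Algebra.TensorProduct.includeRight : B →ₐ[k] B ⊗[k] B) ≫ q.inv

omit [GrpObj K] in
theorem specMap_x₀ {R : Type u} [CommRing R] [Algebra k R] (f g : B →ₐ[k] R) :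
    specMap k (Algebra.TensorProduct.productMap f g) ≫ x₀ q = specMap k f ≫ q.inv := by
  rw [← Category.assoc, ← specMap_comp, Algebra.TensorProduct.productMap_left]

omit [GrpObj K] in
theorem specMap_y₀ {R : Type u} [CommRing R] [Algebra k R] (f g : B →ₐ[k] R) :
    specMap k (Algebra.TensorProduct.productMap f g) ≫ y₀ q = specMap k g ≫ q.inv := by
  rw [← Category.assoc, ← specMap_comp, Algebra.TensorProduct.productMap_right]

/-- the cocycle as an element of `B ⊗ B` -/
noncomputable def cEl : B ⊗[k] B := fnSpec (R := k) (B ⊗[k] B) (fn (cc hex hs (x₀ q) (y₀ q)))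

/-- the pairing as an element of `B ⊗ B` -/
noncomputable def eEl : B ⊗[k] B := fnSpec (R := k) (B ⊗[k] B) (fn (ee hex hs (x₀ q) (y₀ q)))

theorem productMap_cEl {R : Type u} [CommRing R] [Algebra k R] (f g : B →ₐ[k] R) :
    Algebra.TensorProduct.productMap f g (cEl hex hs q) =
      fnSpec (R := k) R (fn (cc hex hs (specMap k f ≫ q.inv) (specMap k g ≫ q.inv))) := by
  rw [cEl, ← fnSpec_fnMap, ← fn_comp, comp_cc, specMap_x₀, specMap_y₀]

theorem productMap_eEl {R : Type u} [CommRing R] [Algebra k R] (f g : B →ₐ[k] R) :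
    Algebra.TensorProduct.productMap f g (eEl hex hs q) =
      fnSpec (R := k) R (fn (ee hex hs (specMap k f ≫ q.inv) (specMap k g ≫ q.inv))) := by
  rw [eEl, ← fnSpec_fnMap, ← fn_comp, comp_ee, specMap_x₀, specMap_y₀]

theorem isUnit_cEl : IsUnit (cEl hex hs q) := (isUnit_fn _).map (fnSpec (R := k) (B ⊗[k] B))

theorem eEl_mul : eEl hex hs q * Algebra.TensorProduct.comm k B B (cEl hex hs q) = cEl hex hs q := by
  have h1 : Algebra.TensorProduct.comm k B B (cEl hex hs q) =
      fnSpec (R := k) (B ⊗[k] B) (fn (cc hex hs (y₀ q) (x₀ q))) := by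
    rw [← productMap_cEl]
    have h2 : (Algebra.TensorProduct.comm k B B : B ⊗[k] B →ₐ[k] B ⊗[k] B) =
        Algebra.TensorProduct.productMap Algebra.TensorProduct.includeRight Algebra.TensorProduct.includeLeft := by
      ext <;> simp
    exact AlgHom.congr_fun h2 _
  rw [h1, eEl, cEl, ← map_mul, ← fn_mul, ee_mul_cc]

theorem hM (T : Over (Spec (CommRingCat.of k))) (a b : T ⟶ Red.Gm (Spec (CommRingCat.of k))) : a * b = b * a := by
  apply fn_inj
  rw [fn_mul, fn_mul, mul_comm]

include hc in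
theorem isBichar [IsCommMonObj K] [IsMonHom q.hom] : IsBichar (eEl hex hs q) where
  unit := (isUnit_fn _).map (fnSpec (R := k) (B ⊗[k] B))
  mul_left := by
    intro R _ _ g g' h
    rw [productMap_eEl, productMap_eEl, productMap_eEl, specMap_mul, MonObj.mul_comp, ee_mul_left hex hM hc hs, fn_mul,
      map_mul]
  mul_right := by
    intro R _ _ g h h'
    rw [productMap_eEl, productMap_eEl, productMap_eEl, specMap_mul, MonObj.mul_comp, ee_mul_right hex hM hc hs, fn_mul,
      map_mul]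

include hex hc hs in
/-- Commutativity. -/
theorem comm_of_prime [IsAlgClosed k] [IsCommMonObj K] [IsMonHom q.hom] [Module.Finite k B]
    (hp : (Module.finrank k B).Prime) (T : Over (Spec (CommRingCat.of k))) (X Y : T ⟶ G) : X * Y = Y * X := by
  have h1 : eEl hex hs q = 1 := eq_one (isBichar hex hc hs q) hp (isUnit_cEl hex hs q) (eEl_mul hex hs q)
  have h2 : ee hex hs (x₀ q) (y₀ q) = 1 := by
    apply fn_inj
    apply (fnSpec (R := k) (B ⊗[k] B)).injective
    rw [fn_one, map_one]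
    exact h1
  obtain ⟨f, hf⟩ := (affPt_bijective (A := B) T).2 ((X ≫ v) ≫ q.hom)
  obtain ⟨g, hg⟩ := (affPt_bijective (A := B) T).2 ((Y ≫ v) ≫ q.hom)
  have h3 : affPt T (Algebra.TensorProduct.productMap f g) ≫ x₀ q = X ≫ v := by
    rw [x₀, ← Category.assoc, affPt_specMap, Algebra.TensorProduct.productMap_left, hf, Category.assoc, Iso.hom_inv_id,
      Category.comp_id]
  have h4 : affPt T (Algebra.TensorProduct.productMap f g) ≫ y₀ q = Y ≫ v := by
    rw [y₀, ← Category.assoc, affPt_specMap, Algebra.TensorProduct.productMap_right, hg, Category.assoc,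
      Iso.hom_inv_id, Category.comp_id]
  have hu := hex.1
  rw [comm_eq hex hM hc hs X Y, ← h3, ← h4, ← comp_ee, h2, MonObj.comp_one, MonObj.one_comp, _root_.mul_one]

end final

end K269.ThetaSec
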