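import Groth.Agent.GrpSch.K269.SecGlue
import Groth.Agent.GrpSch.K269.PowLqf
import Groth.Agent.S4809
import Groth.Agent.S4367
import Groth.Agent.CycB.ImageInt

/-!
# Closures of torsion points of the generic fibre over a normal base
-/

set_option autoImplicit false
universe u
open CategoryTheory MonoidalCategory CartesianMonoidalCategory MonObj GrpObj AlgebraicGeometry Limits Opposite

namespace K269.TorsClos

open K530.ConstGrp Groth.Agent

section basic

variable {S : Scheme.{u}} {E : Over S}

theorem qc_of_subsingleton {X Y : Scheme.{u}} [Subsingleton Y] (f : Y ⟶ X) : QuasiCompact f :=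
  ⟨fun _ _ _ => Set.Finite.isCompact (Set.toFinite _)⟩

variable {A : Over S} (t : E ⟶ A)

/-- The closure of a point of the generic fibre. -/
noncomputable def Zt : Over S := Over.mk (t.left.imageι ≫ A.hom)

/-- The inclusion of the closure. -/
noncomputable def zt : Zt t ⟶ A := Over.homMk t.left.imageι rfl

/-- The point of the closure. -/
noncomputable def et : E ⟶ Zt t := Over.homMk t.left.toImage (by
  change t.left.toImage ≫ t.left.imageι ≫ A.hom = E.hom
  rw [Scheme.Hom.toImage_imageι_assoc, Over.w])

theorem et_zt : et t ≫ zt t = t := by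
  ext1
  exact Scheme.Hom.toImage_imageι _

instance isClosedImmersion_zt : IsClosedImmersion (zt t).left :=
  inferInstanceAs (IsClosedImmersion t.left.imageι)

instance isIntegral_Zt [IsIntegral E.left] [Subsingleton E.left] : IsIntegral (Zt t).left := by
  have := qc_of_subsingleton t.left
  exact CycB.ImageInt.isIntegral_image t.left

instance isDominant_et [Subsingleton E.left] : IsDominant (et t).left := by
  have := qc_of_subsingleton t.left
  exact inferInstanceAs (IsDominant t.left.toImage)

theorem et_genericPoint [IsIntegral E.left] [Subsingleton E.left] :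
    (et t).left (genericPoint E.left) = genericPoint (Zt t).left := by
  have := qc_of_subsingleton t.left
  have h3 : IsIntegral t.left.image := isIntegral_Zt t
  exact CycB.ImageInt.toImage_genericPoint t.left

/-- Factorisation through the closure. -/
theorem exists_factor {X : Over S} [IsReduced X.left] (e : E ⟶ X) [IsDominant e.left] (σ : X ⟶ A)
    (h : e ≫ σ = t) : ∃ w : X ⟶ Zt t, w ≫ zt t = σ := by
  obtain ⟨w, hw⟩ := S4367.result σ.left (zt t).left (by
    have h1 : IsClosed (Set.range (zt t).left) := (zt t).left.isClosedEmbedding.isClosed_range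
    have h2 : Set.range t.left ⊆ Set.range (zt t).left := by
      rintro _ ⟨x, rfl⟩
      refine ⟨(et t).left x, ?_⟩
      rw [← Scheme.Hom.comp_apply, ← Over.comp_left, et_zt]
    rintro _ ⟨x, rfl⟩
    have h3 : x ∈ closure (Set.range e.left) := by
      rw [e.left.denseRange.closure_range]; trivial
    have h4 := image_closure_subset_closure_image σ.left.continuous (Set.mem_image_of_mem σ.left h3)
    refine closure_minimal ?_ h1 h4
    rintro _ ⟨_, ⟨y, rfl⟩, rfl⟩
    apply h2
    rw [← Scheme.Hom.comp_apply, ← Over.comp_left, h]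
    exact ⟨y, rfl⟩)
  exact ⟨Over.homMk w (by
    rw [← Over.w (zt t), ← Category.assoc, hw, Over.w]), by ext1; exact hw⟩

theorem hom_ext_of_mono {X Z : Over S} [Mono Z.hom] (f f' : X ⟶ Z) : f = f' := by
  ext1
  rw [← cancel_mono Z.hom, Over.w, Over.w]

end basic

theorem isIso_of_comp_mono {C : Type*} [Category C] {X Y Z : C} (a : X ⟶ Y) (b : Y ⟶ Z) (h : IsIso (a ≫ b))
    (hb : Mono b) : IsIso a := by
  have h7 : IsSplitEpi b := ⟨⟨⟨inv (a ≫ b) ≫ a, by rw [Category.assoc, IsIso.inv_hom_id]⟩⟩⟩
  have h8 : IsIso b := isIso_of_mono_of_isSplitEpi _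
  exact IsIso.of_isIso_comp_right a b

section normal

variable {S : Scheme.{u}} [IsIntegral S] (hN : ∀ s : S, IsIntegrallyClosed (S.presheaf.stalk s))
  {E : Over S} [IsIntegral E.left] [Subsingleton E.left]
  (hg : E.hom (genericPoint E.left) = genericPoint S)
  (hgs : IsIso (E.hom.stalkMap (genericPoint E.left)))
  {A : Over S} [GrpObj A] [IsSeparated A.hom] [LocallyOfFiniteType A.hom] (N : ℕ)
  (hlqf : LocallyQuasiFinite ((𝟙 A : A ⟶ A) ^ N).left)

include hN hg hgs hlqf

theorem isOpenImmersion_hom (t : E ⟶ A) (ht : t ^ N = 1) : IsOpenImmersion (Zt t).hom := by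
  have h1 : (zt t) ^ N = 1 := by
    ext1
    refine ext_of_isDominant_of_isSeparated A.hom ?_ (et t).left ?_
    · rw [Over.w, Over.w]
    · have h2 : et t ≫ (zt t) ^ N = et t ≫ 1 := by
        rw [MonObj.comp_pow, et_zt, ht, MonObj.comp_one]
      exact congrArg CommaMorphism.left h2
  have h2 : LocallyQuasiFinite (Zt t).hom := by
    have h3 : (zt t).left ≫ ((𝟙 A : A ⟶ A) ^ N).left = (toUnit (Zt t)).left ≫ η[A].left := by
      have h4 : zt t ≫ ((𝟙 A : A ⟶ A) ^ N) = toUnit _ ≫ η[A] := by
        rw [MonObj.comp_pow, Category.comp_id, h1, Hom.one_def]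
      exact congrArg CommaMorphism.left h4
    have h5 : LocallyQuasiFinite ((zt t).left ≫ ((𝟙 A : A ⟶ A) ^ N).left) := inferInstance
    rw [h3] at h5
    exact LocallyQuasiFinite.of_comp (toUnit (Zt t)).left η[A].left
  have h3 : LocallyOfFiniteType (Zt t).hom := by
    rw [← Over.w (zt t)]; infer_instance
  have h4 : IsSeparated (Zt t).hom := by
    rw [← Over.w (zt t)]; infer_instance
  have hgen : (Zt t).hom (genericPoint (Zt t).left) = genericPoint S := by
    rw [← et_genericPoint, ← Scheme.Hom.comp_apply, Over.w, ← hg]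
  refine (S4809.result hN (Zt t).hom hgen ?_).2 h4
  rw [← et_genericPoint]
  have h5 : IsIso (((et t).left ≫ (Zt t).hom).stalkMap (genericPoint E.left)) := by
    rw [Over.w]; exact hgs
  rw [Scheme.Hom.stalkMap_comp] at h5
  have h6 : Mono ((et t).left.stalkMap (genericPoint E.left)) := by
    refine ConcreteCategory.mono_of_injective _ ?_
    have hF : IsField ((Zt t).left.presheaf.stalk ((et t).left (genericPoint E.left))) := by
      rw [et_genericPoint]
      exact Field.toIsField (Zt t).left.functionField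
    let := hF.toField
    exact RingHom.injective ((et t).left.stalkMap (genericPoint E.left)).hom
  exact isIso_of_comp_mono _ _ h5 h6

/-- A point of the generic fibre killed by `N` is determined by its image. -/
theorem eq_of_mem (t t' : E ⟶ A) (ht : t ^ N = 1)
    (h : t'.left (genericPoint E.left) = t.left (genericPoint E.left)) : t' = t := by
  have h1 := isOpenImmersion_hom hN hg hgs N hlqf t ht
  obtain ⟨w, hw⟩ := S4367.result t'.left (zt t).left (by
    rintro _ ⟨x, rfl⟩
    rw [Subsingleton.elim x (genericPoint E.left), h]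
    refine ⟨(et t).left (genericPoint E.left), ?_⟩
    rw [← Scheme.Hom.comp_apply, ← Over.comp_left, et_zt])
  let w' : E ⟶ Zt t := Over.homMk w (by rw [← Over.w (zt t), ← Category.assoc, hw, Over.w])
  have h2 : w' ≫ zt t = t' := by ext1; exact hw
  rw [← h2, hom_ext_of_mono w' (et t), et_zt]

theorem finite_torsion [QuasiCompact A.hom] : Finite {t : E ⟶ A // t ^ N = 1} := by
  have hqc : QuasiCompact ((𝟙 A : A ⟶ A) ^ N).left := by
    have : QuasiCompact (((𝟙 A : A ⟶ A) ^ N).left ≫ A.hom) := by rw [Over.w]; infer_instance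
    exact QuasiCompact.of_comp _ A.hom
  have hfin := ((𝟙 A : A ⟶ A) ^ N).left.finite_preimage_singleton ((1 : E ⟶ A).left (genericPoint E.left))
  have hf := hfin.to_subtype
  refine Finite.of_injective (β := ↥(((𝟙 A : A ⟶ A) ^ N).left ⁻¹' {(1 : E ⟶ A).left (genericPoint E.left)}))
    (fun t => ⟨t.1.left (genericPoint E.left), ?_⟩) ?_
  · change ((𝟙 A : A ⟶ A) ^ N).left (t.1.left (genericPoint E.left)) = _
    rw [← Scheme.Hom.comp_apply, ← Over.comp_left, MonObj.comp_pow, Category.comp_id, t.2]
  · intro t t' h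
    exact Subtype.ext (eq_of_mem hN hg hgs N hlqf t'.1 t.1 t'.2 (congrArg Subtype.val h))

omit hN hgs hlqf in
theorem isDominant_of_open {X : Over S} [IsOpenImmersion X.hom] (e : E ⟶ X) :
    IsReduced X.left ∧ IsDominant e.left := by
  have hne : Nonempty X.left := ⟨e.left (genericPoint E.left)⟩
  have hX : IsIntegral X.left := isIntegral_of_isOpenImmersion X.hom
  have h1 : e.left (genericPoint E.left) = genericPoint X.left := by
    apply X.hom.injective
    rw [← Scheme.Hom.comp_apply, Over.w, hg]
    exact (genericPoint_eq_of_isOpenImmersion X.hom).symm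
  refine ⟨inferInstance, ⟨?_⟩⟩
  rw [denseRange_iff_closure_range]
  refine Set.eq_univ_of_forall fun x => ?_
  have h2 : genericPoint X.left ⤳ x := genericPoint_specializes x
  have h3 : genericPoint X.left ∈ Set.range e.left := ⟨_, h1⟩
  exact closure_mono (Set.singleton_subset_iff.mpr h3) h2.mem_closure

variable (E A) in
/-- The `N`-torsion subgroup. -/
noncomputable abbrev Tor [IsCommMonObj A] (N : ℕ) : Subgroup (E ⟶ A) := (powMonoidHom N : (E ⟶ A) →* (E ⟶ A)).ker

/-- The open subgroup of the constant group of torsion points over which the torsion points extend. -/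
theorem exists_open_subgroup [IsCommMonObj A] [QuasiCompact A.hom] [Finite (Tor E A N)] :
    ∃ (H : Over S) (_ : GrpObj H) (_ : IsCommMonObj H) (j : H ⟶ cst S (Tor E A N)) (φ : H ⟶ A),
      IsMonHom j ∧ IsOpenImmersion j.left ∧ IsMonHom φ ∧ IsFinite φ.left ∧
      ∀ t : Tor E A N, ∃ e : E ⟶ H, e ≫ φ = t.1 ∧ e ≫ j = toUnit _ ≫ sec S t := by
  have hop : ∀ t : Tor E A N, IsOpenImmersion (Zt t.1).hom := fun t =>
    isOpenImmersion_hom hN hg hgs N hlqf t.1 t.2
  obtain ⟨H, gH, cH, j, φ, r, h1, h2, h3, h4, h5⟩ := SecGlue.main (M := Tor E A N) (A := A) (Z := fun t => Zt t.1)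
    (fun t => zt t.1) (by
      have hX : IsOpenImmersion (𝟙_ (Over S)).hom := inferInstanceAs (IsOpenImmersion (𝟙 S))
      obtain ⟨i1, i2⟩ := isDominant_of_open hg (toUnit E)
      exact exists_factor (1 : Tor E A N).1 (toUnit E) 1 (by rw [MonObj.comp_one]; rfl)) (by
      intro m X x
      have := hop m
      obtain ⟨i1, i2⟩ := isDominant_of_open hg (et m.1)
      obtain ⟨w, hw⟩ := exists_factor (m⁻¹).1 (et m.1) (zt m.1)⁻¹ (by rw [GrpObj.comp_inv, et_zt]; rfl)
      exact ⟨x ≫ w, by rw [Category.assoc, hw, GrpObj.comp_inv]⟩) (by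
      intro m n X x y
      have := hop m
      have := hop n
      have hX : IsOpenImmersion (Zt m.1 ⊗ Zt n.1).hom := by
        rw [Over.tensorObj_hom]; infer_instance
      obtain ⟨i1, i2⟩ := isDominant_of_open hg (lift (et m.1) (et n.1))
      obtain ⟨w, hw⟩ := exists_factor (m * n).1 (lift (et m.1) (et n.1)) ((fst _ _ ≫ zt m.1) * (snd _ _ ≫ zt n.1)) (by
        rw [MonObj.comp_mul, lift_fst_assoc, lift_snd_assoc, et_zt, et_zt]; rfl)
      exact ⟨lift x y ≫ w, by
        rw [Category.assoc, hw, MonObj.comp_mul, lift_fst_assoc, lift_snd_assoc]⟩)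
  refine ⟨H, gH, cH, j, φ, h1, h2, h3, h4, fun t => ⟨et t.1 ≫ r t, ?_, ?_⟩⟩
  · rw [Category.assoc, (h5 t).1, et_zt]
  · rw [Category.assoc, (h5 t).2, SecGlue.unit_sec]

end normal

end K269.TorsClos
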